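import Cfsg.Agent.H470.EPK.ParOfVJ
import Cfsg.Agent.H209.EPX.Defs_m3
import Cfsg.Agent.KFacts.RgdLieCharP
import Cfsg.Agent.FastGrp
import Cfsg.Agent.Prune
set_option linter.all false

section
prune_inst 0x7f00000000000000000000000000000000000000000000000000000000000000000000000000000000000000000000000000000000000000000000000000000000000000000000000000000000000000003fffffffffffffffffffffffffffbeffbdffffffff

-- part: H737/EPO/PSys
section
set_option linter.all false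
open scoped Cfsg.Agent.FastGrp

/-!
# S5745 / S3499, OWN characteristic: parabolic systems (helper737)

* `PSys Y p I` : the parabolic subgroups `P J` and their unipotent radicals `V J` in a group `Y`, all that the
  `H`-side needs (overgroups of `B = P ∅`, `V_J ≤ gP_Lg⁻¹ → g ∈ P_J P_L`, the canonical parabolic over an overgroup
  of `V_J`);
* `ofRGD` : a root group datum with Borel–Tits gives a `PSys`.
-/

set_option autoImplicit false
set_option linter.unusedSectionVars false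

namespace Cfsg.Agent.H737.EPO

open Cfsg.Agent.H284

/-- A parabolic system of type `I` in the group `Y`, characteristic `p`. -/
structure PSys (Y : Type*) [Group Y] (p : ℕ) (I : Type*) where
  P : Set I → Subgroup Y
  V : Set I → Subgroup Y
  P_univ : P Set.univ = ⊤
  P_le_iff : ∀ {J L : Set I}, P J ≤ P L ↔ J ⊆ L
  ov : ∀ L : Subgroup Y, P ∅ ≤ L → ∃ J, L = P J
  V_anti : ∀ {J L : Set I}, J ⊆ L → V L ≤ V J
  V_le : ∀ J, V J ≤ P J
  V_norm : ∀ J, P J ≤ Subgroup.normalizer (V J : Set Y)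
  U_norm : Subgroup.normalizer (V ∅ : Set Y) = P ∅
  U_p : IsPGroup p (V ∅)
  U_max : ∀ S : Subgroup Y, V ∅ ≤ S → IsPGroup p S → S = V ∅
  V_max : ∀ {J : Set I} {D : Subgroup Y}, D ≤ P J → IsPGroup p D → (∀ g ∈ P J, ∀ d ∈ D, g * d * g⁻¹ ∈ D) → D ≤ V J
  dec : ∀ {J L : Set I} {g : Y}, V J ≤ cj g (P L) → ∃ a ∈ P J, ∃ b ∈ P L, g = a * b
  canon : ∀ {K : Subgroup Y}, K ≠ ⊤ → ∀ {J : Set I}, J ≠ Set.univ → ∀ {g : Y}, cj g (V J) ≤ K →
    ∃ (J' : Set I) (g' : Y), J' ≠ Set.univ ∧ K ≤ cj g' (P J') ∧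
      ∀ φ : MulAut Y, (∀ k ∈ K, φ k ∈ K) → ∀ x ∈ cj g' (P J'), φ x ∈ cj g' (P J')

namespace PSys

variable {Y : Type*} [Group Y] {p : ℕ} {I : Type*} (S : PSys Y p I)

theorem P_mono {J L : Set I} (h : J ⊆ L) : S.P J ≤ S.P L := S.P_le_iff.2 h

theorem P_inj {J L : Set I} (h : S.P J = S.P L) : J = L :=
  Set.Subset.antisymm (S.P_le_iff.1 h.le) (S.P_le_iff.1 h.ge)

theorem P_ne_top {J : Set I} (h : J ≠ Set.univ) : S.P J ≠ ⊤ := fun e => h (S.P_inj (e.trans S.P_univ.symm))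

theorem P_sup (J L : Set I) : S.P J ⊔ S.P L = S.P (J ∪ L) := by
  obtain ⟨K, hK⟩ := S.ov (S.P J ⊔ S.P L) ((S.P_mono (Set.empty_subset J)).trans le_sup_left)
  apply le_antisymm
  · exact sup_le (S.P_mono Set.subset_union_left) (S.P_mono Set.subset_union_right)
  · rw [hK]
    refine S.P_mono (Set.union_subset (S.P_le_iff.1 ?_) (S.P_le_iff.1 ?_))
    · rw [← hK]; exact le_sup_left
    · rw [← hK]; exact le_sup_right

theorem P_inf (J L : Set I) : S.P J ⊓ S.P L = S.P (J ∩ L) := by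
  obtain ⟨K, hK⟩ := S.ov (S.P J ⊓ S.P L) (le_inf (S.P_mono (Set.empty_subset J)) (S.P_mono (Set.empty_subset L)))
  apply le_antisymm
  · rw [hK]
    refine S.P_mono (Set.subset_inter (S.P_le_iff.1 ?_) (S.P_le_iff.1 ?_))
    · rw [← hK]; exact inf_le_left
    · rw [← hK]; exact inf_le_right
  · exact le_inf (S.P_mono Set.inter_subset_left) (S.P_mono Set.inter_subset_right)

theorem V_le_U (J : Set I) : S.V J ≤ S.V ∅ := S.V_anti (Set.empty_subset J)

theorem V_p (J : Set I) : IsPGroup p (S.V J) := S.U_p.to_le (S.V_le_U J)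

/-- parabolic subgroups over the same `B` which are conjugate are equal -/
theorem mem_of_le_cj {L : Set I} {g : Y} (h : S.V ∅ ≤ cj g (S.P L)) : g ∈ S.P L := by
  obtain ⟨a, ha, b, hb, rfl⟩ := S.dec h
  exact mul_mem (S.P_mono (Set.empty_subset L) ha) hb

/-- parabolic subgroups are self-normalising -/
theorem norm_P (L : Set I) {g : Y} (h : cj g (S.P L) = S.P L) : g ∈ S.P L :=
  S.mem_of_le_cj (by rw [h]; exact (S.V_le ∅).trans (S.P_mono (Set.empty_subset L)))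

end PSys

/-! ### Root group data -/

section RGD

open CoxeterSystem Cfsg.Agent.ChevalleyStructure.CoxeterGeom Cfsg.Agent.Tits.Roots Cfsg.Agent.Tits.Core
  Cfsg.Agent.Tits.RootComb Cfsg.Agent.Tits.Exchange Cfsg.Agent.Nodes.Reps Cfsg.Agent.Nodes.BNOf
  Cfsg.Agent.Nodes.StabComb Cfsg.Agent.Nodes.Bruhat Cfsg.Agent.Nodes.OppDec Cfsg.Agent.Nodes.LeviDec
  Cfsg.Agent.Nodes.Coroot Cfsg.Agent.KFacts.RgdPar Cfsg.Agent.KFacts.RgdSL Cfsg.Agent.KFacts.RgdVJ
  Cfsg.Agent.KFacts.RgdCharP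

variable {I W Y : Type*} [Fintype I] [DecidableEq I] [Group W] [Group Y] {M : CoxeterMatrix I}
  {cs : CoxeterSystem M W} {A : I → I → ℤ} {h : IsCartan M A} {p : ℕ} {T : Subgroup Y} {n : I → Y}
  {X : (I → ℤ) → Subgroup Y}

theorem simple_mem_WJ_iff (h : IsCartan M A) {J : Set I} {i : I} : cs.simple i ∈ WJ cs J ↔ i ∈ J := by
  refine ⟨fun h1 => ?_, fun h1 => simple_mem_WJ cs h1⟩
  by_contra hi
  have h2 := (NotJ.act (h := h) h1 (sr_mem_NotJ hi)).2.1
  rw [rep_simple_sr] at h2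
  exact (isRoot_sr cs h i).not_pos_neg (sr_nonneg i) (neg_nonneg.1 h2)

/-- double coset representatives, two different parabolics -/
theorem exists_red2 (h : IsCartan M A) (J L : Set I) : ∀ (k : ℕ) (w : W), cs.length w = k → ∃ u ∈ WJ cs J,
    ∃ u' ∈ WJ cs L, (∀ i ∈ L, 0 ≤ rep cs h (u * w * u') (sr i)) ∧ ∀ i ∈ J, 0 ≤ rep cs h (u * w * u')⁻¹ (sr i) := by
  intro k
  induction k using Nat.strong_induction_on with
  | _ k ih =>
    intro w hw
    by_cases h1 : ∀ i ∈ L, 0 ≤ rep cs h w (sr i)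
    · by_cases h2 : ∀ i ∈ J, 0 ≤ rep cs h w⁻¹ (sr i)
      · exact ⟨1, one_mem _, 1, one_mem _, by simpa using h1, by simpa using h2⟩
      · push Not at h2
        obtain ⟨i, hi, h3⟩ := h2
        have h4 : cs.length (w⁻¹ * cs.simple i) < cs.length w⁻¹ := by
          rw [lt_iff cs h]
          exact ((nonneg_or_nonpos cs h w⁻¹ i).resolve_left h3)
        have h5 : cs.length (cs.simple i * w) < k := by
          have e1 : cs.simple i * w = (w⁻¹ * cs.simple i)⁻¹ := by rw [mul_inv_rev, inv_inv, cs.inv_simple]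
          rw [e1, cs.length_inv, ← hw, ← cs.length_inv w]
          exact h4
        obtain ⟨u, hu, u', hu', h6, h7⟩ := ih _ h5 (cs.simple i * w) rfl
        refine ⟨u * cs.simple i, mul_mem hu (simple_mem_WJ cs hi), u', hu', ?_, ?_⟩
        · rwa [mul_assoc u]
        · rwa [mul_assoc u]
    · push Not at h1
      obtain ⟨i, hi, h3⟩ := h1
      have h4 : cs.length (w * cs.simple i) < k := by
        rw [← hw, lt_iff cs h]
        exact ((nonneg_or_nonpos cs h w i).resolve_left h3)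
      obtain ⟨u, hu, u', hu', h6, h7⟩ := ih _ h4 (w * cs.simple i) rfl
      refine ⟨u, hu, cs.simple i * u', mul_mem (simple_mem_WJ cs hi) hu', ?_, ?_⟩
      · rwa [show u * w * (cs.simple i * u') = u * (w * cs.simple i) * u' by group]
      · rwa [show u * w * (cs.simple i * u') = u * (w * cs.simple i) * u' by group]

section

variable (R : RGD cs h p T n X)

include R

theorem PJ_le_iff [Finite W] {J L : Set I} : PJ cs h T X J ≤ PJ cs h T X L ↔ J ⊆ L := by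
  refine ⟨fun h1 i hi => ?_, H470.EPK.PJ_mono⟩
  have h2 : n i ∈ PJ cs h T X L := h1 (LJ_le_PJ (n_mem_LJ R hi))
  rw [cell_mem_PJ_iff R (cell_of_rp (rp_simple cs R.nsys i))] at h2
  exact (simple_mem_WJ_iff h).1 h2

/-- a negative root group in `P_L` is in `L_L` -/
theorem rootsJ_of_neg [Finite W] {L : Set I} {x : I → ℤ} (hx : IsRoot cs h x) (hx0 : x ≤ 0)
    (h1 : X x ≤ PJ cs h T X L) : x ∈ RootsJ cs h L := by
  by_contra h2
  have h3 : x ∈ NotNJ cs h L := by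
    have h4 : -x ∈ NotJ cs h L := by
      rcases mem_PosJ_or_NotJ L hx.neg (neg_nonneg.2 hx0) with h5 | h5
      · exact absurd (by simpa using Nodes.StabComb.RootsJ.neg (PosJ_subset L h5)) h2
      · exact h5
    simpa [NotNJ] using h4
  have h4 : X x ≤ VNJ cs h X L := RGD.le_Sup h3
  obtain ⟨u, hu, hu1⟩ : ∃ u ∈ X x, u ≠ 1 := by
    by_contra hcon
    push Not at hcon
    exact X_ne_bot R hx ((Subgroup.eq_bot_iff_forall _).2 hcon)
  exact hu1 (eq_one_of_mem_VNJ_of_mem_PJ R (h4 hu) (h1 hu))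

/-- **`V_J ≤ g P_L g⁻¹` gives `g ∈ P_J P_L`** -/
theorem mem_of_VJ_le [Finite W] (hG : GG cs h T X = ⊤) {J L : Set I} {g : Y}
    (hV : VJ cs h X J ≤ Nodes.Reps.cj g (PJ cs h T X L)) :
    ∃ a ∈ PJ cs h T X J, ∃ b ∈ PJ cs h T X L, g = a * b := by
  obtain ⟨w, b, hb, m, hm, b', hb', rfl⟩ := (mem_GG R).1 (show g ∈ GG cs h T X by rw [hG]; trivial)
  obtain ⟨u, hu, u', hu', h1, h2⟩ := exists_red2 (cs := cs) h J L _ w rfl
  obtain ⟨a, ha⟩ := exists_rp cs R.nsys u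
  obtain ⟨a', ha'⟩ := exists_rp cs R.nsys u'
  have hm1 : Rp cs R.nsys (u * w * u') (a * m * a') := (ha.mul hm).mul ha'
  have hg : b * a⁻¹ ∈ PJ cs h T X J := mul_mem (B_le_PJ hb) (inv_mem (LJ_le_PJ (rp_mem_LJ R hu ha)))
  have hg' : a'⁻¹ * b' ∈ PJ cs h T X L := mul_mem (inv_mem (LJ_le_PJ (rp_mem_LJ R hu' ha'))) (B_le_PJ hb')
  have e : b * m * b' = (b * a⁻¹) * (a * m * a') * (a'⁻¹ * b') := by group
  have hV1 : VJ cs h X J ≤ Nodes.Reps.cj (a * m * a') (PJ cs h T X L) := by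
    have h3 : Nodes.Reps.cj (b * a⁻¹)⁻¹ (VJ cs h X J) = VJ cs h X J :=
      mem_normalizer_iff_cj.1 (PJ_le_normalizer_VJ R J (inv_mem hg))
    rw [e, Nodes.Reps.cj_mul, Nodes.Reps.cj_mul, cj_eq_of_mem hg'] at hV
    have h4 := Nodes.Reps.cj_mono (b * a⁻¹)⁻¹ hV
    rwa [h3, Nodes.Reps.cj_inv_cj] at h4
  have hw : u * w * u' = 1 := by
    by_contra hne
    have h0 : (u * w * u')⁻¹ ≠ 1 := fun h2 => hne (inv_eq_one.1 h2)
    obtain ⟨i, hi⟩ := cs.exists_rightDescent_of_ne_one h0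
    have h3 : rep cs h (u * w * u')⁻¹ (sr i) ≤ 0 := (lt_iff cs h _ i).1 hi
    have hr := (isRoot_sr cs h i).act (u * w * u')⁻¹
    have hiJ : i ∉ J := fun h4 => hr.not_pos_neg (h2 i h4) h3
    have h4 : X (rep cs h (u * w * u')⁻¹ (sr i)) ≤ PJ cs h T X L := by
      have h5 := Nodes.Reps.cj_mono (a * m * a')⁻¹ ((RGD.le_Sup (X := X) (sr_mem_NotJ (cs := cs) (h := h) hiJ)).trans hV1)
      rwa [R.conj_rp hm1.inv (isRoot_sr cs h i), Nodes.Reps.cj_inv_cj] at h5
    have h5 := rootsJ_of_neg R hr h3 h4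
    have h6 : 0 ≤ rep cs h (u * w * u') (-rep cs h (u * w * u')⁻¹ (sr i)) :=
      H470.EPK.nonneg_of_PosJ h1 (neg_nonneg.2 h3) fun k hk => by rw [Pi.neg_apply, h5.2 k hk, neg_zero]
    rw [map_neg, rep_apply_inv] at h6
    exact (isRoot_sr cs h i).not_pos_neg (sr_nonneg i) (neg_nonneg.1 h6)
  rw [hw] at hm1
  refine ⟨b * a⁻¹, hg, a * m * a' * (a'⁻¹ * b'), mul_mem (B_le_PJ (RGD.T_le_B hm1.mem_of_one)) hg', ?_⟩
  rw [e]
  group

theorem VJ_max [Finite W] [Finite Y] [Fact p.Prime] (hG : GG cs h T X = ⊤) {J : Set I} {D : Subgroup Y}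
    (hD : D ≤ PJ cs h T X J) (hp : IsPGroup p D) (hn : ∀ g ∈ PJ cs h T X J, ∀ d ∈ D, g * d * g⁻¹ ∈ D) :
    D ≤ VJ cs h X J := by
  have hUP : RGD.Sup X (RGD.Pos cs h) ≤ PJ cs h T X J := le_trans RGD.U_le_B B_le_PJ
  have hDU : D ≤ RGD.Sup X (RGD.Pos cs h) := by
    have hp1 : IsPGroup p (RGD.Sup X (RGD.Pos cs h)) := by
      have := isPGroup_VJ R (∅ : Set I)
      unfold VJ at this
      rwa [H470.EPK.NotJ_empty] at this
    have h1 : RGD.Sup X (RGD.Pos cs h) ≤ Subgroup.normalizer (D : Set Y) := by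
      intro g hg
      rw [Subgroup.mem_normalizer_iff]
      intro d
      refine ⟨fun hd => hn g (hUP hg) d hd, fun hd => ?_⟩
      have := hn g⁻¹ (inv_mem (hUP hg)) _ hd
      simpa [mul_assoc] using this
    have h2 : IsPGroup p (RGD.Sup X (RGD.Pos cs h) ⊔ D : Subgroup Y) := hp1.to_sup_of_normal_right' hp h1
    have h3 := KFacts.RgdEx.eq_U R (P := RGD.Sup X (RGD.Pos cs h) ⊔ D) le_sup_left (by rw [hG]; exact le_top) h2
    rw [← h3]
    exact le_sup_right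
  obtain ⟨wj, hwj⟩ := exists_isLongest cs J
  obtain ⟨kJ, hkJ⟩ := exists_rp cs R.nsys wj
  have hkP : kJ ∈ PJ cs h T X J := LJ_le_PJ (rp_mem_LJ R hwj.1 hkJ)
  intro x hx
  obtain ⟨u, hu, v, hv, rfl⟩ := (mem_U_iff R).1 (hDU hx)
  have h1 : kJ * (u * v) * kJ⁻¹ ∈ RGD.Sup X (RGD.Pos cs h) := hDU (hn kJ hkP _ hx)
  have h2 : kJ * v * kJ⁻¹ ∈ RGD.Sup X (RGD.Pos cs h) :=
    VJ_le_U J ((Subgroup.mem_normalizer_iff.1 (PJ_le_normalizer_VJ R J hkP) v).1 hv)
  have h3 : kJ * u * kJ⁻¹ ∈ RGD.Sup X (RGD.Pos cs h) := by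
    have : kJ * u * kJ⁻¹ = kJ * (u * v) * kJ⁻¹ * (kJ * v * kJ⁻¹)⁻¹ := by group
    rw [this]
    exact mul_mem h1 (inv_mem h2)
  have h4 : kJ * u * kJ⁻¹ ∈ UN cs h X := by
    refine conj_mem_Sup R hkJ (fun x hx => hx.1) (fun x hx => ?_) hu
    exact ⟨hx.1.act _, rep_longest_nonpos hwj hx⟩
  have h5 := eq_one_of_mem_UN_of_mem_B R h4 (RGD.U_le_B h3)
  have h6 : u = 1 := by
    have : u = kJ⁻¹ * (kJ * u * kJ⁻¹) * kJ := by group
    rw [this, h5]; group
  rw [h6, one_mul]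
  exact hv

/-- **The parabolic system of a root group datum.** -/
def ofRGD [Finite W] [Finite Y] [Fact p.Prime] (hBT : BT cs h p T X) (hG : GG cs h T X = ⊤)
    (hX : RGD.Sup X {x | IsRoot cs h x} = ⊤) (hconn : Conn M) : PSys Y p I where
  P := PJ cs h T X
  V := VJ cs h X
  P_univ := by
    rw [eq_top_iff, ← hG, ← LJ_univ]
    exact LJ_le_PJ
  P_le_iff := PJ_le_iff R
  ov L hL := by
    rw [PJ_empty R] at hL
    have := inf_eq_PJ R hL
    rw [hG, inf_top_eq] at this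
    exact ⟨_, this⟩
  V_anti := H470.EPK.VJ_anti
  V_le J := VJ_le_PJ
  V_norm := PJ_le_normalizer_VJ R
  U_norm := by
    have h1 := normalizer_VJ R (∅ : Set I)
    rwa [hG, inf_top_eq] at h1
  U_p := isPGroup_VJ R _
  U_max S hS hp := by
    have e : VJ cs h X (∅ : Set I) = RGD.Sup X (RGD.Pos cs h) := by
      unfold VJ
      rw [H470.EPK.NotJ_empty]
    rw [e] at hS ⊢
    exact KFacts.RgdEx.eq_U R hS (by rw [hG]; exact le_top) hp
  V_max hD hp hn := VJ_max R hG hD hp hn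
  dec hV := mem_of_VJ_le R hG hV
  canon hK J hJ g hV := H470.EPK.par_of_VJ R hBT hG hX hconn hK hJ hV

end

end RGD

end Cfsg.Agent.H737.EPO

private theorem dce_011eef735388 : _root_.True := by
  try have : _root_.True := by simp only [_root_.Cfsg.Agent.Nodes.LeviDec.NotNJ.eq_1]
  exact _root_.True.intro
end

-- part: H470/EPO/BTAny
section
set_option linter.all false
open scoped Cfsg.Agent.FastGrp

/-!
# Borel–Tits for an arbitrary root group datum of a group with a filtered one (helper470)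

`bt_of_hasFilt` : if `HasFilt p Y` then every root group datum of characteristic `p` of `Y` satisfies `BT`.
-/

set_option autoImplicit false
set_option linter.unusedSectionVars false

namespace Cfsg.Agent.H470.EPO

open CoxeterSystem Cfsg.Agent.ChevalleyStructure.CoxeterGeom Cfsg.Agent.Tits.Roots Cfsg.Agent.Tits.Core
  Cfsg.Agent.Tits.RootComb Cfsg.Agent.Tits.Exchange Cfsg.Agent.Nodes.Reps Cfsg.Agent.Nodes.BNOf
  Cfsg.Agent.Nodes.StabComb Cfsg.Agent.Nodes.Bruhat Cfsg.Agent.Nodes.OppDec Cfsg.Agent.Nodes.LeviDec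
  Cfsg.Agent.Nodes.Coroot Cfsg.Agent.KFacts.RgdPar Cfsg.Agent.KFacts.RgdSL Cfsg.Agent.KFacts.RgdVJ
  Cfsg.Agent.KFacts.RgdCharP

section

variable {I W Y : Type*} [Fintype I] [DecidableEq I] [Group W] [Group Y] {M : CoxeterMatrix I}
  {cs : CoxeterSystem M W} {A : I → I → ℤ} {h : IsCartan M A} {p : ℕ} {T : Subgroup Y} {n : I → Y}
  {X : (I → ℤ) → Subgroup Y}

variable {I' W' : Type*} [Fintype I'] [DecidableEq I'] [Group W'] {M' : CoxeterMatrix I'}
  {cs' : CoxeterSystem M' W'} {A' : I' → I' → ℤ} {h' : IsCartan M' A'} {T' : Subgroup Y} {n' : I' → Y}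
  {X' : (I' → ℤ) → Subgroup Y}

/-- `U` is a Sylow subgroup -/
theorem exists_sylow_U (R : RGD cs h p T n X) [Finite W] [Finite Y] [Fact p.Prime] (hG : GG cs h T X = ⊤) :
    ∃ S : Sylow p Y, (S : Subgroup Y) = RGD.Sup X (RGD.Pos cs h) := by
  have hp1 : IsPGroup p (RGD.Sup X (RGD.Pos cs h)) := by
    have := isPGroup_VJ R (∅ : Set I)
    unfold VJ at this
    rwa [H470.EPK.NotJ_empty] at this
  obtain ⟨S, hS⟩ := hp1.exists_le_sylow
  exact ⟨S, KFacts.RgdEx.eq_U R hS (by rw [hG]; exact le_top) S.isPGroup'⟩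

/-- **`BT` is intrinsic** -/
theorem bt_transfer (R : RGD cs h p T n X) (R' : RGD cs' h' p T' n' X') [Finite W] [Finite W'] [Finite Y]
    [Fact p.Prime] (hG : GG cs h T X = ⊤) (hG' : GG cs' h' T' X' = ⊤) (hBT : BT cs' h' p T' X') :
    BT cs h p T X := by
  intro K hK hK1
  obtain ⟨g', J', hJ', h1, h2⟩ := hBT K hK hK1
  obtain ⟨S, hS⟩ := exists_sylow_U R hG
  obtain ⟨S', hS'⟩ := exists_sylow_U R' hG'
  obtain ⟨a, ha⟩ := MulAction.exists_smul_eq Y S' S
  have hU : cj a (RGD.Sup X' (RGD.Pos cs' h')) = RGD.Sup X (RGD.Pos cs h) := by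
    rw [← hS, ← hS', ← ha]
    rfl
  -- the Borel subgroups
  have hB : RGD.B cs h T X ≤ cj a (PJ cs' h' T' X' J') := by
    have h3 := KFacts.RgdEx.normalizer_U R
    have h4 := KFacts.RgdEx.normalizer_U R'
    rw [hG, inf_top_eq] at h3
    rw [hG', inf_top_eq] at h4
    rw [← h3, ← hU]
    intro x hx
    have h5 : a⁻¹ * x * a ∈ RGD.B cs' h' T' X' := by
      rw [← h4, mem_normalizer_iff_cj]
      have h6 : cj x (cj a (RGD.Sup X' (RGD.Pos cs' h'))) = cj a (RGD.Sup X' (RGD.Pos cs' h')) :=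
        mem_normalizer_iff_cj.1 hx
      rw [cj_mul, cj_mul, h6, cj_inv_cj]
    rw [mem_cj]
    exact B_le_PJ h5
  have h3 := inf_eq_PJ R hB
  rw [hG, inf_top_eq] at h3
  set J : Set I := {i | n i ∈ cj a (PJ cs' h' T' X' J')} with hJ
  have hJu : J ≠ Set.univ := by
    intro h4
    apply (show PJ cs' h' T' X' J' ≠ ⊤ from ?_)
    · have h5 : PJ cs h T X J = ⊤ := by
        rw [h4, eq_top_iff, ← hG, ← LJ_univ]
        exact LJ_le_PJ
      rw [← cj_inv_cj a (PJ cs' h' T' X' J'), h3, h5]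
      exact Subgroup.map_top_of_surjective _ (MulAut.conj a⁻¹).surjective
    · intro h5
      apply hJ'
      have h6 : PJ cs' h' T' X' Set.univ ≤ PJ cs' h' T' X' J' := by rw [h5]; exact le_top
      exact Set.eq_univ_of_univ_subset ((H737.EPO.PJ_le_iff R').1 h6)
  have hVJ : cj a (VJ cs' h' X' J') ≤ VJ cs h X J := by
    apply H737.EPO.VJ_max R hG
    · rw [← h3]
      exact cj_mono a (VJ_le_PJ)
    · exact (isPGroup_VJ R' J').map _
    · intro x hx v hv
      rw [← h3, mem_cj] at hx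
      rw [mem_cj] at hv ⊢
      have h5 := (Subgroup.mem_normalizer_iff.1 (PJ_le_normalizer_VJ R' J' hx) (a⁻¹ * v * a)).1 hv
      have e : a⁻¹ * (x * v * x⁻¹) * a = a⁻¹ * x * a * (a⁻¹ * v * a) * (a⁻¹ * x * a)⁻¹ := by group
      rw [e]
      exact h5
  refine ⟨g' * a⁻¹, J, hJu, ?_, ?_⟩
  · refine h1.trans ?_
    rw [cj_mul]
    apply cj_mono
    rw [← cj_inv_cj a (VJ cs' h' X' J')]
    exact cj_mono _ hVJ
  · refine h2.trans ?_
    rw [cj_mul, ← h3, cj_inv_cj]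

/-- **every root group datum of characteristic `p` of a group with `HasFilt p` satisfies `BT`** -/
theorem bt_of_hasFilt (R : RGD cs h p T n X) [Finite W] [Finite Y] [Fact p.Prime] (hG : GG cs h T X = ⊤)
    (hF : KFacts.RgdFilt.HasFilt p Y) : BT cs h p T X := by
  obtain ⟨l, M', A', h', T', n', X', R', F, hW, hX, hF⟩ := hF
  exact bt_transfer R R' hG (KFacts.RgdFilt.GG_eq_top hX)
    (fun K hK h1 => KFacts.RgdFilt.borel_tits_of_filt hF hX hK h1)

end

end Cfsg.Agent.H470.EPO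
end
end
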