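import Cfsg.Agent.H737.EPO.RelOne_m3
import Cfsg.Agent.S0026
import Cfsg.Agent.H371.PU.Base
import Cfsg.Agent.H248.TwF4Dich
import Cfsg.Agent.KFacts.TwF4.AutNorm
import Cfsg.Agent.H470.EPO.BTAny
import Cfsg.Agent.KFacts.TwF4.OutTwo
import Cfsg.Agent.SignalizersComponents.CoprimeGen
import Cfsg.Agent.H564.EPF.BT_mg
import Cfsg.Agent.H470.EPO.OwnBig
import Cfsg.Agent.KFacts.RgdLieCharP
import Cfsg.Agent.H742.PanU_m3
import Cfsg.Agent.H804.PanPSL_mg
import Cfsg.Agent.H35.ExcIdxTw_m3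
import Cfsg.Agent.H519.LieRank
import Cfsg.Agent.ClassicalGeometry.HermLines
import Cfsg.Agent.Nodes.CardWitt
import Cfsg.Agent.H357.EP.Signs_m3
import Cfsg.Agent.FastGrp
import Cfsg.Agent.Prune
set_option linter.all false

section
prune_inst 0x7ffdfefbbff86ddfffff7e7ffeb5dffc39d7dfffefdffb4bffece9ff8fdf03021fe5fb8f9de050ff1ed7e21630b87853f97eea3fe36bdc7ffffd1ff41ffbee1fe5f6b50951d498340fbc6fff83f07f8e7f3fffffffffffffffffffffffffffbeffbfffffffff

-- part: H470/EPO/R1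
section
set_option linter.all false
open scoped Cfsg.Agent.FastGrp

/-!
# Own characteristic, `T` of rank one: the data and the hypotheses (helper470)

`R1 p T` : `U` Sylow `p`-subgroup of `T`, `B = N_T(U)`, `w ∉ B`, `w² ∈ B`, `T = B ∪ U w B`, `U ∩ wBw⁻¹ = 1`.
`T0 = B ∩ wBw⁻¹`.

`R1.Hyp` : what has to be proved for `T`:
* `comm` : `[U, T0] = U`;
* `p2` : (`p = 2`) the automorphisms of `U` which commute with `T0` have no 2-elements;
* `inv` : (`p = 2, 3`) an automorphism of `T` which centralises `T0` normalises `B`;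
* `ov` : the proper overgroups of `T0`.
-/

set_option autoImplicit false

namespace Cfsg.Agent.H470.EPO

open Cfsg.Agent.H284 Cfsg.Agent.H737.EPO

/-- rank one data -/
structure R1 (p : ℕ) (T : Type*) [Group T] where
  U : Subgroup T
  B : Subgroup T
  w : T
  nU : Subgroup.normalizer (U : Set T) = B
  pU : IsPGroup p U
  mU : ∀ S : Subgroup T, U ≤ S → IsPGroup p S → S = U
  wB : w ∉ B
  ww : w * w ∈ B
  tr : ∀ g : T, g ∉ B → ∃ u ∈ U, ∃ b ∈ B, g = u * w * b
  ti : U ⊓ cj w B = ⊥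

namespace R1

variable {p : ℕ} {T : Type*} [Group T]

/-- the torus -/
def T0 (D : R1 p T) : Subgroup T := D.B ⊓ cj D.w D.B

/-- the hypotheses on `T` -/
structure Hyp (D : R1 p T) : Prop where
  /-- `[U, T0] = U` -/
  comm : ∀ X : Subgroup T, X ≤ D.U → (∀ u ∈ D.U, ∀ t ∈ D.T0, u * t * u⁻¹ * t⁻¹ ∈ X) → X = D.U
  /-- `p = 2` : a 2-automorphism of `U` which commutes with the action of `T0` is trivial -/
  p2 : p = 2 → ∀ φ : MulAut D.U, (∀ t ∈ D.T0, ∀ u v : D.U, (v : T) = t * u * t⁻¹ →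
    ((φ v : D.U) : T) = t * (φ u : D.U) * t⁻¹) → ∀ m : ℕ, φ ^ 2 ^ m = 1 → φ = 1
  /-- `p = 2, 3` : no automorphism of `T` which centralises `T0` moves `B` -/
  inv : p ≤ 3 → ∀ φ : MulAut T, (∀ t ∈ D.T0, φ t = t) → ∀ b ∈ D.B, φ b ∈ D.B
  /-- the proper overgroups of `T0` : `Z` runs over at most one (`p = 2, 3`), at most `p - 3` subgroups -/
  ov : ∃ Zs : Finset (Subgroup T), (Zs.card ≤ 1 ∨ Zs.card + 2 < p) ∧ (∀ Z ∈ Zs, Z ≠ ⊥ ∧ Z ≠ ⊤) ∧
    ∀ K : Subgroup T, D.T0 ≤ K → K ≠ ⊤ → (K ≤ D.B ∧ K ⊓ D.U ≠ ⊥) ∨ (K ≤ cj D.w D.B ∧ K ⊓ cj D.w D.U ≠ ⊥) ∨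
      ∃ Z ∈ Zs, ∀ φ : MulAut T, (∀ x ∈ K, φ x ∈ K) → ∀ z ∈ Z, φ z ∈ Z

theorem U_le (D : R1 p T) : D.U ≤ D.B := by
  rw [← D.nU]; exact Subgroup.le_normalizer

theorem conj_U (D : R1 p T) {b u : T} (hb : b ∈ D.B) (hu : u ∈ D.U) : b * u * b⁻¹ ∈ D.U := by
  rw [← D.nU] at hb
  exact (Subgroup.mem_normalizer_iff.1 hb u).1 hu

theorem cj_w_cj_w (D : R1 p T) : cj D.w (cj D.w D.B) = D.B := by
  rw [← cj_mul]
  exact cj_eq_self D.ww

/-- `B = U T0` -/
theorem exists_UT (D : R1 p T) {b : T} (hb : b ∈ D.B) : ∃ u ∈ D.U, ∃ t ∈ D.T0, b = u * t := by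
  have h1 : b * D.w ∉ D.B := by
    intro h2
    apply D.wB
    have h3 := D.B.mul_mem (D.B.inv_mem hb) h2
    rwa [inv_mul_cancel_left] at h3
  obtain ⟨u, hu, c, hc, h2⟩ := D.tr _ h1
  refine ⟨u, hu, u⁻¹ * b, ⟨D.B.mul_mem (D.B.inv_mem (D.U_le hu)) hb, ?_⟩, by group⟩
  show u⁻¹ * b ∈ cj D.w D.B
  have h3 : u⁻¹ * b = D.w * c * D.w⁻¹ := by
    have : b = u * D.w * c * D.w⁻¹ := by rw [← h2]; group
    rw [this]; group
  rw [h3]
  exact conj_mem_cj hc

/-- a simpler form of `ov` : one `Z`, invariant under the automorphisms which fix `T0` -/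
theorem ov_of (D : R1 p T) (Z : Subgroup T) (h1 : Z ≠ ⊥) (h2 : Z ≠ ⊤)
    (hT0 : ∀ φ : MulAut T, (∀ x ∈ D.T0, φ x ∈ D.T0) → ∀ z ∈ Z, φ z ∈ Z)
    (h : ∀ K : Subgroup T, D.T0 ≤ K → K ≠ ⊤ → K ≤ D.B ∨ K ≤ cj D.w D.B ∨
      ∀ φ : MulAut T, (∀ x ∈ K, φ x ∈ K) → ∀ z ∈ Z, φ z ∈ Z) :
    ∃ Zs : Finset (Subgroup T), (Zs.card ≤ 1 ∨ Zs.card + 2 < p) ∧ (∀ Z ∈ Zs, Z ≠ ⊥ ∧ Z ≠ ⊤) ∧
    ∀ K : Subgroup T, D.T0 ≤ K → K ≠ ⊤ → (K ≤ D.B ∧ K ⊓ D.U ≠ ⊥) ∨ (K ≤ cj D.w D.B ∧ K ⊓ cj D.w D.U ≠ ⊥) ∨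
      ∃ Z ∈ Zs, ∀ φ : MulAut T, (∀ x ∈ K, φ x ∈ K) → ∀ z ∈ Z, φ z ∈ Z := by
  classical
  have key : ∀ K : Subgroup T, D.T0 ≤ K → K ≤ D.B → K ⊓ D.U = ⊥ → K = D.T0 := by
    intro K h3 h4 h5
    apply le_antisymm _ h3
    intro k hk
    obtain ⟨u, hu, t, ht, rfl⟩ := D.exists_UT (h4 hk)
    have h6 : u ∈ K := by
      have := mul_mem hk (inv_mem (h3 ht))
      rwa [mul_inv_cancel_right] at this
    have h7 : u ∈ K ⊓ D.U := ⟨h6, hu⟩
    rw [h5, Subgroup.mem_bot] at h7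
    rw [h7, one_mul]
    exact ht
  have hwT : cj D.w D.T0 = D.T0 := by
    show cj D.w (D.B ⊓ cj D.w D.B) = _
    rw [cj_inf, D.cj_w_cj_w, inf_comm]
    rfl
  refine ⟨{Z}, Or.inl (by simp), by simp [h1, h2], fun K h3 h4 => ?_⟩
  rcases h K h3 h4 with h5 | h5 | h5
  · by_cases h6 : K ⊓ D.U = ⊥
    · right; right
      rw [key K h3 h5 h6]
      exact ⟨Z, by simp, hT0⟩
    · exact Or.inl ⟨h5, h6⟩
  · by_cases h6 : K ⊓ cj D.w D.U = ⊥
    · right; right
      have h7 : cj D.w⁻¹ K = D.T0 := by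
        apply key
        · have h8 := cj_mono (x := D.w⁻¹) h3
          rw [← hwT, cj_inv_cj] at h8
          exact h8
        · have h8 := cj_mono (x := D.w⁻¹) h5
          rwa [cj_inv_cj] at h8
        · have h8 := congrArg (cj D.w⁻¹) h6
          rw [cj_inf, cj_inv_cj] at h8
          rw [h8]
          exact Subgroup.map_bot _
      have h9 : K = D.T0 := by
        rw [← hwT, ← h7, cj_cj_inv]
      rw [h9]
      exact ⟨Z, by simp, hT0⟩
    · exact Or.inr (Or.inl ⟨h5, h6⟩)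
  · exact Or.inr (Or.inr ⟨Z, by simp, h5⟩)

end R1

end Cfsg.Agent.H470.EPO
end

-- part: H470/EPO/R1Sys
section
set_option linter.all false
open scoped Cfsg.Agent.FastGrp

/-!
# The parabolic system of a group of rank one (helper470)
-/

set_option autoImplicit false

namespace Cfsg.Agent.H470.EPO

open Cfsg.Agent.H284 Cfsg.Agent.H737.EPO

namespace R1

variable {p : ℕ} {T : Type*} [Group T] (D : R1 p T)

theorem U_ne_bot : D.U ≠ ⊥ := by
  intro h
  apply D.wB
  rw [← D.nU, h, Subgroup.mem_normalizer_iff_map_conj_eq]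
  exact Subgroup.map_bot _

theorem B_ne_top : D.B ≠ ⊤ := fun h => D.wB (h ▸ Subgroup.mem_top _)

theorem cj_U {b : T} (hb : b ∈ D.B) : cj b D.U = D.U := by
  rw [← D.nU, Subgroup.mem_normalizer_iff_map_conj_eq] at hb
  exact hb

theorem ti' {g : T} (hg : g ∉ D.B) {u : T} (hu : u ∈ D.U) (h : u ∈ cj g D.B) : u = 1 := by
  obtain ⟨v, hv, b, hb, rfl⟩ := D.tr g hg
  rw [cj_mul, cj_eq_self hb, cj_mul, mem_cj] at h
  have h1 : v⁻¹ * u * v ∈ D.U := mul_mem (mul_mem (inv_mem hv) hu) hv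
  have h2 : v⁻¹ * u * v ∈ D.U ⊓ cj D.w D.B := ⟨h1, h⟩
  rw [D.ti, Subgroup.mem_bot] at h2
  have : u = v * (v⁻¹ * u * v) * v⁻¹ := by group
  rw [this, h2]; group

theorem mem_B_of_le {g : T} (h : D.U ≤ cj g D.B) : g ∈ D.B := by
  by_contra hg
  exact D.U_ne_bot ((Subgroup.eq_bot_iff_forall _).2 fun u hu => D.ti' hg hu (h hu))

theorem eq_of_B_le {L : Subgroup T} (h : D.B ≤ L) : L = D.B ∨ L = ⊤ := by
  by_cases h1 : L ≤ D.B
  · exact Or.inl (le_antisymm h1 h)
  · right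
    obtain ⟨g, hg, hgB⟩ := Set.not_subset.1 h1
    obtain ⟨u, hu, b, hb, rfl⟩ := D.tr g hgB
    have hw : D.w ∈ L := by
      have h2 := L.mul_mem (L.mul_mem (L.inv_mem (h (D.U_le hu))) hg) (L.inv_mem (h hb))
      have e1 : u⁻¹ * (u * D.w * b) * b⁻¹ = D.w := by group
      rwa [e1] at h2
    rw [eq_top_iff]
    intro x _
    by_cases hx : x ∈ D.B
    · exact h hx
    · obtain ⟨u', hu', b', hb', rfl⟩ := D.tr x hx
      exact L.mul_mem (L.mul_mem (h (D.U_le hu')) hw) (h hb')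

theorem le_B_of_U_le [IsSimpleGroup T] {K : Subgroup T} (hK : K ≠ ⊤) (h : D.U ≤ K) : K ≤ D.B := by
  intro k hk
  by_contra hkB
  obtain ⟨u, hu, b, hb, rfl⟩ := D.tr k hkB
  have hv : D.w * b ∈ K := by
    have h2 := K.mul_mem (K.inv_mem (h hu)) hk
    have e1 : u⁻¹ * (u * D.w * b) = D.w * b := by group
    rwa [e1] at h2
  have hall : ∀ x : T, cj x D.U ≤ K := by
    intro x
    by_cases hx : x ∈ D.B
    · rw [D.cj_U hx]; exact h
    · obtain ⟨u', hu', b', hb', rfl⟩ := D.tr x hx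
      rw [cj_mul, D.cj_U hb', cj_mul, cj_le_iff]
      rw [cj_eq_self (inv_mem (h hu') : u'⁻¹ ∈ K)]
      have h3 : cj D.w D.U = cj (D.w * b) D.U := by rw [cj_mul, D.cj_U hb]
      rw [h3, cj_le_iff, cj_eq_self (inv_mem hv)]
      exact h
  apply hK
  have h3 : Subgroup.normalClosure (D.U : Set T) ≤ K := by
    unfold Subgroup.normalClosure
    rw [Subgroup.closure_le]
    intro x hx
    obtain ⟨a, ha, hax⟩ := Group.mem_conjugatesOfSet_iff.1 hx
    obtain ⟨c, hc⟩ := isConj_iff.1 hax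
    rw [← hc]
    exact hall c (conj_mem_cj ha)
  rcases (inferInstance : (Subgroup.normalClosure (D.U : Set T)).Normal).eq_bot_or_eq_top with h4 | h4
  · exfalso
    apply D.U_ne_bot
    rw [eq_bot_iff, ← h4]
    exact Subgroup.le_normalClosure
  · rw [eq_top_iff, ← h4]
    exact h3

theorem nm_le [Finite T] [Fact p.Prime] {S : Subgroup T} (hS : IsPGroup p S)
    (h : ∀ u ∈ D.U, ∀ s ∈ S, u * s * u⁻¹ ∈ S) : S ≤ D.U := by
  have h1 : D.U ≤ Subgroup.normalizer (S : Set T) := by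
    intro u hu
    rw [Subgroup.mem_normalizer_iff_map_conj_eq]
    exact cj_eq_of_nm (h u hu)
  have h2 : IsPGroup p (D.U ⊔ S : Subgroup T) := D.pU.to_sup_of_normal_right' hS h1
  have h3 := D.mU _ le_sup_left h2
  rw [← h3]
  exact le_sup_right

theorem canon1 [Finite T] [Fact p.Prime] [IsSimpleGroup T] {K : Subgroup T} (hK : K ≠ ⊤) {g : T} (h : cj g D.U ≤ K) :
    K ≤ cj g D.B ∧ ∀ φ : MulAut T, (∀ k ∈ K, φ k ∈ K) → ∀ x ∈ cj g D.B, φ x ∈ cj g D.B := by
  have h1 : cj g⁻¹ K ≤ D.B := by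
    apply D.le_B_of_U_le
    · intro h2
      apply hK
      rw [eq_top_iff]
      intro x _
      have h3 : g⁻¹ * x * g ∈ cj g⁻¹ K := by rw [h2]; trivial
      rw [mem_cj, inv_inv] at h3
      have e1 : g * (g⁻¹ * x * g) * g⁻¹ = x := by group
      rwa [e1] at h3
    · rwa [cj_le_iff] at h
  have hKB : K ≤ cj g D.B := by
    have := cj_mono (x := g) h1
    rwa [cj_cj_inv] at this
  refine ⟨hKB, fun φ hφ => ?_⟩
  -- `φ` maps `gUg⁻¹` to itself
  have h3 : ((cj g D.U).map φ.toMonoidHom) ≤ K := by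
    rintro _ ⟨u, hu, rfl⟩
    exact hφ u (h hu)
  have h4 : IsPGroup p ((cj g D.U).map φ.toMonoidHom) := (D.pU.map _).map _
  have h5 : cj g⁻¹ ((cj g D.U).map φ.toMonoidHom) ≤ D.U := by
    have h6 : cj g⁻¹ ((cj g D.U).map φ.toMonoidHom) ≤ Subgroup.normalizer (D.U : Set T) := by
      rw [D.nU]
      exact (cj_mono h3).trans h1
    have h7 : IsPGroup p (cj g⁻¹ ((cj g D.U).map φ.toMonoidHom) ⊔ D.U : Subgroup T) :=
      (h4.map _).to_sup_of_normal_right' D.pU h6
    exact le_sup_left.trans (D.mU _ le_sup_right h7).le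
  have h9 : (cj g D.U).map φ.toMonoidHom = cj g D.U := by
    apply Subgroup.eq_of_le_of_card_ge
    · have h10 := cj_mono (x := g) h5
      rwa [cj_cj_inv] at h10
    · exact (Subgroup.card_map_of_injective (K := cj g D.U) (f := φ.toMonoidHom) φ.injective).ge
  have h4 : ∀ x, x ∈ cj g D.B ↔ cj x (cj g D.U) = cj g D.U := by
    intro x
    rw [mem_cj, ← D.nU, Subgroup.mem_normalizer_iff_map_conj_eq]
    constructor
    · intro h5
      have h6 : cj (g⁻¹ * x * g) D.U = D.U := h5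
      have e1 : x * g = g * (g⁻¹ * x * g) := by group
      rw [← cj_mul, e1, cj_mul, h6]
    · intro h5
      show cj (g⁻¹ * x * g) D.U = D.U
      rw [mul_assoc, cj_mul, cj_mul, h5, cj_inv_cj]
  intro x hx
  rw [h4] at hx ⊢
  apply cj_eq_of_nm
  intro a ha
  rw [← h9] at ha
  obtain ⟨a', ha', rfl⟩ := ha
  have h5 : x * a' * x⁻¹ ∈ cj g D.U := by
    rw [← hx]
    exact conj_mem_cj ha'
  have h6 : φ (x * a' * x⁻¹) ∈ (cj g D.U).map φ.toMonoidHom := ⟨_, h5, rfl⟩
  rw [h9, map_mul, map_mul, map_inv] at h6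
  exact h6

open Classical in
/-- **the parabolic system** -/
noncomputable def psys [Finite T] [Fact p.Prime] [IsSimpleGroup T] : PSys T p Unit where
  P J := if J = ∅ then D.B else ⊤
  V J := if J = ∅ then D.U else ⊥
  P_univ := if_neg Set.univ_nonempty.ne_empty
  P_le_iff {J L} := by
    rcases Set.eq_empty_or_nonempty J with rfl | hJ
    · rw [if_pos rfl]
      by_cases hL : L = ∅
      · rw [if_pos hL]; simp
      · rw [if_neg hL]; simp
    · rw [if_neg hJ.ne_empty]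
      rcases Set.eq_empty_or_nonempty L with rfl | hL
      · rw [if_pos rfl]
        constructor
        · intro h
          exact absurd (top_le_iff.1 h) D.B_ne_top
        · intro h
          exact absurd (Set.subset_empty_iff.1 h) hJ.ne_empty
      · rw [if_neg hL.ne_empty]
        constructor
        · intro _ x _
          obtain ⟨y, hy⟩ := hL
          exact hy
        · intro _; exact le_rfl
  ov L hL := by
    rw [if_pos rfl] at hL
    rcases D.eq_of_B_le hL with h | h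
    · exact ⟨∅, by rw [if_pos rfl]; exact h⟩
    · exact ⟨Set.univ, by rw [if_neg Set.univ_nonempty.ne_empty]; exact h⟩
  V_anti {J L} h := by
    rcases Set.eq_empty_or_nonempty L with rfl | hL
    · rw [Set.subset_empty_iff.1 h]
    · rw [if_neg hL.ne_empty]; exact bot_le
  V_le J := by
    by_cases hJ : J = ∅
    · rw [if_pos hJ, if_pos hJ]; exact D.U_le
    · rw [if_neg hJ]; exact bot_le
  V_norm J := by
    by_cases hJ : J = ∅
    · rw [if_pos hJ, if_pos hJ, D.nU]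
    · rw [if_neg hJ, if_neg hJ]
      intro x _
      rw [Subgroup.mem_normalizer_iff_map_conj_eq]
      exact Subgroup.map_bot _
  U_norm := by
    rw [if_pos rfl, if_pos rfl]
    exact D.nU
  U_p := by
    rw [if_pos rfl]
    exact D.pU
  U_max S hS hp := by
    rw [if_pos rfl] at hS ⊢
    exact D.mU S hS hp
  V_max {J S} hS hp hn := by
    by_cases hJ : J = ∅
    · rw [if_pos hJ] at hS hn ⊢
      exact D.nm_le hp fun u hu => hn u (D.U_le hu)
    · rw [if_neg hJ] at hS hn ⊢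
      have h1 : S ≤ D.U := D.nm_le hp fun u _ => hn u (Subgroup.mem_top _)
      intro s hs
      have h2 : s ∈ cj D.w D.B := by
        rw [mem_cj]
        apply D.U_le
        apply h1
        have := hn D.w⁻¹ (Subgroup.mem_top _) s hs
        rwa [inv_inv] at this
      have h3 : s ∈ D.U ⊓ cj D.w D.B := ⟨h1 hs, h2⟩
      rwa [D.ti] at h3
  dec {J L g} h := by
    by_cases hJ : J = ∅
    · by_cases hL : L = ∅
      · rw [if_pos hJ, if_pos hL] at h
        refine ⟨g, ?_, 1, one_mem _, by group⟩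
        rw [if_pos hJ]
        exact D.mem_B_of_le h
      · refine ⟨1, one_mem _, g, ?_, by group⟩
        rw [if_neg hL]
        trivial
    · refine ⟨g, ?_, 1, one_mem _, by group⟩
      rw [if_neg hJ]
      trivial
  canon {K} hK {J} hJ {g} h := by
    have hJ0 : J = ∅ := by
      by_contra h1
      obtain ⟨y, hy⟩ := Set.nonempty_iff_ne_empty.2 h1
      exact hJ (Set.eq_univ_of_forall fun x => hy)
    rw [if_pos hJ0] at h
    obtain ⟨h1, h2⟩ := D.canon1 hK h
    refine ⟨∅, g, Set.empty_ne_univ, ?_, fun φ hφ => ?_⟩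
    · rw [if_pos rfl]; exact h1
    · rw [if_pos rfl]; exact h2 φ hφ

section

variable [Finite T] [Fact p.Prime] [IsSimpleGroup T]

theorem psys_P : (D.psys).P ∅ = D.B := if_pos rfl

theorem psys_V : (D.psys).V ∅ = D.U := if_pos rfl

theorem psys_V' {J : Set Unit} (h : J ≠ ∅) : (D.psys).V J = ⊥ := if_neg h

theorem rk : Rk D.psys where
  desc {J g} hg hgB := by
    have hJ : J ≠ ∅ := by
      rintro rfl
      exact hgB hg
    obtain ⟨y, hy⟩ := Set.nonempty_iff_ne_empty.2 hJ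
    refine ⟨y, hy, fun u hu h => ?_⟩
    rw [D.psys_V] at hu
    rw [D.psys_P] at h hgB
    have h1 : u ∈ cj g D.B := by rwa [mem_cj]
    rw [D.ti' hgB hu h1]
    exact one_mem _
  trans {j x y} _ hxB _ hyB := by
    rw [D.psys_P] at hxB hyB
    rw [D.psys_P, D.psys_V]
    obtain ⟨u, hu, b, hb, rfl⟩ := D.tr x hxB
    obtain ⟨u', hu', b', hb', rfl⟩ := D.tr y hyB
    refine ⟨u' * u⁻¹, mul_mem hu' (inv_mem hu), ?_⟩
    have e1 : (u' * D.w * b')⁻¹ * (u' * u⁻¹) * (u * D.w * b) = b'⁻¹ * b := by group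
    rw [e1]
    exact mul_mem (inv_mem hb') hb
  ne j := by
    rw [D.psys_V, D.psys_V' (Set.singleton_nonempty j).ne_empty]
    exact fun h => D.U_ne_bot h.symm

end

end R1

end Cfsg.Agent.H470.EPO
end

-- part: H470/EPO/OwnR1
section
prune_inst 0x900000000180014000020400000010000400001112007020206d2002002000148a00c120008800000000048104c00c000000000040004000000012080aa420022400104200007803007180c00000000000000000000000000041004000000000
set_option linter.all false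
open scoped Cfsg.Agent.FastGrp

-- part: H470/EPO/R1Y
section
/-!
# Own characteristic, rank one: the element `y` (helper470)

`exists_y` : a `p`-element `y ∉ H` which centralises the torus `TT`, normalises `U`, `M = N_H(U)`, and `[M, y]` is in a
normal `p`-subgroup of `M`.
-/

set_option autoImplicit false
set_option linter.unusedSectionVars false

namespace Cfsg.Agent.H470.EPO

open Cfsg.Agent.H284 Cfsg.Agent.H737.EPO Cfsg.Agent.H209.EPX

/-- the group `T0 ^ k` -/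
def TT {G T : Type*} [Group G] [Group T] {N : Subgroup G} {k p : ℕ} (e : N ≃* (Fin k → T)) (D : R1 p T) : Subgroup G :=
  pk e fun _ => D.T0

section

variable {G T : Type*} [Group G] [Finite G] [Group T] [Finite T] [IsSimpleGroup T] {H N : Subgroup G} {k : ℕ}
  (e : N ≃* (Fin k → T)) {p : ℕ} [Fact p.Prime] (D : R1 p T)

theorem R1.p_mem_U {S : Subgroup T} (hS : S ≤ D.B) (hp : IsPGroup p S) : S ≤ D.U := by
  have h2 : IsPGroup p (S ⊔ D.U : Subgroup T) := hp.to_sup_of_normal_right' D.pU (by rw [D.nU]; exact hS)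
  exact le_sup_left.trans (D.mU _ le_sup_right h2).le

theorem R1.T0_inf_U {t : T} (ht : t ∈ D.T0) (hU : t ∈ D.U) : t = 1 := by
  have : t ∈ D.U ⊓ cj D.w D.B := ⟨hU, ht.2⟩
  rwa [D.ti, Subgroup.mem_bot] at this

theorem R1.T0_p {t : T} (ht : t ∈ D.T0) (h : t ^ p = 1) : t = 1 := by
  apply D.T0_inf_U ht
  have h1 : IsPGroup p (Subgroup.zpowers t) := by
    rintro ⟨x, hx⟩
    obtain ⟨n, rfl⟩ := Subgroup.mem_zpowers_iff.1 hx
    refine ⟨1, Subtype.ext ?_⟩
    show (t ^ n) ^ p ^ 1 = 1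
    rw [pow_one, ← zpow_natCast, ← zpow_mul, mul_comm, zpow_mul, zpow_natCast, h, one_zpow]
  exact D.p_mem_U (Subgroup.zpowers_le.2 ht.1) h1 (Subgroup.mem_zpowers t)

theorem cp_pow {x : G} (hx : x ∈ N) (i : Fin k) (n : ℕ) : cp e (x ^ n) i = cp e x i ^ n := by
  induction n with
  | zero => rw [pow_zero, pow_zero, cp_one]
  | succ n ih => rw [pow_succ, pow_succ, cp_mul e (pow_mem hx n) hx, ih]

theorem TT_coprime {Q : Subgroup G} (hQ : IsPGroup p Q) : (Nat.card (TT e D)).Coprime (Nat.card Q) := by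
  obtain ⟨n, hn⟩ := IsPGroup.iff_card.1 hQ
  rw [hn]
  apply Nat.Coprime.pow_right
  rw [Nat.coprime_comm, (Fact.out : p.Prime).coprime_iff_not_dvd]
  intro hd
  obtain ⟨x, hx⟩ := exists_prime_orderOf_dvd_card' p hd
  have h0 := pow_orderOf_eq_one x
  rw [hx] at h0
  have h1 : (x : G) ^ p = 1 := by
    have h3 := congrArg Subtype.val h0
    simpa only [_root_.SubmonoidClass.coe_pow, _root_.OneMemClass.coe_one] using h3
  have hx' := (mem_pk e).1 x.2
  have h2 : (x : G) = 1 := by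
    refine ext_cp e hx'.1 (one_mem _) fun i => ?_
    rw [cp_one]
    apply D.T0_p (hx'.2 i)
    rw [← cp_pow e hx'.1, h1, cp_one]
  have h3 : x = 1 := Subtype.ext h2
  rw [h3, orderOf_one] at hx
  exact (Fact.out : p.Prime).one_lt.ne hx

theorem VV_eq : VV e D.psys (fun _ => ∅) = pk e fun _ => D.U := by
  unfold VV
  simp only [D.psys_V]

theorem PP_eq : PP e D.psys (fun _ => ∅) = pk e fun _ => D.B := by
  unfold PP
  simp only [D.psys_P]

theorem TT_le_PP : TT e D ≤ PP e D.psys fun _ => ∅ := by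
  rw [PP_eq]
  exact (pk_le_iff e).2 fun _ => inf_le_left

variable (hY : ∃ a b : T, a * b ≠ b * a)

include hY

/-- two point stabilisers above `U` -/
theorem two_over_U (h : EP H) (hN : MinN N H) {M : Subgroup G} (hM : M ∈ EP.twoSet H)
    (hU : VV e D.psys (fun _ => ∅) ≤ M) : M = PH H e D.psys fun _ => ∅ := by
  obtain ⟨L, hL, -, -, h1, -⟩ := std e D.psys hY hN (mx_of_two h hN hM) hU
  have : L = fun _ => ∅ := by
    funext i
    by_contra h2
    obtain ⟨x, hx⟩ := Set.nonempty_iff_ne_empty.2 h2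
    exact hL i (Set.eq_univ_of_forall fun _ => hx)
  rw [h1, this]

/-- **the element `y`** -/
theorem exists_y (h : EP H) (hN : MinN N H) (hD : D.Hyp) (hDQ : DQ (p := p) H e D.psys fun _ => ∅) :
    ∃ (y : G) (E : Subgroup G), y ∉ H ∧ (∀ t ∈ TT e D, y * t = t * y) ∧
      H ⊓ cj y H = PH H e D.psys (fun _ => ∅) ∧
      cj y (PH H e D.psys fun _ => ∅) = PH H e D.psys (fun _ => ∅) ∧
      cj y (VV e D.psys fun _ => ∅) = VV e D.psys (fun _ => ∅) ∧ (∃ m : ℕ, y ^ p ^ m = 1) ∧ IsPGroup p E ∧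
      ∀ b ∈ PH H e D.psys (fun _ => ∅), b * y * b⁻¹ * y⁻¹ ∈ E := by
  obtain ⟨E, Q, hVE, hEM, hEp, hEn, hQp, hQn, hEQ, hQH, hQE⟩ := hDQ
  obtain ⟨W, hWQ, hWE, v⟩ := exists_vecB (Fact.out : p.Prime) hEn hQp hQn hEQ hQH hQE
  set M := PH H e D.psys fun _ => ∅ with hMdef
  have hMH : M ≤ H := inf_le_left
  have hEH : E ≤ H := hEM.trans hMH
  have hone : ∀ x ∈ W, x ∉ E → H ⊓ cj x H = M := by
    intro x hx hxE
    refine two_over_U e D hY h hN ⟨x, v.notMem_H hx hxE, rfl⟩ (hVE.trans (le_inf hEH ?_))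
    have h1 : cj x E = E := cj_eq_of_nm (v.WD x hx)
    rw [← h1]
    exact cj_mono hEH
  have hcj : ∀ x ∈ W, x ∉ E → cj x M = M := by
    intro x hx hxE
    have h1 := hone x hx hxE
    have h2 := hone x⁻¹ (inv_mem hx) (fun h3 => hxE (by have := inv_mem h3; rwa [inv_inv] at this))
    conv_lhs => rw [← h2]
    rw [cj_inf, cj_cj_inv, inf_comm]
    exact h1
  have hTM : TT e D ≤ M := (TT_le_PP e D).trans (PP_le_PH e _ hN.le _)
  -- the fixed points of `TT` on `W`
  have hcomm : ⁅W, TT e D⁆ ≤ E := by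
    rw [Subgroup.commutator_le]
    intro x hx t ht
    rw [commutatorElement_def]
    by_cases hxE : x ∈ E
    · have h1 := v.Wn t (hTM ht) x⁻¹ (inv_mem hx)
      have h2 := hEn t (hTM ht) x⁻¹ (inv_mem hxE)
      have e1 : x * t * x⁻¹ * t⁻¹ = x * (t * x⁻¹ * t⁻¹) := by group
      rw [e1]
      exact mul_mem hxE h2
    · have h1 := v.Wn t (hTM ht) x⁻¹ (inv_mem hx)
      have h3 : x * t * x⁻¹ * t⁻¹ ∈ W := by
        have e1 : x * t * x⁻¹ * t⁻¹ = x * (t * x⁻¹ * t⁻¹) := by group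
        rw [e1]
        exact mul_mem hx h1
      have h4 : x * t * x⁻¹ ∈ M := by
        rw [← hcj x hx hxE]
        exact conj_mem_cj (hTM ht)
      rw [← v.WH]
      exact ⟨h3, H.mul_mem (hMH h4) (H.inv_mem (hMH (hTM ht)))⟩
  have hWp : IsPGroup p W := hQp.to_le hWQ
  have hnW : TT e D ≤ Subgroup.normalizer (W : Set G) := by
    intro t ht
    rw [Subgroup.mem_normalizer_iff_map_conj_eq]
    exact cj_eq_of_nm (v.Wn t (hTM ht))
  have hfin := S0026.result (TT e D) W hnW (TT_coprime e D hWp) (Or.inr (by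
    have := hWp.isNilpotent
    infer_instance))
  obtain ⟨y, hy, hyE⟩ : ∃ y ∈ W ⊓ Subgroup.centralizer (TT e D : Set G), y ∉ E := by
    by_contra hcon
    push Not at hcon
    apply hWE
    apply le_antisymm _ v.DW
    rw [← hfin]
    exact sup_le hcomm hcon
  have hyT : ∀ t ∈ TT e D, y * t = t * y := fun t ht => (Subgroup.mem_centralizer_iff.1 hy.2 t ht).symm
  have hyM := hcj y hy.1 hyE
  have hbE : ∀ b ∈ M, b * y * b⁻¹ * y⁻¹ ∈ E := by
    intro b hb
    rw [← v.WH]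
    refine Subgroup.mem_inf.2 ⟨mul_mem (v.Wn b hb y hy.1) (inv_mem hy.1), ?_⟩
    have h1 : y * b⁻¹ * y⁻¹ ∈ M := by
      rw [← hyM]
      exact conj_mem_cj (inv_mem hb)
    have e1 : b * y * b⁻¹ * y⁻¹ = b * (y * b⁻¹ * y⁻¹) := by group
    rw [e1]
    exact hMH (mul_mem hb h1)
  -- `E ⊓ N = U`
  have hEN : E ⊓ N = VV e D.psys fun _ => ∅ :=
    UU_max e _ inf_le_right (hEp.to_le inf_le_left) (le_inf hVE (VV_le e _ _))
  have hyU : VV e D.psys (fun _ => ∅) ≤ cj y⁻¹ (VV e D.psys fun _ => ∅) := by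
    have h1 : ∀ i : Fin k, ((VV e D.psys (fun _ => ∅)) ⊓ cj y⁻¹ (VV e D.psys fun _ => ∅)).comap (sg e i) = D.U := by
      intro i
      apply hD.comm
      · intro t ht
        have h2 : sg e i t ∈ VV e D.psys fun _ => ∅ := ht.1
        rw [VV_eq] at h2
        exact (sg_mem_pk e).1 h2
      · intro u hu t ht
        have hu' : sg e i u ∈ VV e D.psys fun _ => ∅ := by rw [VV_eq]; exact (sg_mem_pk e).2 hu
        have ht' : sg e i t ∈ TT e D := (sg_mem_pk e).2 ht
        have h3 : ∀ d ∈ E, d * sg e i t * d⁻¹ * (sg e i t)⁻¹ ∈ VV e D.psys fun _ => ∅ := by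
          intro d hd
          rw [← hEN]
          refine Subgroup.mem_inf.2 ⟨?_, ?_⟩
          · have h4 := hEn _ (hTM ht') d⁻¹ (inv_mem hd)
            have e1 : d * sg e i t * d⁻¹ * (sg e i t)⁻¹ = d * (sg e i t * d⁻¹ * (sg e i t)⁻¹) := by group
            rw [e1]
            exact mul_mem hd h4
          · exact mul_mem (hN.nrm d (hEH hd) _ (sg_mem e i t)) (inv_mem (sg_mem e i t))
        show sg e i (u * t * u⁻¹ * t⁻¹) ∈ (VV e D.psys (fun _ => ∅)) ⊓ cj y⁻¹ (VV e D.psys fun _ => ∅)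
        rw [map_mul, map_mul, map_mul, map_inv, map_inv]
        refine Subgroup.mem_inf.2 ⟨h3 _ (hVE hu'), ?_⟩
        rw [mem_cj, inv_inv]
        have hyE' : y * sg e i u * y⁻¹ ∈ E := v.WD y hy.1 _ (hVE hu')
        have h4 := h3 _ hyE'
        have h5 : y * sg e i t * y⁻¹ = sg e i t := by rw [hyT _ ht']; group
        have e1 : y * (sg e i u * sg e i t * (sg e i u)⁻¹ * (sg e i t)⁻¹) * y⁻¹ =
            (y * sg e i u * y⁻¹) * (y * sg e i t * y⁻¹) * (y * sg e i u * y⁻¹)⁻¹ * (y * sg e i t * y⁻¹)⁻¹ := by group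
        rw [e1, h5]
        exact h4
    have h2 : VV e D.psys (fun _ => ∅) ≤ (VV e D.psys (fun _ => ∅)) ⊓ cj y⁻¹ (VV e D.psys fun _ => ∅) := by
      conv_lhs => rw [VV_eq]
      refine pk_le_of_sg e fun i t ht => ?_
      rw [← h1 i] at ht
      exact ht
    exact h2.trans inf_le_right
  refine ⟨y, E, v.notMem_H hy.1 hyE, hyT, hone y hy.1 hyE, hyM, ?_, ?_, hEp, hbE⟩
  · rw [← cj_le_iff] at hyU
    exact Subgroup.eq_of_le_of_card_ge hyU (card_cj _ _).ge
  · obtain ⟨m, hm⟩ := hWp ⟨y, hy.1⟩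
    exact ⟨m, by simpa only [_root_.SubmonoidClass.mk_pow, _root_.OneMemClass.coe_one] using congrArg Subtype.val hm⟩

end

end Cfsg.Agent.H470.EPO
end

-- part: H375/EPR/Abs
section
/-!
# Extremely primitive groups, own characteristic, socle of rank one: the abstract kills (helper375)

`B = G_a ∩ G_b` (Borel subgroup), `w ∈ G_a`, `T₀` (torus) `≤ B`, normalised by `w`, `y` a `p`-element with `y a = b`,
commuting with `T₀` and normalising `B`.

* `two_false` : `X` between `T₀` and `B`, `B ∩ B^w`, normalised by `y`, only the lines `B`, `B^w` through `a` contain `X`: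
  contradiction (socle `T ^ k`, `k ≥ 2`);
-/

set_option autoImplicit false
set_option linter.unusedSectionVars false

namespace Cfsg.Agent.H375.EPR

open MulAction Subgroup Cfsg.Agent.H284
open Cfsg.Agent.H284.EPA (lines linesD)

variable {G : Type*} [Group G] {Ω : Type*} [MulAction G Ω]

/-- the two point stabiliser is self-normalising in each of its point stabilisers -/
theorem norm_line [Finite G] [FaithfulSMul G Ω] (h : EPA G Ω) {a b : Ω} (hab : b ≠ a)
    (hB : stabilizer G a ⊓ stabilizer G b ≠ ⊥) {g : G} (hg : g ∈ stabilizer G a)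
    (hn : cj g (stabilizer G a ⊓ stabilizer G b) = stabilizer G a ⊓ stabilizer G b) : g ∈ stabilizer G b := by
  obtain ⟨x, rfl⟩ := h.exists_smul a b
  have hx : x ∉ stabilizer G a := fun e => hab e
  have hn' : ∀ k ∈ stabilizer G a ⊓ cj x (stabilizer G a), g * k * g⁻¹ ∈ stabilizer G a ⊓ cj x (stabilizer G a) := by
    intro k hk
    rw [← stab_smul] at hk ⊢
    rw [← hn]
    exact conj_mem_cj hk
  have h1 := (h.toEP a).norm hx (X := stabilizer G a ⊓ cj x (stabilizer G a)) le_rfl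
    (fun m hm k hk => mul_mem (mul_mem hm hk) (inv_mem hm)) (by rw [← stab_smul]; exact hB) hg hn'
  rw [← stab_smul] at h1
  exact h1

/-- an element normalising the line and fixing a point of it fixes all its points -/
theorem reg_line [Finite G] [FaithfulSMul G Ω] (h : EPA G Ω) {a b c : Ω} (hab : b ≠ a)
    (hB : stabilizer G a ⊓ stabilizer G b ≠ ⊥) (hc : c ∈ fixPts Ω (stabilizer G a ⊓ stabilizer G b)) {g : G}
    (hn : cj g (stabilizer G a ⊓ stabilizer G b) = stabilizer G a ⊓ stabilizer G b) (hg : g • c = c) :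
    g ∈ stabilizer G a ⊓ stabilizer G b := by
  obtain ⟨d, hd, hdc⟩ : ∃ d, d ∈ fixPts Ω (stabilizer G a ⊓ stabilizer G b) ∧ d ≠ c := by
    by_cases h1 : a = c
    · exact ⟨b, mem_fixPts.2 inf_le_right, fun e => hab (by rw [h1, e])⟩
    · exact ⟨a, mem_fixPts.2 inf_le_left, h1⟩
  have h2 := h.line_eq hab hdc.symm hc hd
  rw [← h2] at hB hn ⊢
  exact mem_inf.2 ⟨hg, norm_line h hdc hB hg hn⟩

/-- an element normalising the group of a line maps the line to itself -/
theorem smul_mem_line {M : Subgroup G} {g : G} (hn : cj g M = M) {c : Ω} (hc : c ∈ fixPts Ω M) : g • c ∈ fixPts Ω M := by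
  have h1 := (smul_mem_fixPts (M := M) (c := c) (g := g)).2 hc
  rwa [hn] at h1

/-- conjugate lines have the same size -/
theorem ncard_fix_cj [Finite Ω] (M : Subgroup G) (g : G) : (fixPts Ω (cj g M)).ncard = (fixPts Ω M).ncard := by
  symm
  refine Set.ncard_congr (fun c _ => g • c) ?_ ?_ ?_
  · intro c hc
    exact smul_mem_fixPts.2 hc
  · intro c d _ _ e
    exact smul_left_cancel g e
  · intro c hc
    refine ⟨g⁻¹ • c, ?_, smul_inv_smul g c⟩
    rw [← smul_mem_fixPts (g := g), smul_inv_smul]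
    exact hc

/-- `|B-line| ≤` the number of lines through `a` containing `X` -/
theorem line_le [Finite G] [Finite Ω] [FaithfulSMul G Ω] (h : EPA G Ω) {a b : Ω} (hab : b ≠ a) {w y : G}
    (hw : w ∈ stabilizer G a) (hwB : cj w (stabilizer G a ⊓ stabilizer G b) ≠ stabilizer G a ⊓ stabilizer G b)
    (hya : y • a = b) {X : Subgroup G} (hXB : X ≤ stabilizer G a ⊓ stabilizer G b)
    (hXw : X ≤ cj w (stabilizer G a ⊓ stabilizer G b)) (hyX : cj y X = X) :
    (fixPts Ω (stabilizer G a ⊓ stabilizer G b)).ncard ≤ (linesD X a).ncard := by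
  have hwa : w • a = a := hw
  have h1 : cj w (stabilizer G a ⊓ stabilizer G b) = stabilizer G a ⊓ stabilizer G (w • b) := by
    rw [cj_inf, ← stab_smul, ← stab_smul, hwa]
  have hne : w • b ≠ a := fun e => hab (smul_left_cancel w (e.trans hwa.symm))
  have h2 : cj w (stabilizer G a ⊓ stabilizer G b) ∈ lines G a := ⟨w • b, hne, h1⟩
  have h3 := h.line_bound h2 hXw (c := b) (hXB.trans inf_le_right) (by
    intro h4
    apply hwB
    rw [h1] at h4 ⊢
    exact (h.stab_eq hne hab h4).symm)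
  rw [ncard_fix_cj] at h3
  refine h3.trans (le_of_eq ?_)
  have h4 := EPA.ncard_linesD (G := G) (Ω := Ω) X a y
  rwa [hyX, hya] at h4

end Cfsg.Agent.H375.EPR
end

-- part: H470/EPO/R1Core
section
/-!
# Own characteristic, rank one, `k = 1` (helper470)
-/

set_option autoImplicit false
set_option linter.unusedSectionVars false

namespace Cfsg.Agent.H470.EPO

open Cfsg.Agent.H284 Cfsg.Agent.H737.EPO Cfsg.Agent.H209.EPX

namespace R1

variable {T : Type*} [Group T] {p : ℕ} (D : R1 p T)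

theorem cj_w_T0 : cj D.w D.T0 = D.T0 := by
  show cj D.w (D.B ⊓ cj D.w D.B) = _
  rw [cj_inf, D.cj_w_cj_w, inf_comm]
  rfl

theorem w_T0 {t : T} (ht : t ∈ D.T0) : D.w * t * D.w⁻¹ ∈ D.T0 := by
  have h1 := conj_mem_cj (x := D.w) ht
  rwa [D.cj_w_T0] at h1

theorem w_T0' {t : T} (ht : t ∈ D.T0) : D.w⁻¹ * t * D.w ∈ D.T0 := by
  rw [← D.cj_w_T0, mem_cj] at ht
  exact ht

theorem mem_B_of_conj [Finite T] {c : T} (h : ∀ b ∈ D.B, c * b * c⁻¹ ∈ D.B) : c ∈ D.B := by
  apply D.mem_B_of_le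
  rw [cj_eq_of_nm h]
  exact D.U_le

theorem triv [Finite T] [IsSimpleGroup T] (hp : p ≤ 3) (hD : D.Hyp) (φ : MulAut T) (hφ : ∀ b ∈ D.B, φ b = b) (x : T) :
    φ x = x := by
  have hc : D.w⁻¹ * φ D.w ∈ D.B := by
    apply D.mem_B_of_conj
    intro b hb
    have h1 : ∀ t ∈ D.T0, ((MulAut.conj D.w⁻¹) * φ * (MulAut.conj D.w) : MulAut T) t = t := by
      intro t ht
      have h2 : D.w * t * D.w⁻¹ ∈ D.B := (D.w_T0 ht).1
      have h3 : ((MulAut.conj D.w⁻¹) * φ * (MulAut.conj D.w) : MulAut T) t = D.w⁻¹ * φ (D.w * t * D.w⁻¹) * D.w := by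
        simp [MulAut.mul_apply, MulAut.conj_apply]
      rw [h3, hφ _ h2]
      group
    have h4 := hD.inv hp _ h1 b hb
    have h5 : ((MulAut.conj D.w⁻¹) * φ * (MulAut.conj D.w) : MulAut T) b =
        D.w⁻¹ * φ D.w * b * (D.w⁻¹ * φ D.w)⁻¹ := by
      have h6 : ((MulAut.conj D.w⁻¹) * φ * (MulAut.conj D.w) : MulAut T) b = D.w⁻¹ * φ (D.w * b * D.w⁻¹) * D.w := by
        simp [MulAut.mul_apply, MulAut.conj_apply]
      rw [h6, map_mul, map_mul, map_inv, hφ b hb]
      group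
    rwa [h5] at h4
  have hall : ∀ x : T, x⁻¹ * φ x ∈ D.B := by
    intro x
    by_cases hx : x ∈ D.B
    · rw [hφ x hx, inv_mul_cancel]; exact one_mem _
    · obtain ⟨u, hu, b, hb, rfl⟩ := D.tr x hx
      rw [map_mul, map_mul, hφ u (D.U_le hu), hφ b hb]
      have e1 : (u * D.w * b)⁻¹ * (u * φ D.w * b) = b⁻¹ * (D.w⁻¹ * φ D.w) * b := by group
      rw [e1]
      exact D.B.mul_mem (D.B.mul_mem (D.B.inv_mem hb) hc) hb
  have hall2 : ∀ x g : T, g * (x⁻¹ * φ x) * g⁻¹ ∈ D.B := by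
    intro x g
    have h1 := hall (x * g⁻¹)
    have h2 := hall g⁻¹
    have e1 : g * (x⁻¹ * φ x) * g⁻¹ = ((x * g⁻¹)⁻¹ * φ (x * g⁻¹)) * (g⁻¹⁻¹ * φ g⁻¹)⁻¹ := by
      rw [map_mul]
      group
    rw [e1]
    exact D.B.mul_mem h1 (D.B.inv_mem h2)
  have h3 : Subgroup.normalClosure {z : T | ∃ x, z = x⁻¹ * φ x} ≤ D.B := by
    unfold Subgroup.normalClosure
    rw [Subgroup.closure_le]
    intro z hz
    obtain ⟨a, ⟨x, rfl⟩, hax⟩ := Group.mem_conjugatesOfSet_iff.1 hz
    obtain ⟨c, hc⟩ := isConj_iff.1 hax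
    rw [← hc]
    exact hall2 x c
  rcases (inferInstance : (Subgroup.normalClosure {z : T | ∃ x, z = x⁻¹ * φ x}).Normal).eq_bot_or_eq_top with h4 | h4
  · have h5 : x⁻¹ * φ x ∈ Subgroup.normalClosure {z : T | ∃ x, z = x⁻¹ * φ x} :=
      Subgroup.subset_normalClosure ⟨x, rfl⟩
    rw [h4, Subgroup.mem_bot] at h5
    exact (inv_mul_eq_one.1 h5).symm
  · exfalso
    apply D.B_ne_top
    rw [eq_top_iff, ← h4]
    exact h3

/-- an automorphism mapping a nontrivial subgroup of `U` into `U` normalises `U` -/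
theorem aut_U [Finite T] [Fact p.Prime] (φ : MulAut T) {x : T} (hx : x ∈ D.U) (hx1 : x ≠ 1) (h : φ x ∈ D.U) :
    ∀ u ∈ D.U, φ u ∈ D.U := by
  -- `φ(U)` is a Sylow subgroup
  let P : Sylow p T := ⟨D.U, D.pU, fun {Q} hQ hle => D.mU Q hle hQ⟩
  have hP2 : ∀ Q : Subgroup T, IsPGroup p Q → D.U.map φ.toMonoidHom ≤ Q → Q = D.U.map φ.toMonoidHom := by
    intro Q hQ hle
    have h1 : D.U ≤ Q.map φ.symm.toMonoidHom := by
      intro u hu
      exact ⟨φ u, hle ⟨u, hu, rfl⟩, φ.symm_apply_apply u⟩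
    have h2 := D.mU _ h1 (hQ.map _)
    rw [← h2]
    ext q
    constructor
    · intro hq
      exact ⟨φ.symm q, ⟨q, hq, rfl⟩, φ.apply_symm_apply q⟩
    · rintro ⟨_, ⟨q', hq', rfl⟩, rfl⟩
      have : φ.toMonoidHom (φ.symm.toMonoidHom q') = q' := φ.apply_symm_apply q'
      rw [this]
      exact hq'
  let P' : Sylow p T := ⟨D.U.map φ.toMonoidHom, D.pU.map _, fun {Q} hQ hle => hP2 Q hQ hle⟩
  obtain ⟨g, hg⟩ := MulAction.exists_smul_eq T P P'
  have hg' : cj g D.U = D.U.map φ.toMonoidHom := congrArg (fun Q : Sylow p T => (Q : Subgroup T)) hg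
  have h1 : φ x ∈ cj g D.U := by rw [hg']; exact ⟨x, hx, rfl⟩
  have hgB : g ∈ D.B := by
    by_contra hgB
    have h2 := D.ti' hgB h (cj_mono D.U_le h1)
    rw [map_eq_one_iff _ φ.injective] at h2
    exact hx1 h2
  rw [D.cj_U hgB] at hg'
  intro u hu
  rw [hg']
  exact ⟨u, hu, rfl⟩

end R1

section One

variable {G T : Type*} [Group G] [Finite G] [Group T] [Finite T] [IsSimpleGroup T] {H N : Subgroup G}
  (e : N ≃* (Fin 1 → T)) {p : ℕ} [Fact p.Prime] (D : R1 p T)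

omit [Finite G] [Finite T] [IsSimpleGroup T] in
theorem sg_cp {x : G} (hx : x ∈ N) : sg e 0 (cp e x 0) = x := by
  refine ext_cp e (sg_mem e 0 _) hx fun i => ?_
  rw [Subsingleton.elim i 0, cp_sg]

omit [Finite G] [Finite T] [IsSimpleGroup T] in
theorem mem_pk1 {K : Subgroup T} {x : G} : x ∈ pk e (fun _ => K) ↔ ∃ t ∈ K, sg e 0 t = x := by
  constructor
  · intro h
    have h' := (mem_pk e).1 h
    exact ⟨_, h'.2 0, sg_cp e h'.1⟩
  · rintro ⟨t, ht, rfl⟩
    exact (sg_mem_pk e).2 ht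

theorem sg_inj {s t : T} (h : sg e 0 s = sg e 0 t) : s = t := by
  rw [← cp_sg e 0 s, h, cp_sg]

variable (hY : ∃ a b : T, a * b ≠ b * a)

include hY in
/-- the action of `H` on `T` -/
theorem exists_aut (hN : MinN N H) {g : G} (hg : g ∈ H) : ∃ φ : MulAut T, ∀ t, g * sg e 0 t * g⁻¹ = sg e 0 (φ t) := by
  rcases perm_sg e hY (minN_iff hN hg) 0 with h | h
  · exfalso
    obtain ⟨a, b, hab⟩ := hY
    apply hab
    have h1 : g * sg e 0 a * g⁻¹ = 1 := by
      refine ext_cp e (hN.nrm g hg _ (sg_mem e 0 a)) (one_mem _) fun i => ?_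
      rw [Subsingleton.elim i 0, h, cp_one]
    have h2 : sg e 0 a = sg e 0 1 := by
      rw [map_one]
      have : sg e 0 a = g⁻¹ * (g * sg e 0 a * g⁻¹) * g := by group
      rw [this, h1]; group
    rw [sg_inj e h2, one_mul, mul_one]
  · exact h

theorem BH_le_M (hN : MinN N H) : BH H e D.psys ≤ PH H e D.psys fun _ => ∅ := fun x hx =>
  (mem_PH e _).2 ⟨((mem_BH e _).1 hx).1, BH_cj_B e _ hN.nrm hx⟩

theorem mem_M_of_aut (hN : MinN N H) {g : G} (hg : g ∈ H) {φ : MulAut T} (hφ : ∀ t, g * sg e 0 t * g⁻¹ = sg e 0 (φ t))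
    (h : ∀ u ∈ D.U, φ u ∈ D.U) : g ∈ PH H e D.psys fun _ => ∅ := by
  apply BH_le_M e D hN
  refine (mem_BH e _).2 ⟨hg, cj_eq_of_nm fun a ha => ?_⟩
  rw [VV_eq] at ha ⊢
  obtain ⟨u, hu, rfl⟩ := (mem_pk1 e).1 ha
  exact (mem_pk1 e).2 ⟨φ u, h u hu, (hφ u).symm⟩

theorem mem_M_of_aut' (hN : MinN N H) {g : G} (hg : g ∈ H) {φ : MulAut T} (hφ : ∀ t, g * sg e 0 t * g⁻¹ = sg e 0 (φ t))
    (h : ∀ u ∈ D.B, φ u ∈ D.B) : g ∈ PH H e D.psys fun _ => ∅ := by
  refine (mem_PH e _).2 ⟨hg, cj_eq_of_nm fun a ha => ?_⟩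
  rw [PP_eq] at ha ⊢
  obtain ⟨u, hu, rfl⟩ := (mem_pk1 e).1 ha
  exact (mem_pk1 e).2 ⟨φ u, h u hu, (hφ u).symm⟩

include hY in
/-- `C_H(TT) ≤ M` -/
theorem cent_TT_le (hN : MinN N H) (hD : D.Hyp) (hp : p ≤ 3) {g : G} (hg : g ∈ H) (h : ∀ t ∈ TT e D, g * t = t * g) :
    g ∈ PH H e D.psys fun _ => ∅ := by
  obtain ⟨φ, hφ⟩ := exists_aut e hY hN hg
  refine mem_M_of_aut' e D hN hg hφ (hD.inv hp φ fun t ht => ?_)
  apply sg_inj e
  have h1 : sg e 0 t ∈ TT e D := (sg_mem_pk e).2 ht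
  rw [← hφ, h _ h1]
  group

include hY in
/-- an element of `H` centralising `B_N` is trivial -/
theorem cent_PP (hN : MinN N H) (hc : Subgroup.centralizer (N : Set G) = ⊥) (hD : D.Hyp) (hp : p ≤ 3) {g : G}
    (hg : g ∈ H) (h : ∀ t ∈ PP e D.psys (fun _ => ∅), g * t = t * g) : g = 1 := by
  obtain ⟨φ, hφ⟩ := exists_aut e hY hN hg
  have h1 : ∀ b ∈ D.B, φ b = b := by
    intro b hb
    apply sg_inj e
    have h1 : sg e 0 b ∈ PP e D.psys (fun _ => ∅) := by rw [PP_eq]; exact (sg_mem_pk e).2 hb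
    rw [← hφ, h _ h1]
    group
  have h2 := D.triv hp hD φ h1
  have h3 : g ∈ Subgroup.centralizer (N : Set G) := by
    rw [Subgroup.mem_centralizer_iff]
    intro n hn
    rw [← sg_cp e hn]
    have h4 := hφ (cp e n 0)
    rw [h2] at h4
    exact (mul_inv_eq_iff_eq_mul.1 h4).symm
  rw [hc] at h3
  exact h3

/-- `p = 2` : a 2-element of `G` which centralises `TT` and normalises `U` centralises `B_N` -/
theorem cent_U (hD : D.Hyp) (hp : p = 2) {g : G} (hT : ∀ t ∈ TT e D, g * t = t * g)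
    (hU : cj g (VV e D.psys fun _ => ∅) = VV e D.psys fun _ => ∅) {m : ℕ} (hm : g ^ 2 ^ m = 1) :
    ∀ b ∈ PP e D.psys (fun _ => ∅), g * b = b * g := by
  have hU' := hU
  rw [VV_eq] at hU'
  let V : Subgroup G := pk e fun _ => D.U
  let f : D.U ≃* V := MulEquiv.ofBijective
    ({ toFun := fun u => ⟨sg e 0 u, (mem_pk1 e).2 ⟨u, u.2, rfl⟩⟩
       map_one' := Subtype.ext (map_one _)
       map_mul' := fun a b => Subtype.ext (map_mul _ _ _) } : D.U →* V) ⟨fun a b hab =>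
        Subtype.ext (sg_inj e (congrArg (fun z : V => (z : G)) hab)), fun ⟨x, hx⟩ => by
        obtain ⟨t, ht, rfl⟩ := (mem_pk1 e).1 hx
        exact ⟨⟨t, ht⟩, rfl⟩⟩
  have hf : ∀ u : D.U, ((f u : V) : G) = sg e 0 u := fun _ => rfl
  have hgV : g ∈ Subgroup.normalizer (V : Set G) := by
    rw [Subgroup.mem_normalizer_iff_map_conj_eq]
    exact hU'
  let ρ : Subgroup.normalizer (V : Set G) →* MulAut V := V.normalizerMonoidHom
  let φ : MulAut D.U := MulAut.congr f.symm (ρ ⟨g, hgV⟩)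
  have hφ : ∀ u : D.U, sg e 0 (φ u : D.U) = g * sg e 0 u * g⁻¹ := by
    intro u
    rw [← hf]
    show ((f (f.symm (ρ ⟨g, hgV⟩ (f u))) : V) : G) = _
    rw [MulEquiv.apply_symm_apply]
    rfl
  have h1 : φ = 1 := by
    refine hD.p2 hp φ (fun t ht u v huv => ?_) m ?_
    · apply sg_inj e
      rw [hφ, huv, map_mul, map_mul, map_mul, map_mul, map_inv, hφ]
      have h2 : sg e 0 t ∈ TT e D := (sg_mem_pk e).2 ht
      have h3 := hT _ h2
      have h4 : g * (sg e 0 t)⁻¹ = (sg e 0 t)⁻¹ * g := by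
        rw [eq_inv_mul_iff_mul_eq, ← mul_assoc, ← h3, mul_inv_cancel_right]
      calc g * (sg e 0 t * sg e 0 u * (sg e 0 t)⁻¹) * g⁻¹ = (g * sg e 0 t) * sg e 0 u * ((sg e 0 t)⁻¹ * g⁻¹) := by group
        _ = _ := by
          have h5 : (sg e 0 t)⁻¹ * g⁻¹ = g⁻¹ * (sg e 0 t)⁻¹ := by
            rw [← mul_inv_rev, h3, mul_inv_rev]
          rw [h3, h5]
          group
    · show (MulAut.congr f.symm (ρ ⟨g, hgV⟩)) ^ 2 ^ m = 1
      rw [← map_pow, ← map_pow]
      have h2 : (⟨g, hgV⟩ : Subgroup.normalizer (V : Set G)) ^ 2 ^ m = 1 := Subtype.ext hm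
      rw [h2, map_one, map_one]
  have h2 : ∀ u ∈ D.U, g * sg e 0 u = sg e 0 u * g := by
    intro u hu
    have h3 := hφ ⟨u, hu⟩
    rw [h1] at h3
    have h4 : sg e 0 u = g * sg e 0 u * g⁻¹ := h3
    conv_rhs => rw [h4]
    group
  intro b hb
  rw [PP_eq] at hb
  obtain ⟨c, hcB, rfl⟩ := (mem_pk1 e).1 hb
  obtain ⟨u, hu, t, ht, rfl⟩ := D.exists_UT hcB
  rw [map_mul, ← mul_assoc, h2 u hu, mul_assoc, hT _ ((sg_mem_pk e).2 ht), mul_assoc]

theorem w_notMem : sg e 0 D.w ∉ PH H e D.psys fun _ => ∅ := by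
  intro h
  have h1 := norm_PP e D.psys (sg_mem e 0 D.w) ((mem_PH e _).1 h).2
  rw [PP_eq] at h1
  exact D.wB ((sg_mem_pk e).1 h1)

include hY in
theorem case1 (hN : MinN N H) {M' : Subgroup G} (hM' : MX H N M') (hK : fac e M' 0 ≤ D.B)
    (hne : fac e M' 0 ⊓ D.U ≠ ⊥) : M' = PH H e D.psys fun _ => ∅ := by
  obtain ⟨⟨x, hxK, hxU⟩, hx1⟩ := Subgroup.ne_bot_iff_exists_ne_one.1 hne
  have hx1' : x ≠ 1 := fun h => hx1 (Subtype.ext h)
  have hle : M' ≤ PH H e D.psys fun _ => ∅ := by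
    intro m hm
    obtain ⟨φ, hφ⟩ := exists_aut e hY hN (hM'.le hm)
    have h1 : φ x ∈ fac e M' 0 := by
      show sg e 0 (φ x) ∈ M'
      rw [← hφ]
      exact M'.mul_mem (M'.mul_mem hm hxK) (M'.inv_mem hm)
    have h2 : IsPGroup p (Subgroup.zpowers (φ x)) := by
      have h3 : IsPGroup p (Subgroup.zpowers x) := D.pU.to_le (Subgroup.zpowers_le.2 hxU)
      have h4 := h3.map φ.toMonoidHom
      rwa [MonoidHom.map_zpowers] at h4
    have h3 : φ x ∈ D.U := D.p_mem_U (Subgroup.zpowers_le.2 (hK h1)) h2 (Subgroup.mem_zpowers _)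
    exact mem_M_of_aut e D hN (hM'.le hm) hφ (D.aut_U φ hxU hx1' h3)
  rcases hM'.max _ hle inf_le_left with h1 | h1
  · exact h1.symm
  · exfalso
    apply w_notMem e D (H := H)
    rw [h1]
    exact hN.le (sg_mem e 0 D.w)

theorem fac_cj (M' : Subgroup G) (t : T) : fac e (cj (sg e 0 t) M') 0 = cj t (fac e M' 0) := by
  ext x
  rw [mem_cj, mem_fac, mem_fac, mem_cj, ← map_inv, ← map_mul, ← map_mul]

include hY in
/-- the two point stabilisers above the torus -/
theorem two_over_T (h : EP H) (hN : MinN N H) {Zs : Finset (Subgroup T)} (hZ1 : ∀ Z ∈ Zs, Z ≠ ⊥ ∧ Z ≠ ⊤)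
    (hZ : ∀ K : Subgroup T, D.T0 ≤ K → K ≠ ⊤ → (K ≤ D.B ∧ K ⊓ D.U ≠ ⊥) ∨ (K ≤ cj D.w D.B ∧ K ⊓ cj D.w D.U ≠ ⊥) ∨
      ∃ Z ∈ Zs, ∀ φ : MulAut T, (∀ x ∈ K, φ x ∈ K) → ∀ z ∈ Z, φ z ∈ Z)
    {M' : Subgroup G} (hM' : M' ∈ EP.twoSet H) (hT : TT e D ≤ M') :
    M' = PH H e D.psys (fun _ => ∅) ∨ M' = cj (sg e 0 D.w) (PH H e D.psys fun _ => ∅) ∨
      ∃ Z ∈ Zs, M' = H ⊓ Subgroup.normalizer (Z.map (sg e 0) : Set G) := by
  have hMX := mx_of_two h hN hM'
  have h1 : D.T0 ≤ fac e M' 0 := fun t ht => hT ((sg_mem_pk e).2 ht)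
  have h2 : fac e M' 0 ≠ ⊤ := fac_ne_top e hY hN hMX 0
  rcases hZ _ h1 h2 with ⟨h3, h4⟩ | ⟨h3, h4⟩ | ⟨Z, hZZ, h3⟩
  · exact Or.inl (case1 e D hY hN hMX h3 h4)
  · right; left
    have hw : sg e 0 D.w ∈ H := hN.le (sg_mem e 0 D.w)
    have h5 := case1 e D hY hN (hMX.cj hN.nrm (inv_mem hw)) (M' := cj (sg e 0 D.w)⁻¹ M') (by
      rw [← map_inv, fac_cj]
      have := cj_mono (x := D.w⁻¹) h3
      rwa [cj_inv_cj] at this) (by
      rw [← map_inv, fac_cj]
      intro h6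
      apply h4
      have h7 := congrArg (cj D.w) h6
      rw [cj_inf, cj_cj_inv] at h7
      rw [h7]
      exact Subgroup.map_bot _)
    rw [← h5, cj_cj_inv]
  · right; right
    refine ⟨Z, hZZ, ?_⟩
    have hQN : Z.map (sg e 0) ≤ N := by
      rintro _ ⟨z, _, rfl⟩
      exact sg_mem e 0 z
    have hQ1 : Z.map (sg e 0) ≠ ⊥ := by
      intro h4
      apply (hZ1 Z hZZ).1
      rw [Subgroup.eq_bot_iff_forall]
      intro z hz
      have h5 : sg e 0 z ∈ Z.map (sg e 0) := ⟨z, hz, rfl⟩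
      rw [h4, Subgroup.mem_bot] at h5
      apply sg_inj e
      rw [h5, map_one]
    have hQ2 : Z.map (sg e 0) ≠ N := by
      intro h4
      apply (hZ1 Z hZZ).2
      rw [eq_top_iff]
      intro z _
      have h5 : sg e 0 z ∈ Z.map (sg e 0) := by rw [h4]; exact sg_mem e 0 z
      obtain ⟨z', hz', hzz⟩ := h5
      rwa [← sg_inj e hzz]
    have hQ : ∀ m ∈ M', ∀ a ∈ Z.map (sg e 0), m * a * m⁻¹ ∈ Z.map (sg e 0) := by
      rintro m hm _ ⟨z, hz, rfl⟩
      obtain ⟨φ, hφ⟩ := exists_aut e hY hN (hMX.le hm)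
      rw [hφ]
      refine ⟨φ z, h3 φ (fun x hx => ?_) z hz, rfl⟩
      show sg e 0 (φ x) ∈ M'
      rw [← hφ]
      exact M'.mul_mem (M'.mul_mem hm hx) (M'.inv_mem hm)
    apply le_antisymm
    · refine le_inf hMX.le fun m hm => ?_
      rw [Subgroup.mem_normalizer_iff_map_conj_eq]
      exact cj_eq_of_nm (hQ m hm)
    · intro x hx
      have hx2 := (Subgroup.mem_inf.1 hx).2
      rw [Subgroup.mem_normalizer_iff_map_conj_eq] at hx2
      exact hMX.norm hN hQN hQ1 hQ2 hQ (Subgroup.mem_inf.1 hx).1 hx2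

end One

end Cfsg.Agent.H470.EPO
end

-- part: H470/EPO/R1Count
section
/-!
# Counting lemmas for rank one (helper470)
-/

set_option autoImplicit false
set_option linter.unusedSectionVars false

namespace Cfsg.Agent.H470.EPO

open Cfsg.Agent.H284 Cfsg.Agent.H284.EPA MulAction Subgroup
open Cfsg.Agent.H375.EPR

section Count

variable {G Ω : Type*} [Group G] [MulAction G Ω] [Finite G] [Finite Ω] [FaithfulSMul G Ω]

theorem zpow_cj {y : G} {B : Subgroup G} (hyB : cj y B = B) {g : G} (hg : g ∈ zpowers y) : cj g B = B := by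
  have h1 : zpowers y ≤ normalizer (B : Set G) := by
    rw [zpowers_le, mem_normalizer_iff_map_conj_eq]
    exact hyB
  have h2 := h1 hg
  rw [mem_normalizer_iff_map_conj_eq] at h2
  exact h2

theorem isPGroup_zpowers {y : G} {p m : ℕ} (hm : y ^ p ^ m = 1) : IsPGroup p (zpowers y) := by
  rintro ⟨x, hx⟩
  obtain ⟨n, rfl⟩ := mem_zpowers_iff.1 hx
  refine ⟨m, Subtype.ext ?_⟩
  show (y ^ n) ^ p ^ m = 1
  rw [← zpow_natCast, ← zpow_mul, mul_comm, zpow_mul, zpow_natCast, hm, one_zpow]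

/-- `p ∣ |l_B|` -/
theorem p_dvd (h : EPA G Ω) {a : Ω} {y : G} (hy : y • a ≠ a) {B : Subgroup G}
    (hB : B = stabilizer G a ⊓ stabilizer G (y • a)) (hB1 : B ≠ ⊥) (hyB : cj y B = B) {p m : ℕ} [Fact p.Prime]
    (hm : y ^ p ^ m = 1) : p ∣ (fixPts Ω B).ncard := by
  let S : SubMulAction (zpowers y) Ω :=
    { carrier := fixPts Ω B
      smul_mem' := fun g c hc => smul_mem_line (zpow_cj hyB g.2) hc }
  have h1 := (isPGroup_zpowers hm).card_modEq_card_fixedPoints S
  have h2 : IsEmpty (fixedPoints (zpowers y) S) := by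
    refine ⟨fun ⟨c, hc⟩ => ?_⟩
    have h3 := hc ⟨y, mem_zpowers y⟩
    have h4 : y • (c : Ω) = c := congrArg Subtype.val h3
    have h5 := reg_line h (a := a) (b := y • a) hy (by rw [← hB]; exact hB1) (c := c) (by rw [← hB]; exact c.2)
      (g := y) (by rw [← hB]; exact hyB) h4
    exact hy (mem_inf.1 h5).1
  have h6 : Nat.card (fixedPoints (zpowers y) S) = 0 := Nat.card_of_isEmpty
  rw [h6] at h1
  exact (Nat.modEq_zero_iff_dvd.1 h1)

/-- `|l_B| = p` gives `y ^ p ∈ G_a` -/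
theorem pow_p (h : EPA G Ω) {a : Ω} {y : G} (hy : y • a ≠ a) {B : Subgroup G}
    (hB : B = stabilizer G a ⊓ stabilizer G (y • a)) (hyB : cj y B = B) {p m : ℕ} [hp : Fact p.Prime]
    (hm : y ^ p ^ m = 1) (hs : (fixPts Ω B).ncard ≤ p) : y ^ p • a = a := by
  let K : Subgroup (zpowers y) := stabilizer (zpowers y) a
  have h1 : K.index ≤ p := by
    have h2 : K.index = Nat.card (orbit (zpowers y) a) := (index_stabilizer _ _)
    rw [h2]
    refine le_trans ?_ hs
    have h3 : orbit (zpowers y) a ⊆ fixPts Ω B := by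
      rintro _ ⟨g, rfl⟩
      exact smul_mem_line (zpow_cj hyB g.2) (by rw [hB]; exact mem_fixPts.2 inf_le_left)
    exact Set.ncard_le_ncard h3 (Set.toFinite _)
  have h2 : K.index ∣ p ^ m := by
    have h3 : K.index ∣ Nat.card (zpowers y) := K.index_dvd_card
    rw [Nat.card_zpowers] at h3
    exact h3.trans (orderOf_dvd_of_pow_eq_one hm)
  obtain ⟨j, -, hj⟩ := (Nat.dvd_prime_pow hp.out).1 h2
  have h3 : j = 1 := by
    have h4 : j ≠ 0 := by
      rintro rfl
      rw [pow_zero, index_eq_one] at hj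
      have : (⟨y, mem_zpowers y⟩ : zpowers y) ∈ K := by rw [hj]; trivial
      exact hy this
    have h5 : p ^ j ≤ p ^ 1 := by rw [← hj, pow_one]; exact h1
    have h6 := (Nat.pow_le_pow_iff_right hp.out.one_lt).1 h5
    omega
  rw [h3, pow_one] at hj
  have h4 := K.pow_index_mem (⟨y, mem_zpowers y⟩ : zpowers y)
  rw [hj] at h4
  exact h4

/-- the points of `fix(X)` when at most three lines through `a` are in `fix(X)` -/
theorem fix_three (h : EPA G Ω) {a : Ω} {w y : G} (hw : w • a = a) (hy : y • a ≠ a) {B : Subgroup G}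
    (hB : B = stabilizer G a ⊓ stabilizer G (y • a)) (hwB : cj w B ≠ B) {X : Subgroup G} (hXB : X ≤ B)
    (hyX : cj y X = X) {M₃ : Subgroup G}
    (hr : ∀ M ∈ linesD X a, M = B ∨ M = cj w B ∨ M = M₃) :
    (linesD X a).ncard ≤ 3 ∧ (fixPts Ω X).ncard ≤ 1 + 2 * ((fixPts Ω B).ncard - 1) + 2 := by
  classical
  have hr3 : (linesD X a).ncard ≤ 3 := by
    have h1 : linesD X a ⊆ (({B, cj w B, M₃} : Finset (Subgroup G)) : Set (Subgroup G)) := by
      intro M hM
      rcases hr M hM with h2 | h2 | h2 <;> simp [h2]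
    refine (Set.ncard_le_ncard h1 (Set.toFinite _)).trans ?_
    rw [Set.ncard_coe_finset]
    exact Finset.card_le_three
  refine ⟨hr3, ?_⟩
  have ha : ∀ M : Subgroup G, M ≤ stabilizer G a → (fixPts Ω M \ {a}).ncard = (fixPts Ω M).ncard - 1 := by
    intro M hM
    rw [Set.ncard_sdiff_singleton_of_mem (mem_fixPts.2 hM)]
  have hBa : B ≤ stabilizer G a := by rw [hB]; exact inf_le_left
  have hwBa : cj w B ≤ stabilizer G a := by
    have h1 := cj_mono (x := w) hBa
    rwa [← stab_smul, hw] at h1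
  -- the third line
  let S₃ : Set Ω := {c | c ∈ fixPts Ω M₃ ∧ c ≠ a ∧ M₃ ∈ linesD X a ∧ M₃ ≠ B}
  have hS₃ : S₃.ncard ≤ 2 := by
    by_cases h3 : M₃ ∈ linesD X a ∧ M₃ ≠ B
    · have h4 : (fixPts Ω M₃).ncard ≤ 3 := by
        have h5 := h.line_bound h3.1.1 h3.1.2 (c := y • a) (hXB.trans (by rw [hB]; exact inf_le_right)) (by
          intro h6
          apply h3.2
          obtain ⟨⟨b, hb, hM⟩, -⟩ := h3.1
          rw [hM] at h6 ⊢
          rw [hB]
          exact (h.stab_eq hb hy h6).symm)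
        have h6 := ncard_linesD X a y
        rw [hyX] at h6
        rw [h6] at h5
        exact h5.trans hr3
      have h5 : S₃ ⊆ fixPts Ω M₃ \ {a} := fun c hc => ⟨hc.1, hc.2.1⟩
      have h6 : M₃ ≤ stabilizer G a := by
        obtain ⟨⟨b, hb, hM⟩, -⟩ := h3.1
        rw [hM]; exact inf_le_left
      have h7 := Set.ncard_le_ncard h5 (Set.toFinite _)
      rw [ha _ h6] at h7
      omega
    · have : S₃ = ∅ := by
        ext c
        constructor
        · intro hc
          exact (h3 hc.2.2).elim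
        · intro hc
          exact hc.elim
      rw [this, Set.ncard_empty]
      omega
  have hsub : fixPts Ω X ⊆ insert a ((fixPts Ω B \ {a}) ∪ (fixPts Ω (cj w B) \ {a}) ∪ S₃) := by
    intro c hc
    by_cases hca : c = a
    · exact Or.inl hca
    right
    have h1 : stabilizer G a ⊓ stabilizer G c ∈ linesD X a := ⟨⟨c, hca, rfl⟩, le_inf (hXB.trans hBa) hc⟩
    by_cases h4 : stabilizer G a ⊓ stabilizer G c = B
    · exact Or.inl (Or.inl ⟨mem_fixPts.2 (by rw [← h4]; exact inf_le_right), hca⟩)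
    rcases hr _ h1 with h2 | h2 | h2
    · exact (h4 h2).elim
    · exact Or.inl (Or.inr ⟨mem_fixPts.2 (by rw [← h2]; exact inf_le_right), hca⟩)
    · right
      refine ⟨mem_fixPts.2 (by rw [← h2]; exact inf_le_right), hca, ?_, ?_⟩
      · rw [← h2]; exact h1
      · rw [← h2]; exact h4
  have h1 := Set.ncard_le_ncard hsub (Set.toFinite _)
  have h2 := Set.ncard_insert_le a ((fixPts Ω B \ {a}) ∪ (fixPts Ω (cj w B) \ {a}) ∪ S₃)
  have h3 := Set.ncard_union_le ((fixPts Ω B \ {a}) ∪ (fixPts Ω (cj w B) \ {a})) S₃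
  have h4 := Set.ncard_union_le (fixPts Ω B \ {a}) (fixPts Ω (cj w B) \ {a})
  rw [ha _ hBa, ha _ hwBa, ncard_fix_cj] at h4
  omega

theorem six_false {A : Type*} [Group A] [Finite A] (hA : Nat.card A ≤ 7) {a b : A} (ha : a ^ 3 = 1) (ha1 : a ≠ 1)
    (hb : b ^ 3 = 1) (hab : b ∉ zpowers a) : False := by
  have h3 : orderOf a = 3 := orderOf_eq_prime ha ha1
  have h1 : Nat.card (zpowers a) = 3 := by rw [Nat.card_zpowers, h3]
  have h2 := (zpowers a).card_mul_index
  rw [h1] at h2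
  have h4 : (zpowers a).index = 1 ∨ (zpowers a).index = 2 := by
    have h5 : (zpowers a).index ≠ 0 := index_ne_zero_of_finite
    omega
  rcases h4 with h4 | h4
  · rw [index_eq_one] at h4
    exact hab (by rw [h4]; trivial)
  · have h5 := sq_mem_of_index_two h4 (b ^ 2)
    apply hab
    have h6 : (b ^ 2) ^ 2 = b := by
      rw [← pow_mul]
      calc b ^ (2 * 2) = b ^ 3 * b := by rw [← pow_succ]
        _ = b := by rw [hb, one_mul]
    rwa [h6] at h5

theorem four_comm {A : Type*} [Group A] [Finite A] (hA : Nat.card A ≤ 5) {a b : A} (ha : a ^ 2 = 1) (ha1 : a ≠ 1)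
    (hab : b ∉ zpowers a) : a * b = b * a := by
  have h3 : orderOf a = 2 := orderOf_eq_prime ha ha1
  have h1 : Nat.card (zpowers a) = 2 := by rw [Nat.card_zpowers, h3]
  have h2 := (zpowers a).card_mul_index
  rw [h1] at h2
  have h4 : (zpowers a).index = 1 ∨ (zpowers a).index = 2 := by
    have h5 : (zpowers a).index ≠ 0 := index_ne_zero_of_finite
    omega
  rcases h4 with h4 | h4
  · rw [index_eq_one] at h4
    exact (hab (by rw [h4]; trivial)).elim
  · rw [h4] at h2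
    have : Fact (Nat.Prime 2) := ⟨Nat.prime_two⟩
    exact (IsPGroup.isMulCommutative_of_card_eq_prime_sq (p := 2) (G := A) (by rw [← h2]; norm_num)).is_comm.comm a b

theorem quot_main {C : Subgroup G} {a : Ω} {X : Subgroup G} (hXa : X ≤ stabilizer G a) (hC : ∀ c ∈ C, cj c X = X)
    {y y' : G} (hy : y ∈ C) (hy' : y' ∈ C) (hya : y • a ≠ a) (hyn : ∀ c ∈ C, c • a = a → c • y • a = y • a)
    (hyn' : ∀ c ∈ C, c • a = a → c • y' • a = y' • a) {p : ℕ} (hyp : y ^ p • a = a) (hyp' : y' ^ p • a = a)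
    (hne : ∀ i : ℤ, y' • a ≠ y ^ i • a) :
    (p = 3 → (fixPts Ω X).ncard ≤ 7 → False) ∧
      (p = 2 → (fixPts Ω X).ncard ≤ 5 → (y * y' * y⁻¹ * y'⁻¹) • a = a) := by
  let C₀ : Subgroup G := C ⊓ stabilizer G a
  let NC : Subgroup G := C ⊓ normalizer (C₀ : Set G)
  let K : Subgroup NC := C₀.subgroupOf NC
  have hnorm : ∀ z ∈ C, (∀ c ∈ C, c • a = a → c • z • a = z • a) → z ∈ NC := by
    intro z hz hzn
    refine mem_inf.2 ⟨hz, ?_⟩
    have h1 : ∀ c ∈ C₀, z⁻¹ * c * z ∈ C₀ := by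
      intro c hc
      refine mem_inf.2 ⟨C.mul_mem (C.mul_mem (C.inv_mem hz) (mem_inf.1 hc).1) hz, ?_⟩
      show (z⁻¹ * c * z) • a = a
      rw [mul_smul, mul_smul, hzn c (mem_inf.1 hc).1 (mem_inf.1 hc).2, inv_smul_smul]
    have h2 : cj z⁻¹ C₀ = C₀ := Cfsg.Agent.H737.EPO.cj_eq_of_nm (by simpa only [_root_.inv_inv] using h1)
    rw [mem_normalizer_iff_map_conj_eq]
    show cj z C₀ = C₀
    conv_lhs => rw [← h2]
    rw [cj_cj_inv]
  have hyN := hnorm y hy hyn
  have hyN' := hnorm y' hy' hyn'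
  have hKn : K.Normal := by
    constructor
    intro k hk g
    exact ((mem_normalizer_iff.1 (mem_inf.1 g.2).2) k).1 hk
  have hmem : ∀ g : NC, g ∈ K ↔ (g : G) • a = a := by
    intro g
    constructor
    · intro h
      exact (mem_inf.1 (show (g : G) ∈ C₀ from h)).2
    · intro h
      show (g : G) ∈ C₀
      exact mem_inf.2 ⟨(mem_inf.1 g.2).1, h⟩
  have hcard : Nat.card (NC ⧸ K) ≤ (fixPts Ω X).ncard := by
    have h1 : K = stabilizer NC a := by
      ext g
      rw [hmem]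
      rfl
    have h2 : Nat.card (NC ⧸ K) = Nat.card (orbit NC a) := by
      rw [h1]
      exact Nat.card_congr (orbitEquivQuotientStabilizer NC a).symm
    rw [h2]
    have h3 : orbit NC a ⊆ fixPts Ω X := by
      rintro _ ⟨g, rfl⟩
      have h4 := (smul_mem_fixPts (M := X) (c := a) (g := (g : G))).2 (mem_fixPts.2 hXa)
      rwa [hC _ (mem_inf.1 g.2).1] at h4
    exact Set.ncard_le_ncard h3 (Set.toFinite _)
  let qa : NC ⧸ K := QuotientGroup.mk ⟨y, hyN⟩
  let qb : NC ⧸ K := QuotientGroup.mk ⟨y', hyN'⟩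
  have h1 : qa ^ p = 1 := by
    have : (QuotientGroup.mk (⟨y, hyN⟩ ^ p) : NC ⧸ K) = 1 := (QuotientGroup.eq_one_iff _).2 ((hmem _).2 hyp)
    exact this
  have h2 : qb ^ p = 1 := by
    have : (QuotientGroup.mk (⟨y', hyN'⟩ ^ p) : NC ⧸ K) = 1 := (QuotientGroup.eq_one_iff _).2 ((hmem _).2 hyp')
    exact this
  have h3 : qa ≠ 1 := fun e => hya ((hmem _).1 ((QuotientGroup.eq_one_iff _).1 e))
  have h4 : qb ∉ zpowers qa := by
    intro h5
    obtain ⟨i, hi⟩ := mem_zpowers_iff.1 h5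
    have h6 : (QuotientGroup.mk (⟨y, hyN⟩ ^ i) : NC ⧸ K) = QuotientGroup.mk ⟨y', hyN'⟩ := hi
    have h7 := (hmem _).1 (QuotientGroup.eq.1 h6)
    apply hne i
    have h8 : ((y ^ i)⁻¹ * y') • a = a := h7
    rw [mul_smul, inv_smul_eq_iff] at h8
    exact h8
  constructor
  · rintro rfl hle
    exact six_false (hcard.trans hle) h1 h3 h2 h4
  · rintro rfl hle
    have h5 := four_comm (hcard.trans hle) h1 h3 h4
    have h6 : qa * qb * qa⁻¹ * qb⁻¹ = 1 := by
      rw [h5]; group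
    have h7 : (QuotientGroup.mk (⟨y, hyN⟩ * ⟨y', hyN'⟩ * ⟨y, hyN⟩⁻¹ * ⟨y', hyN'⟩⁻¹) : NC ⧸ K) = 1 := h6
    exact (hmem _).1 ((QuotientGroup.eq_one_iff _).1 h7)

end Count

end Cfsg.Agent.H470.EPO
end

-- part: H470/EPO/RankOne
section
/-!
# Own characteristic, rank one, `k = 1` : the contradiction (helper470)
-/

set_option autoImplicit false
set_option linter.unusedSectionVars false

namespace Cfsg.Agent.H470.EPO

open Cfsg.Agent.H284 Cfsg.Agent.H284.EPA Cfsg.Agent.H737.EPO Cfsg.Agent.H209.EPX Cfsg.Agent.H375.EPR MulAction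

section

variable {G T : Type*} [Group G] [Finite G] [Group T] [Finite T] [IsSimpleGroup T] {H N : Subgroup G}
  (e : N ≃* (Fin 1 → T)) {p : ℕ} [Fact p.Prime] (D : R1 p T) (hY : ∃ a b : T, a * b ≠ b * a)

omit [Finite G] [Finite T] [IsSimpleGroup T] [Fact p.Prime] in
theorem w_TT {x : G} (hx : x ∈ TT e D) : sg e 0 D.w * x * (sg e 0 D.w)⁻¹ ∈ TT e D := by
  obtain ⟨t, ht, rfl⟩ := (mem_pk1 e).1 hx
  rw [← map_inv, ← map_mul, ← map_mul]
  exact (mem_pk1 e).2 ⟨_, D.w_T0 ht, rfl⟩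

omit [Finite G] [Finite T] [IsSimpleGroup T] [Fact p.Prime] in
theorem w_TT' {x : G} (hx : x ∈ TT e D) : (sg e 0 D.w)⁻¹ * x * sg e 0 D.w ∈ TT e D := by
  obtain ⟨t, ht, rfl⟩ := (mem_pk1 e).1 hx
  rw [← map_inv, ← map_mul, ← map_mul]
  exact (mem_pk1 e).2 ⟨_, D.w_T0' ht, rfl⟩

theorem M_cj_ne (hN : MinN N H) : cj (sg e 0 D.w) (PH H e D.psys fun _ => ∅) ≠ PH H e D.psys fun _ => ∅ := by
  intro h
  apply w_notMem e D (H := H)
  have hw := sg_mem e 0 D.w
  refine (mem_PH e _).2 ⟨hN.le hw, ?_⟩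
  rw [← PH_inf e D.psys hN.le, cj_inf, h, cj_eq_self hw]

include hY

/-- **`p = 2`, `|l_M| = 2`, `[y, y^w] ∈ H`** : a normal abelian subgroup -/
theorem p2_false (h : EP H) (hN : MinN N H) (hc : Subgroup.centralizer (N : Set G) = ⊥) (hD : D.Hyp) (hp : p = 2)
    (hab : ∀ A : Subgroup G, A.Normal → (∀ a ∈ A, ∀ b ∈ A, a * b = b * a) → A = ⊥)
    {y : G} {E : Subgroup G} (hyH : y ∉ H) (hyT : ∀ t ∈ TT e D, y * t = t * y)
    (hyM1 : H ⊓ cj y H = PH H e D.psys (fun _ => ∅))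
    (hyM : cj y (PH H e D.psys fun _ => ∅) = PH H e D.psys (fun _ => ∅))
    (hyU : cj y (VV e D.psys fun _ => ∅) = VV e D.psys (fun _ => ∅)) {m : ℕ} (hm : y ^ 2 ^ m = 1)
    (hEp : IsPGroup 2 E) (hbE : ∀ b ∈ PH H e D.psys (fun _ => ∅), b * y * b⁻¹ * y⁻¹ ∈ E)
    (hy2 : y ^ 2 ∈ H) (hz : y * (sg e 0 D.w * y * (sg e 0 D.w)⁻¹) * y⁻¹ * (sg e 0 D.w * y * (sg e 0 D.w)⁻¹)⁻¹ ∈ H)
    (hline : ∀ c : G, c ∉ H → PH H e D.psys (fun _ => ∅) ≤ cj c H → y⁻¹ * c ∈ H) : False := by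
  have hp3 : p ≤ 3 := by omega
  set M := PH H e D.psys fun _ => ∅ with hM
  set w := sg e 0 D.w with hwdef
  have hwN : w ∈ N := sg_mem e 0 D.w
  have hwH : w ∈ H := hN.le hwN
  have hMH : M ≤ H := inf_le_left
  let C : Subgroup G := Subgroup.centralizer (TT e D : Set G)
  have hC : ∀ c : G, c ∈ C ↔ ∀ t ∈ TT e D, c * t = t * c := fun c => by
    constructor
    · intro h t ht
      exact (Subgroup.mem_centralizer_iff.1 h t ht).symm
    · intro h
      exact Subgroup.mem_centralizer_iff.2 fun t ht => (h t ht).symm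
  have hyC : y ∈ C := (hC y).2 hyT
  -- `C_H(TT)` has no 2-elements
  have h2 : ∀ c ∈ C, c ∈ H → ∀ j : ℕ, c ^ 2 ^ j = 1 → c = 1 := by
    intro c hcC hcH j hj
    have h1 : c ∈ M := cent_TT_le e D hY hN hD hp3 hcH ((hC c).1 hcC)
    exact cent_PP e D hY hN hc hD hp3 hcH (cent_U e D hD hp ((hC c).1 hcC) (cj_eq_of_nm fun a ha =>
      PH_nm_VV e D.psys h1 ha) hj)
  have hwC : ∀ c ∈ C, w⁻¹ * c * w ∈ C := by
    intro c hcC
    rw [hC] at hcC ⊢
    intro t ht
    have h1 := hcC _ (w_TT e D ht)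
    calc w⁻¹ * c * w * t = w⁻¹ * (c * (w * t * w⁻¹)) * w := by group
      _ = w⁻¹ * ((w * t * w⁻¹) * c) * w := by rw [h1]
      _ = _ := by group
  have hwC' : ∀ c ∈ C, w * c * w⁻¹ ∈ C := by
    intro c hcC
    rw [hC] at hcC ⊢
    intro t ht
    have h1 := hcC _ (w_TT' e D ht)
    calc w * c * w⁻¹ * t = w * (c * (w⁻¹ * t * w)) * w⁻¹ := by group
      _ = w * ((w⁻¹ * t * w) * c) * w⁻¹ := by rw [h1]
      _ = _ := by group
  have hyy : y ^ 2 = 1 := h2 _ (C.pow_mem hyC 2) hy2 m (by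
    rw [← pow_mul, mul_comm, pow_mul, hm, one_pow])
  -- `y` centralises `C_H(TT)`
  have h3 : ∀ c ∈ C, c ∈ H → c * y = y * c := by
    intro c hcC hcH
    have h1 : c ∈ M := cent_TT_le e D hY hN hD hp3 hcH ((hC c).1 hcC)
    have h4 := hbE c h1
    obtain ⟨j, hj⟩ := hEp ⟨_, h4⟩
    have h5 : (c * y * c⁻¹ * y⁻¹) ^ 2 ^ j = 1 := by simpa only [_root_.SubmonoidClass.mk_pow, _root_.OneMemClass.coe_one] using congrArg Subtype.val hj
    have h6 : c * y * c⁻¹ * y⁻¹ ∈ C := C.mul_mem (C.mul_mem (C.mul_mem hcC hyC) (C.inv_mem hcC)) (C.inv_mem hyC)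
    have h7 : c * y * c⁻¹ * y⁻¹ ∈ H := by
      have h8 : y * c⁻¹ * y⁻¹ ∈ M := by
        rw [← hyM]; exact conj_mem_cj (M.inv_mem h1)
      have e1 : c * y * c⁻¹ * y⁻¹ = c * (y * c⁻¹ * y⁻¹) := by group
      rw [e1]
      exact H.mul_mem hcH (hMH h8)
    have h8 := h2 _ h6 h7 j h5
    rw [mul_inv_eq_one] at h8
    exact mul_inv_eq_iff_eq_mul.1 h8
  set y' := w * y * w⁻¹ with hy'
  have hy'C : y' ∈ C := hwC' y hyC
  have hyy' : y' ^ 2 = 1 := by
    have : y' ^ 2 = w * y ^ 2 * w⁻¹ := by rw [hy', conj_pow]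
    rw [this, hyy]; group
  -- `y y' = y' y`
  have hcomm : y * y' = y' * y := by
    have hzC : y * y' * y⁻¹ * y'⁻¹ ∈ C :=
      C.mul_mem (C.mul_mem (C.mul_mem hyC hy'C) (C.inv_mem hyC)) (C.inv_mem hy'C)
    have h4 := h3 _ hzC hz
    have e1 : y⁻¹ = y := by rw [inv_eq_iff_mul_eq_one, ← sq, hyy]
    have e2 : y'⁻¹ = y' := by rw [inv_eq_iff_mul_eq_one, ← sq, hyy']
    have h5 : (y * y' * y⁻¹ * y'⁻¹) ^ 2 ^ 1 = 1 := by
      rw [pow_one, sq]
      rw [e1, e2] at h4 ⊢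
      have h6 : y * y' * y * y' * (y * y' * y * y') = (y * y' * y * y' * y) * (y' * y * y') := by group
      rw [h6, h4]
      have h7 : y * (y * y' * y * y') * (y' * y * y') = (y * y) * y' * y * (y' * y') * y * y' := by group
      rw [h7, ← sq, ← sq, hyy, hyy']
      have h8 : (1 : G) * y' * y * 1 * y * y' = y' * (y * y) * y' := by group
      rw [h8, ← sq, hyy]
      rw [mul_one, ← sq, hyy']
    have h6 := h2 _ hzC hz 1 h5
    rw [mul_inv_eq_one, mul_inv_eq_iff_eq_mul] at h6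
    exact h6
  -- `y` centralises `B_N`
  have hyB : ∀ b ∈ PP e D.psys (fun _ => ∅), y * b = b * y := cent_U e D hD hp hyT hyU hm
  have huniq : ∀ c : G, c ∉ H → (∀ b ∈ PP e D.psys (fun _ => ∅), c * b = b * c) → c = y := by
    intro c hcH hcB
    have h4 : VV e D.psys (fun _ => ∅) ≤ H ⊓ cj c H := by
      refine le_inf ((VV_le e _ _).trans hN.le) fun v hv => ?_
      have h5 := hcB v (VV_le_PP' e _ _ _ hv)
      rw [mem_cj]
      have e1 : c⁻¹ * v * c = v := by rw [mul_assoc, ← h5]; group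
      rw [e1]
      exact hN.le (VV_le e _ _ hv)
    have h5 := two_over_U e D hY h hN ⟨c, hcH, rfl⟩ h4
    have h6 := hline c hcH (by rw [hM, ← h5]; exact inf_le_right)
    have h7 : y⁻¹ * c = 1 := by
      refine cent_PP e D hY hN hc hD hp3 h6 fun b hb => ?_
      have h8 := hyB b hb
      have h9 := hcB b hb
      have h10 : y⁻¹ * b = b * y⁻¹ := by
        rw [inv_mul_eq_iff_eq_mul, ← mul_assoc, h8, mul_inv_cancel_right]
      rw [mul_assoc, h9, ← mul_assoc, h10, mul_assoc]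
    exact (inv_mul_eq_one.1 h7).symm
  have hM2 : M ∈ EP.twoSet H := ⟨y, hyH, hyM1.symm⟩
  have hMX := mx_of_two h hN hM2
  have hconj : ∀ g ∈ H, (g * y * g⁻¹) * y = y * (g * y * g⁻¹) := by
    intro g hg
    obtain ⟨n, hn, c, hcM, rfl⟩ := hMX.fac hN hg
    have h4 : c * y * c⁻¹ = y := by
      apply huniq
      · intro h5
        apply hyH
        have h6 := H.mul_mem (H.mul_mem (H.inv_mem (hMH hcM)) h5) (hMH hcM)
        have e1 : c⁻¹ * (c * y * c⁻¹) * c = y := by group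
        rwa [e1] at h6
      · intro b hb
        have h5 : c⁻¹ * b * c ∈ PP e D.psys fun _ => ∅ := by
          have h6 := ((mem_PH e _).1 hcM).2
          rw [← h6, mem_cj] at hb
          exact hb
        have h6 := hyB _ h5
        calc c * y * c⁻¹ * b = c * (y * (c⁻¹ * b * c)) * c⁻¹ := by group
          _ = c * ((c⁻¹ * b * c) * y) * c⁻¹ := by rw [h6]
          _ = _ := by group
    have h5 : n * c * y * (n * c)⁻¹ = n * y * n⁻¹ := by
      have : n * c * y * (n * c)⁻¹ = n * (c * y * c⁻¹) * n⁻¹ := by group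
      rw [this, h4]
    rw [h5]
    rw [← sg_cp e hn]
    set t := cp e n 0 with ht
    by_cases htB : t ∈ D.B
    · have h6 : sg e 0 t ∈ PP e D.psys fun _ => ∅ := by rw [PP_eq]; exact (sg_mem_pk e).2 htB
      have h7 : sg e 0 t * y * (sg e 0 t)⁻¹ = y := by
        rw [← hyB _ h6]; group
      rw [h7]
    · obtain ⟨u, hu, b, hb, hut⟩ := D.tr t htB
      have h6 : sg e 0 b * y * (sg e 0 b)⁻¹ = y := by
        have h7 : sg e 0 b ∈ PP e D.psys fun _ => ∅ := by rw [PP_eq]; exact (sg_mem_pk e).2 hb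
        rw [← hyB _ h7]; group
      have h8 : sg e 0 u ∈ PP e D.psys fun _ => ∅ := by rw [PP_eq]; exact (sg_mem_pk e).2 (D.U_le hu)
      have h9 := hyB _ h8
      have h10 : y * (sg e 0 u)⁻¹ = (sg e 0 u)⁻¹ * y := by
        rw [eq_inv_mul_iff_mul_eq, ← mul_assoc, ← h9, mul_inv_cancel_right]
      have h7 : sg e 0 t * y * (sg e 0 t)⁻¹ = sg e 0 u * y' * (sg e 0 u)⁻¹ := by
        rw [hut, map_mul, map_mul, hy']
        have : sg e 0 u * sg e 0 D.w * sg e 0 b * y * (sg e 0 u * sg e 0 D.w * sg e 0 b)⁻¹ =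
            sg e 0 u * sg e 0 D.w * (sg e 0 b * y * (sg e 0 b)⁻¹) * (sg e 0 u * sg e 0 D.w)⁻¹ := by group
        rw [this, h6, hwdef]
        group
      rw [h7]
      calc sg e 0 u * y' * (sg e 0 u)⁻¹ * y = sg e 0 u * y' * ((sg e 0 u)⁻¹ * y) := by group
        _ = sg e 0 u * y' * (y * (sg e 0 u)⁻¹) := by rw [h10]
        _ = sg e 0 u * (y' * y) * (sg e 0 u)⁻¹ := by group
        _ = sg e 0 u * (y * y') * (sg e 0 u)⁻¹ := by rw [hcomm]
        _ = (sg e 0 u * y) * y' * (sg e 0 u)⁻¹ := by group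
        _ = (y * sg e 0 u) * y' * (sg e 0 u)⁻¹ := by rw [h9]
        _ = _ := by group
  -- the normal abelian subgroup
  let S : Set G := {x | ∃ g ∈ H, x = g * y * g⁻¹}
  have hS : ∀ x ∈ S, ∀ x' ∈ S, x * x' = x' * x := by
    rintro _ ⟨g, hg, rfl⟩ _ ⟨g', hg', rfl⟩
    have h4 := hconj (g⁻¹ * g') (H.mul_mem (H.inv_mem hg) hg')
    calc g * y * g⁻¹ * (g' * y * g'⁻¹) = g * (y * (g⁻¹ * g' * y * (g⁻¹ * g')⁻¹)) * g⁻¹ := by group
      _ = g * (g⁻¹ * g' * y * (g⁻¹ * g')⁻¹ * y) * g⁻¹ := by rw [h4]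
      _ = _ := by group
  let A : Subgroup G := Subgroup.closure S
  have hA1 : A ≤ Subgroup.centralizer S := by
    rw [Subgroup.closure_le]
    intro x hx
    rw [SetLike.mem_coe, Subgroup.mem_centralizer_iff]
    intro x' hx'
    exact hS x' hx' x hx
  have hA2 : A ≤ Subgroup.centralizer (A : Set G) := by
    rw [Subgroup.closure_le]
    intro x hx
    rw [SetLike.mem_coe, Subgroup.mem_centralizer_iff]
    intro a ha
    exact (Subgroup.mem_centralizer_iff.1 (hA1 ha) x hx).symm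
  have hyA : y ∈ A := Subgroup.subset_closure ⟨1, one_mem _, by group⟩
  have hHA : H ≤ Subgroup.normalizer (A : Set G) := by
    intro g hg
    rw [Subgroup.mem_normalizer_iff_map_conj_eq]
    apply cj_eq_of_nm
    intro a ha
    have h4 : A ≤ A.comap (MulAut.conj g).toMonoidHom := by
      rw [Subgroup.closure_le]
      rintro _ ⟨g', hg', rfl⟩
      show g * (g' * y * g'⁻¹) * g⁻¹ ∈ A
      exact Subgroup.subset_closure ⟨g * g', H.mul_mem hg hg', by group⟩
    exact h4 ha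
  have hn : A.Normal := by
    rw [← Subgroup.normalizer_eq_top_iff]
    apply h.max.2
    refine lt_of_le_of_ne hHA fun h4 => hyH ?_
    rw [h4]
    exact Subgroup.le_normalizer hyA
  have h5 := hab A hn fun a ha b hb => (Subgroup.mem_centralizer_iff.1 (hA2 ha) b hb).symm
  apply hyH
  have h6 : y = 1 := by
    rw [h5] at hyA
    exact hyA
  rw [h6]
  exact one_mem _

/-- **Rank one, `k = 1`.** -/
theorem r1_false (h : EP H) (hN : MinN N H) (hc : Subgroup.centralizer (N : Set G) = ⊥) (hD : D.Hyp)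
    (hDQ : DQ (p := p) H e D.psys fun _ => ∅)
    (hab : ∀ A : Subgroup G, A.Normal → (∀ a ∈ A, ∀ b ∈ A, a * b = b * a) → A = ⊥) : False := by
  classical
  obtain ⟨y, E, hyH, hyT, hyM1, hyM, hyU, ⟨m, hm⟩, hEp, hbE⟩ := exists_y e D hY h hN hD hDQ
  obtain ⟨Zs, hZc, hZ1, hZ⟩ := hD.ov
  have hf := h.faithful
  have hE := h.toEPA
  set M := PH H e D.psys fun _ => ∅ with hM
  set w := sg e 0 D.w with hwdef
  have hwN : w ∈ N := sg_mem e 0 D.w
  have hwH : w ∈ H := hN.le hwN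
  have hMH : M ≤ H := inf_le_left
  set a : G ⧸ H := ((1 : G) : G ⧸ H) with ha
  have hsa : stabilizer G a = H := MulAction.stabilizer_quotient H
  have hfix : ∀ g : G, g • a = a ↔ g ∈ H := fun g => by
    rw [← mem_stabilizer_iff, hsa]
  have hB : M = stabilizer G a ⊓ stabilizer G (y • a) := by
    rw [stab_smul, hsa]
    exact hyM1.symm
  have hya : y • a ≠ a := fun h1 => hyH ((hfix y).1 h1)
  have hwa : w • a = a := (hfix w).2 hwH
  have hVM : VV e D.psys (fun _ => ∅) ≤ M := (VV_le_PP e _ _).trans (PP_le_PH e _ hN.le _)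
  have hM1 : M ≠ ⊥ := by
    intro h1
    have h2 : VV e D.psys (fun _ => ∅) = ⊥ := le_bot_iff.1 (hVM.trans h1.le)
    exact VV_ne_bot e (S := D.psys) (J := fun _ => ∅) (i := 0) Set.empty_ne_univ h2
  have hwB : cj w M ≠ M := M_cj_ne e D hN
  have hXB : TT e D ≤ M := (TT_le_PP e D).trans (PP_le_PH e _ hN.le _)
  have hwX : cj w (TT e D) = TT e D := cj_eq_of_nm fun t ht => w_TT e D ht
  have hXw : TT e D ≤ cj w M := by
    rw [← hwX]
    exact cj_mono hXB
  have hyX : cj y (TT e D) = TT e D := cj_eq_of_nm fun t ht => by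
    rw [hyT t ht, mul_inv_cancel_right]; exact ht
  have hXa : TT e D ≤ stabilizer G a := by rw [hsa]; exact hXB.trans hMH
  have hlD : linesD (TT e D) a = EP.twoSetD H (TT e D) := EP.twoSetD_eq H _
  -- the line size
  set s := (fixPts (G ⧸ H) M).ncard with hs
  have hps : p ∣ s := p_dvd hE hya hB hM1 hyM hm
  have haM : a ∈ fixPts (G ⧸ H) M := mem_fixPts.2 (by rw [hsa]; exact hMH)
  have hs0 : 0 < s := (Set.ncard_pos (Set.toFinite _)).2 ⟨a, haM⟩
  have hple : p ≤ s := Nat.le_of_dvd hs0 hps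
  have hsr : s ≤ (linesD (TT e D) a).ncard := by
    have h1 := line_le hE hya (w := w) (y := y) (by rw [hsa]; exact hwH) (by rw [← hB]; exact hwB) rfl
      (X := TT e D) (by rw [← hB]; exact hXB) (by rw [← hB]; exact hXw) hyX
    rwa [← hB] at h1
  have hcl : ∀ M' ∈ linesD (TT e D) a, M' = M ∨ M' = cj w M ∨
      ∃ Z ∈ Zs, M' = H ⊓ Subgroup.normalizer (Z.map (sg e 0) : Set G) := by
    intro M' hM'
    rw [hlD] at hM'
    exact two_over_T e D hY h hN hZ1 hZ hM'.1 hM'.2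
  have hrZ : (linesD (TT e D) a).ncard ≤ Zs.card + 2 := by
    have h1 : linesD (TT e D) a ⊆ ((insert M (insert (cj w M) (Zs.image fun Z =>
        H ⊓ Subgroup.normalizer (Z.map (sg e 0) : Set G))) : Finset (Subgroup G)) : Set (Subgroup G)) := by
      intro M' hM'
      rw [Finset.mem_coe, Finset.mem_insert, Finset.mem_insert, Finset.mem_image]
      rcases hcl M' hM' with h2 | h2 | ⟨Z, hZZ, h2⟩
      · exact Or.inl h2
      · exact Or.inr (Or.inl h2)
      · exact Or.inr (Or.inr ⟨Z, hZZ, h2.symm⟩)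
    refine (Set.ncard_le_ncard h1 (Set.toFinite _)).trans ?_
    rw [Set.ncard_coe_finset]
    refine (Finset.card_insert_le _ _).trans ?_
    have h2 := Finset.card_insert_le (cj w M) (Zs.image fun Z => H ⊓ Subgroup.normalizer (Z.map (sg e 0) : Set G))
    have h3 := Finset.card_image_le (s := Zs) (f := fun Z => H ⊓ Subgroup.normalizer (Z.map (sg e 0) : Set G))
    omega
  have hZ1' : Zs.card ≤ 1 := by
    rcases hZc with h1 | h1
    · exact h1
    · omega
  obtain ⟨M₃, hM₃⟩ : ∃ M₃ : Subgroup G, ∀ M' ∈ linesD (TT e D) a, M' = M ∨ M' = cj w M ∨ M' = M₃ := by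
    rcases Finset.eq_empty_or_nonempty Zs with h1 | ⟨Z₀, hZ₀⟩
    · refine ⟨M, fun M' hM' => ?_⟩
      rcases hcl M' hM' with h2 | h2 | ⟨Z, hZZ, h2⟩
      · exact Or.inl h2
      · exact Or.inr (Or.inl h2)
      · rw [h1] at hZZ
        exact (Finset.notMem_empty Z hZZ).elim
    · refine ⟨H ⊓ Subgroup.normalizer (Z₀.map (sg e 0) : Set G), fun M' hM' => ?_⟩
      rcases hcl M' hM' with h2 | h2 | ⟨Z, hZZ, h2⟩
      · exact Or.inl h2
      · exact Or.inr (Or.inl h2)
      · have h3 := Finset.card_le_one.1 hZ1' Z hZZ Z₀ hZ₀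
        rw [h3] at h2
        exact Or.inr (Or.inr h2)
  obtain ⟨hr3, hF⟩ := fix_three hE hwa hya hB hwB hXB hyX hM₃
  have hp3 : p ≤ 3 := hple.trans (hsr.trans hr3)
  have hp2 := (Fact.out : p.Prime).two_le
  have hsp : s = p := by
    obtain ⟨c, hc⟩ := hps
    have h1 : c = 1 := by
      have h2 : c ≠ 0 := by rintro rfl; omega
      have h3 : s ≤ 3 := hsr.trans hr3
      by_contra h4
      have h5 : 2 ≤ c := by omega
      nlinarith only [hsr, hrZ, hZ1', hp2, hc, h5]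
    rw [hc, h1, mul_one]
  rw [← hs, hsp] at hF
  have hyp : y ^ p • a = a := pow_p hE hya hB hyM hm (by rw [← hs, hsp])
  set y' := w * y * w⁻¹ with hy'
  have hy'a : y' • a = w • y • a := by
    rw [hy', mul_smul, mul_smul, (hfix w⁻¹).2 (inv_mem hwH)]
  let C : Subgroup G := Subgroup.centralizer (TT e D : Set G)
  have hC : ∀ c : G, c ∈ C ↔ ∀ t ∈ TT e D, c * t = t * c := fun c => by
    constructor
    · intro h t ht
      exact (Subgroup.mem_centralizer_iff.1 h t ht).symm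
    · intro h
      exact Subgroup.mem_centralizer_iff.2 fun t ht => (h t ht).symm
  have hyC : y ∈ C := (hC y).2 hyT
  have hwC : ∀ c ∈ C, w⁻¹ * c * w ∈ C := by
    intro c hcC
    rw [hC] at hcC ⊢
    intro t ht
    have h1 := hcC _ (w_TT e D ht)
    calc w⁻¹ * c * w * t = w⁻¹ * (c * (w * t * w⁻¹)) * w := by group
      _ = w⁻¹ * ((w * t * w⁻¹) * c) * w := by rw [h1]
      _ = _ := by group
  have hwC' : ∀ c ∈ C, w * c * w⁻¹ ∈ C := by
    intro c hcC
    rw [hC] at hcC ⊢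
    intro t ht
    have h1 := hcC _ (w_TT' e D ht)
    calc w * c * w⁻¹ * t = w * (c * (w⁻¹ * t * w)) * w⁻¹ := by group
      _ = w * ((w⁻¹ * t * w) * c) * w⁻¹ := by rw [h1]
      _ = _ := by group
  have hy'C : y' ∈ C := hwC' y hyC
  have hyn : ∀ c ∈ C, c • a = a → c • y • a = y • a := by
    intro c hcC hca
    have h1 : c ∈ M := cent_TT_le e D hY hN hD hp3 ((hfix c).1 hca) ((hC c).1 hcC)
    rw [hB] at h1
    exact (Subgroup.mem_inf.1 h1).2
  have hyn' : ∀ c ∈ C, c • a = a → c • y' • a = y' • a := by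
    intro c hcC hca
    have h1 := hyn _ (hwC c hcC) (by
      rw [mul_smul, mul_smul, hwa, hca, (hfix w⁻¹).2 (inv_mem hwH)])
    rw [hy'a]
    rw [mul_smul, mul_smul, inv_smul_eq_iff] at h1
    exact h1
  have hyp' : y' ^ p • a = a := by
    rw [hy', conj_pow, mul_smul, mul_smul, (hfix w⁻¹).2 (inv_mem hwH), hyp, hwa]
  have hne : ∀ i : ℤ, y' • a ≠ y ^ i • a := by
    intro i h1
    have h2 : y ^ i • a ∈ fixPts (G ⧸ H) M := smul_mem_line (zpow_cj hyM (Subgroup.zpow_mem_zpowers y i)) haM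
    rw [← h1] at h2
    have h3 : y' • a ≠ a := by
      rw [hy'a]
      intro h4
      apply hya
      exact smul_left_cancel w (h4.trans hwa.symm)
    have h4 := hE.stab_eq hya h3 (by rw [← hB]; exact h2)
    apply hwB
    have h5 : cj w M = stabilizer G a ⊓ stabilizer G (y' • a) := by
      conv_lhs => rw [hB]
      rw [cj_inf, ← stab_smul, ← stab_smul, hwa, hy'a]
    rw [h5, h4, ← hB]
  obtain ⟨q3, q2⟩ := quot_main (C := C) (a := a) (X := TT e D) hXa (fun c hc => cj_eq_of_nm fun t ht => by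
    rw [(hC c).1 hc t ht, mul_inv_cancel_right]; exact ht) hyC hy'C hya hyn hyn' hyp hyp' hne
  rcases (by omega : p = 2 ∨ p = 3) with hp | hp
  · have hz := (hfix _).1 (q2 hp (by omega))
    refine p2_false e D hY h hN hc hD hp hab hyH hyT hyM1 hyM hyU (m := m) (by rw [← hp]; exact hm) (E := E)
      (by rw [← hp]; exact hEp) hbE (by rw [← hp]; exact (hfix _).1 hyp) hz fun c hcH hcM => ?_
    by_contra hcon
    have h1 : c • a ≠ a := fun h2 => hcH ((hfix c).1 h2)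
    have h2 : c • a ≠ y • a := by
      intro h3
      apply hcon
      rw [← hfix, mul_smul, h3, inv_smul_smul]
    have h3 : ({a, y • a, c • a} : Set (G ⧸ H)) ⊆ fixPts (G ⧸ H) M := by
      intro x hx
      rcases hx with rfl | rfl | rfl
      · exact haM
      · exact mem_fixPts.2 (by rw [hB]; exact inf_le_right)
      · exact mem_fixPts.2 (by rw [stab_smul, hsa]; exact hcM)
    have h4 := Set.ncard_le_ncard h3 (Set.toFinite _)
    rw [← hs, hsp, hp, Set.ncard_eq_three.2 ⟨a, y • a, c • a, hya.symm, h1.symm, h2.symm, rfl⟩] at h4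
    omega
  · exact q3 hp (by omega)

end

end Cfsg.Agent.H470.EPO
end

-- part: H470/EPO/OwnR1
section
/-!
# Own characteristic, `T` of rank one, `k = 1` : `EPS`-form and `T`-form (helper470)

* `own_r1_S` : `EPS H N e`, `N ≅ T`, `R1 p T` with the hypotheses `Hyp`, `G` with a normal simple subgroup with `HasFilt p`;
* `own_r1_G` : the same for `G` simple with `HasFilt p G`;
* `own_r1_T` : `EPT A Γ`, `SocN A N`, `N ≅ L`.
-/

set_option autoImplicit false
set_option linter.unusedSectionVars false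

namespace Cfsg.Agent.H470.EPO

open Cfsg.Agent.H284 Cfsg.Agent.H284.EPT Cfsg.Agent.H737.EPO Cfsg.Agent.H209.EPX Cfsg.Agent.KFacts.RgdFilt

theorem own_r1_S {G : Type*} [Group G] [Finite G] {H N : Subgroup G} {T : Type} [Group T] [Finite T]
    {e : N ≃* (Fin 1 → T)} (h : EPS H N e) {p : ℕ} [Fact p.Prime]
    {Y : Type*} [Group Y] [Finite Y] [IsSimpleGroup Y] (hY : HasFilt p Y) (hYn : ∃ a b : Y, a * b ≠ b * a)
    {j : Y →* G} (hj : Function.Injective j) (hn : j.range.Normal) (hNj : N ≤ j.range)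
    (D : R1 p T) (hD : D.Hyp) : False := by
  have := h.simple
  refine r1_false e D h.nab h.ep h.toMinN h.cent hD
    (dq_of h hY hYn hj hn hNj D.psys e (fun _ => ∅) (VV_ne_bot e (i := 0) Set.empty_ne_univ)) fun A hA hab => ?_
  -- `A ⊓ Y = 1`
  have h1 : (A.comap j).Normal := hA.comap j
  have h2 : A.comap j = ⊥ := by
    rcases h1.eq_bot_or_eq_top with h2 | h2
    · exact h2
    · exfalso
      obtain ⟨a, b, hab'⟩ := hYn
      apply hab'
      apply hj
      rw [map_mul, map_mul]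
      have ha : a ∈ A.comap j := by rw [h2]; trivial
      have hb : b ∈ A.comap j := by rw [h2]; trivial
      exact hab _ ha _ hb
  rw [Subgroup.eq_bot_iff_forall]
  intro a ha
  have h3 : a ∈ Subgroup.centralizer (N : Set G) := by
    rw [Subgroup.mem_centralizer_iff]
    intro n hn'
    obtain ⟨y, hy⟩ := hNj hn'
    have h4 : n * a * n⁻¹ * a⁻¹ ∈ j.range := by
      have e1 : n * a * n⁻¹ * a⁻¹ = n * (a * n⁻¹ * a⁻¹) := by group
      rw [e1]
      exact mul_mem (hNj hn') (hn.conj_mem _ (inv_mem (hNj hn')) a)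
    obtain ⟨z, hz⟩ := h4
    have h5 : z ∈ A.comap j := by
      show j z ∈ A
      rw [hz]
      exact A.mul_mem (hA.conj_mem a ha n) (A.inv_mem ha)
    rw [h2, Subgroup.mem_bot] at h5
    rw [h5, map_one] at hz
    have h6 := hz.symm
    rw [mul_inv_eq_one, mul_inv_eq_iff_eq_mul] at h6
    exact h6
  rw [h.cent] at h3
  exact h3

/-- the case `G` simple (S5745) -/
theorem own_r1_G {G : Type*} [Group G] [Finite G] [IsSimpleGroup G] {H N : Subgroup G} {T : Type} [Group T]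
    {e : N ≃* (Fin 1 → T)} (h : EPS H N e) {p : ℕ} [Fact p.Prime] (hG : HasFilt p G) (D : R1 p T) (hD : D.Hyp) :
    False := by
  have hfin : Finite T := by
    have h1 : Finite (Fin 1 → T) := Finite.of_equiv N e.toEquiv
    exact Finite.of_surjective (fun f : Fin 1 → T => f 0) fun t => ⟨fun _ => t, rfl⟩
  have hnab : ∃ a b : G, a * b ≠ b * a := by
    obtain ⟨a, b, hab⟩ := h.nab
    refine ⟨(e.symm (fun _ => a) : N), (e.symm (fun _ => b) : N), fun h3 => hab ?_⟩
    have h4 : e.symm (fun _ => a) * e.symm (fun _ => b) = e.symm (fun _ => b) * e.symm (fun _ => a) := Subtype.ext h3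
    rw [← map_mul, ← map_mul] at h4
    exact congrFun (e.symm.injective h4) 0
  exact own_r1_S h hG hnab (j := MonoidHom.id G) Function.injective_id
    (by rw [MonoidHom.range_eq_top.2 (fun x => ⟨x, rfl⟩)]; infer_instance)
    (by rw [MonoidHom.range_eq_top.2 (fun x => ⟨x, rfl⟩)]; exact le_top) D hD

end Cfsg.Agent.H470.EPO
end

private theorem dce_eaada8a3d619 : _root_.True := by
  try have : _root_.True := by simp only [_root_.Cfsg.Agent.H470.EPO.R1.psys.congr_simp]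
  exact _root_.True.intro
end

-- part: H470/EPO/R1Tr
section
set_option linter.all false
open scoped Cfsg.Agent.FastGrp

/-!
# Transport of the rank one data along an isomorphism (helper470)
-/

set_option autoImplicit false
set_option linter.unusedSectionVars false

namespace Cfsg.Agent.H470.EPO

open Cfsg.Agent.H284 Cfsg.Agent.H737.EPO

namespace R1

variable {T S : Type*} [Group T] [Group S] {p : ℕ}

theorem mem_comap_cj (e : T ≃* S) (K : Subgroup S) (x t : T) :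
    t ∈ cj x (K.comap e.toMonoidHom) ↔ e t ∈ cj (e x) K := by
  rw [mem_cj, mem_cj, Subgroup.mem_comap]
  show e (x⁻¹ * t * x) ∈ K ↔ _
  rw [map_mul, map_mul, map_inv]

theorem comap_cj (e : T ≃* S) (K : Subgroup S) (x : T) :
    cj x (K.comap e.toMonoidHom) = (cj (e x) K).comap e.toMonoidHom := by
  ext t
  rw [mem_comap_cj]
  rfl

theorem comap_inj (e : T ≃* S) {K L : Subgroup S} (h : K.comap e.toMonoidHom = L.comap e.toMonoidHom) : K = L := by
  ext s
  have h1 : e.symm s ∈ K.comap e.toMonoidHom ↔ e.symm s ∈ L.comap e.toMonoidHom := by rw [h]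
  have h2 : e.toMonoidHom (e.symm s) = s := e.apply_symm_apply s
  rw [Subgroup.mem_comap, Subgroup.mem_comap, h2] at h1
  exact h1

theorem comap_map (e : T ≃* S) (K : Subgroup T) : (K.map e.toMonoidHom).comap e.toMonoidHom = K :=
  Subgroup.comap_map_eq_self_of_injective e.injective K

theorem map_comap (e : T ≃* S) (K : Subgroup S) : (K.comap e.toMonoidHom).map e.toMonoidHom = K :=
  Subgroup.map_comap_eq_self_of_surjective e.surjective K

/-- **transport of the data** -/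
def ofEquiv (e : T ≃* S) (D : R1 p S) : R1 p T where
  U := D.U.comap e.toMonoidHom
  B := D.B.comap e.toMonoidHom
  w := e.symm D.w
  nU := by
    ext x
    rw [Subgroup.mem_normalizer_iff_map_conj_eq, Subgroup.mem_comap, ← D.nU, Subgroup.mem_normalizer_iff_map_conj_eq]
    have h1 : cj x (D.U.comap e.toMonoidHom) = (cj (e x) D.U).comap e.toMonoidHom := comap_cj e D.U x
    constructor
    · intro h
      exact comap_inj e (h1.symm.trans h)
    · intro h
      exact h1.trans (congrArg (fun K => Subgroup.comap e.toMonoidHom K) h)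
  pU := D.pU.comap_of_injective e.toMonoidHom e.injective
  mU L hL hp := by
    have h1 : D.U ≤ L.map e.toMonoidHom := by
      have := Subgroup.map_mono (f := e.toMonoidHom) hL
      rwa [map_comap] at this
    have h2 := D.mU _ h1 (hp.map _)
    rw [← h2, comap_map]
  wB h := D.wB (by
    have h1 : e.toMonoidHom (e.symm D.w) ∈ D.B := h
    have h2 : e.toMonoidHom (e.symm D.w) = D.w := e.apply_symm_apply _
    rwa [h2] at h1)
  ww := by
    show e (e.symm D.w * e.symm D.w) ∈ D.B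
    rw [map_mul, e.apply_symm_apply]
    exact D.ww
  tr g hg := by
    obtain ⟨u, hu, b, hb, h⟩ := D.tr (e g) hg
    refine ⟨e.symm u, ?_, e.symm b, ?_, ?_⟩
    · show e (e.symm u) ∈ D.U
      rw [e.apply_symm_apply]; exact hu
    · show e (e.symm b) ∈ D.B
      rw [e.apply_symm_apply]; exact hb
    · apply e.injective
      rw [map_mul, map_mul, e.apply_symm_apply, e.apply_symm_apply, e.apply_symm_apply]
      exact h
  ti := by
    have h1 : cj (e.symm D.w) (D.B.comap e.toMonoidHom) = (cj D.w D.B).comap e.toMonoidHom := by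
      rw [comap_cj, e.apply_symm_apply]
    rw [h1, ← Subgroup.comap_inf, D.ti]
    rw [Subgroup.eq_bot_iff_forall]
    intro x hx
    have h2 : e x = 1 := hx
    exact (map_eq_one_iff _ e.injective).1 h2

theorem ofEquiv_T0 (e : T ≃* S) (D : R1 p S) : (D.ofEquiv e).T0 = D.T0.comap e.toMonoidHom := by
  show D.B.comap e.toMonoidHom ⊓ cj (e.symm D.w) (D.B.comap e.toMonoidHom) = _
  rw [comap_cj, e.apply_symm_apply, ← Subgroup.comap_inf]
  rfl

/-- **transport of the hypotheses** -/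
theorem Hyp.ofEquiv (e : T ≃* S) {D : R1 p S} (hD : D.Hyp) : (D.ofEquiv e).Hyp where
  comm X hX h := by
    have hX' : X ≤ D.U.comap e.toMonoidHom := hX
    have h1 : X.map e.toMonoidHom = D.U := by
      apply hD.comm
      · have := Subgroup.map_mono (f := e.toMonoidHom) hX'
        rwa [map_comap] at this
      · intro u hu t ht
        have h2 := h (e.symm u) (by
          show e (e.symm u) ∈ D.U
          rw [e.apply_symm_apply]; exact hu) (e.symm t) (by
          rw [ofEquiv_T0]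
          show e (e.symm t) ∈ D.T0
          rw [e.apply_symm_apply]; exact ht)
        refine ⟨_, h2, ?_⟩
        show e (e.symm u * e.symm t * (e.symm u)⁻¹ * (e.symm t)⁻¹) = _
        rw [map_mul, map_mul, map_mul, map_inv, map_inv, e.apply_symm_apply, e.apply_symm_apply]
    show X = D.U.comap e.toMonoidHom
    rw [← h1, comap_map]
  p2 hp φ hφ m hm := by
    let f : (D.ofEquiv e).U ≃* D.U :=
      { toFun := fun u => ⟨e u, u.2⟩
        invFun := fun s => ⟨e.symm s, by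
          show e (e.symm s) ∈ D.U
          rw [e.apply_symm_apply]; exact s.2⟩
        left_inv := fun u => Subtype.ext (e.symm_apply_apply _)
        right_inv := fun s => Subtype.ext (e.apply_symm_apply _)
        map_mul' := fun a b => Subtype.ext (map_mul e _ _) }
    have hf : ∀ u, ((f u : D.U) : S) = e u := fun _ => rfl
    let ψ : MulAut D.U := MulAut.congr f φ
    have hψ : ∀ s, ψ s = f (φ (f.symm s)) := fun _ => rfl
    have h1 : ψ = 1 := by
      refine hD.p2 hp ψ (fun t ht u v huv => ?_) m (by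
        show (MulAut.congr f φ) ^ 2 ^ m = 1
        rw [← map_pow, hm, map_one])
      have h2 := hφ (e.symm t) (by
          rw [ofEquiv_T0]
          show e (e.symm t) ∈ D.T0
          rw [e.apply_symm_apply]; exact ht) (f.symm u) (f.symm v) (by
          show e.symm (v : S) = e.symm t * e.symm (u : S) * (e.symm t)⁻¹
          rw [huv, map_mul, map_mul, map_inv])
      rw [hψ, hψ, hf, hf, h2, map_mul, map_mul, map_inv, e.apply_symm_apply]
    have h2 : MulAut.congr f φ = MulAut.congr f 1 := by rw [map_one]; exact h1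
    exact (MulAut.congr f).injective h2
  inv hp φ hφ b hb := by
    let ψ : MulAut S := MulAut.congr e φ
    have hψ : ∀ s, ψ s = e (φ (e.symm s)) := fun _ => rfl
    have h1 := hD.inv hp ψ (fun t ht => by
      rw [hψ, hφ (e.symm t) (by
        rw [ofEquiv_T0]
        show e (e.symm t) ∈ D.T0
        rw [e.apply_symm_apply]; exact ht), e.apply_symm_apply]) (e b) hb
    rw [hψ, e.symm_apply_apply] at h1
    exact h1
  ov := by
    classical
    obtain ⟨Zs, h1, h2, h3⟩ := hD.ov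
    refine ⟨Zs.image (fun Z => Z.comap e.toMonoidHom), ?_, ?_, ?_⟩
    · have h4 := Finset.card_image_le (s := Zs) (f := fun Z : Subgroup S => Z.comap e.toMonoidHom)
      rcases h1 with h1 | h1
      · exact Or.inl (h4.trans h1)
      · exact Or.inr (by omega)
    · intro Z hZ
      obtain ⟨Z', hZ', rfl⟩ := Finset.mem_image.1 hZ
      obtain ⟨h5, h6⟩ := h2 Z' hZ'
      constructor
      · intro h7
        apply h5
        rw [Subgroup.eq_bot_iff_forall]
        intro s hs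
        have h8 : e.symm s ∈ Z'.comap e.toMonoidHom := by
          show e (e.symm s) ∈ Z'
          rw [e.apply_symm_apply]; exact hs
        rw [h7, Subgroup.mem_bot] at h8
        rwa [map_eq_one_iff _ e.symm.injective] at h8
      · intro h7
        apply h6
        rw [eq_top_iff]
        intro s _
        have h8 : e.symm s ∈ Z'.comap e.toMonoidHom := by rw [h7]; trivial
        have h9 : e (e.symm s) ∈ Z' := h8
        rwa [e.apply_symm_apply] at h9
    · intro K hK hK1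
      have h4 : D.T0 ≤ K.map e.toMonoidHom := by
        rw [ofEquiv_T0] at hK
        have := Subgroup.map_mono (f := e.toMonoidHom) hK
        rwa [map_comap] at this
      have h5 : K.map e.toMonoidHom ≠ ⊤ := by
        intro h6
        apply hK1
        rw [← comap_map e K, h6]
        rfl
      have hle : ∀ L : Subgroup S, K.map e.toMonoidHom ≤ L → K ≤ L.comap e.toMonoidHom := fun L hL =>
        Subgroup.map_le_iff_le_comap.1 hL
      have hcw : ∀ L : Subgroup S, cj (D.ofEquiv e).w (L.comap e.toMonoidHom) = (cj D.w L).comap e.toMonoidHom := by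
        intro L
        show cj (e.symm D.w) (L.comap e.toMonoidHom) = _
        rw [comap_cj, e.apply_symm_apply]
      have hinf : ∀ L : Subgroup S, K.map e.toMonoidHom ⊓ L ≠ ⊥ → K ⊓ L.comap e.toMonoidHom ≠ ⊥ := by
        intro L hL h6
        apply hL
        rw [Subgroup.eq_bot_iff_forall]
        rintro s ⟨⟨k, hk, rfl⟩, hs⟩
        have h7 : k ∈ K ⊓ L.comap e.toMonoidHom := ⟨hk, hs⟩
        rw [h6, Subgroup.mem_bot] at h7
        rw [h7, map_one]
      rcases h3 _ h4 h5 with ⟨h6, h7⟩ | ⟨h6, h7⟩ | ⟨Z, hZ, h6⟩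
      · exact Or.inl ⟨hle _ h6, hinf _ h7⟩
      · refine Or.inr (Or.inl ⟨?_, ?_⟩)
        · show K ≤ cj (D.ofEquiv e).w (D.B.comap e.toMonoidHom)
          rw [hcw]
          exact hle _ h6
        · show K ⊓ cj (D.ofEquiv e).w (D.U.comap e.toMonoidHom) ≠ ⊥
          rw [hcw]
          exact hinf _ h7
      · refine Or.inr (Or.inr ⟨Z.comap e.toMonoidHom, Finset.mem_image_of_mem _ hZ, fun φ hφ z hz => ?_⟩)
        let ψ : MulAut S := MulAut.congr e φ
        have hψ : ∀ s, ψ s = e (φ (e.symm s)) := fun _ => rfl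
        have h7 := h6 ψ (by
          rintro _ ⟨k, hk, rfl⟩
          refine ⟨φ k, hφ k hk, ?_⟩
          show e (φ k) = ψ (e k)
          rw [hψ, e.symm_apply_apply]) (e z) hz
        rw [hψ, e.symm_apply_apply] at h7
        exact h7

theorem exists_ofEquiv (e : T ≃* S) (h : ∃ D : R1 p S, D.Hyp) : ∃ D : R1 p T, D.Hyp := by
  obtain ⟨D, hD⟩ := h
  exact ⟨D.ofEquiv e, hD.ofEquiv e⟩

end R1

end Cfsg.Agent.H470.EPO
end

-- part: H424/EPX/Canon
section
prune_inst 0x1000001900000000180014a0003c0282000102000b00011060060206c6da0020470621e8a00c12001a8c0000000068105c00c0000000000400000000040120902a42029248a104200001809007100000000000000000000000000000041004000000000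
set_option linter.all false
open scoped Cfsg.Agent.FastGrp

-- part: H424/EPX/Base
section
/-!
# Subgroups between the root groups of `²F₄(q)` (helper424, for S5745, own characteristic)

`S : Full σ G`; `U = J 1 8`, `Bo = U T`, `N1 = N(J 2 8)`, `N2 = N(J 1 7)`.

* `bru` : Bruhat decomposition `g = b n b'`, `n` maps the root groups by `k ↦ c ± k`, `c` even;
* `maps_unique` : the permutation of the root groups is determined by `n`;
* `arc_of_le` : `U ≤ M < G`, `X_i ≤ M` implies `i ∈ {0, …, 9}`.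
-/

set_option autoImplicit false
set_option linter.unusedSectionVars false

namespace Cfsg.Agent.H424.EPX

open Cfsg.Agent.KFacts.TwF4 Cfsg.Agent.KFacts.TwF4.Full Cfsg.Agent.KFacts.TwF4.Arc
open Cfsg.Agent.KFacts.TwF4.Inv Cfsg.Agent.KFacts.TwF4.SylU
open Cfsg.Agent.SplitTwo Cfsg.Agent.SplitTwo.ZS Cfsg.Agent.TitsThree.RankTwoZ
open Cfsg.Agent.SplitTwo.RootSysZ Subgroup Cfsg Cfsg.Agent.H248.TwF4Over

universe u

variable {F : Type*} [Field F] {σ : F →+* F} {G : Type u} [Group G] (S : Full σ G)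

/-- even residue classes modulo 16 -/
def Ev (c : ZMod (2 * 8)) : Prop := c.val % 2 = 0

instance (c : ZMod (2 * 8)) : Decidable (Ev c) := inferInstanceAs (Decidable (c.val % 2 = 0))

theorem ev_two_mul (c : ℤ) : Ev ((2 * c : ℤ) : ZMod (2 * 8)) := by
  have h : ∀ d : ZMod (2 * 8), Ev (2 * d) := by decide
  have := h (c : ZMod (2 * 8))
  push_cast
  exact this

/-- **Bruhat decomposition** -/
theorem bru (g : G) : ∃ b ∈ J S.XZ 1 8, ∃ n, (∃ c, Ev c ∧ (Maps S.R.X n (fun k => c + k) ∨ Maps S.R.X n (fun k => c - k))) ∧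
    ∃ b' ∈ J S.XZ 1 8, g = b * n * b' := by
  obtain ⟨b, hb, t, ht, w, ⟨c, hc⟩, b', hb', rfl⟩ := S.bruhatE g
  refine ⟨b, hb, t * w, ⟨_, ev_two_mul c, ?_⟩, b', hb', by group⟩
  have key : ∀ f : ZMod (2 * 8) → ZMod (2 * 8), Maps S.R.X w f → Maps S.R.X (t * w) f := by
    intro f hf
    exact (Maps.mul (S.T_iff.1 ht) hf).congr fun _ => rfl
  rcases hc with hc | hc
  · exact Or.inl (key _ hc)
  · exact Or.inr (key _ hc)

theorem exists_ne (k : ZMod (2 * 8)) : ∃ x ∈ S.R.X k, x ≠ 1 := by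
  obtain ⟨x, hx, hx1⟩ := S.zsys8.exists_ne (k.val : ℤ)
  refine ⟨x, ?_, hx1⟩
  have hk : (((k.val : ℕ) : ℤ) : ZMod (2 * 8)) = k := by rw [Int.cast_natCast]; exact ZMod.natCast_zmod_val _
  have e : S.XZ (k.val : ℤ) = S.R.X k := by show S.R.X _ = _; rw [hk]
  rwa [e] at hx

theorem maps_unique {n : G} {f g : ZMod (2 * 8) → ZMod (2 * 8)} (hf : Maps S.R.X n f) (hg : Maps S.R.X n g)
    (k : ZMod (2 * 8)) : f k = g k := by
  obtain ⟨x, hx, hx1⟩ := exists_ne S k
  by_contra hne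
  have h1 := S.X_inf hne ((hf k x).2 hx) ((hg k x).2 hx)
  apply hx1
  have e : x = n⁻¹ * (n * x * n⁻¹) * n := by group
  rw [e, h1]
  group

theorem conj_le {M : Subgroup G} {m : G} (hm : m ∈ M) {f : ZMod (2 * 8) → ZMod (2 * 8)} (hf : Maps S.R.X m f)
    {i : ZMod (2 * 8)} (hi : S.R.X i ≤ M) : S.R.X (f i) ≤ M := by
  intro x hx
  have h1 : m⁻¹ * x * m ∈ S.R.X i := by
    rw [← hf]
    have e : m * (m⁻¹ * x * m) * m⁻¹ = x := by group
    rwa [e]
  have h2 := mul_mem (mul_mem hm (hi h1)) (inv_mem hm)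
  have e : m * (m⁻¹ * x * m) * m⁻¹ = x := by group
  rwa [e] at h2

theorem refl_mem {M : Subgroup G} {i : ZMod (2 * 8)} (h1 : S.R.X i ≤ M) (h2 : S.R.X (i + 8) ≤ M) :
    ∃ m ∈ M, Maps S.R.X m (fun k => 2 * i + 8 - k) := by
  obtain ⟨x, hx, hx1⟩ := exists_ne S i
  have hi : (((i.val : ℕ) : ℤ) : ZMod (2 * 8)) = i := by rw [Int.cast_natCast]; exact ZMod.natCast_zmod_val _
  have e1 : S.XZ (i.val : ℤ) = S.R.X i := by show S.R.X _ = _; rw [hi]
  have e2 : S.XZ ((i.val : ℤ) - 8) = S.R.X (i + 8) := by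
    show S.R.X _ = _
    rw [Int.cast_sub, hi]
    congr 1
    have : ∀ j : ZMod (2 * 8), j - ((8 : ℤ) : ZMod (2 * 8)) = j + 8 := by decide
    exact this i
  obtain ⟨v, hv, v', hv', h3⟩ := S.zsys8.mu (i.val : ℤ) x (by rw [e1]; exact hx) hx1
  rw [e2] at hv hv'
  refine ⟨v * x * v', mul_mem (mul_mem (h2 hv) (h1 hx)) (h2 hv'), (maps_refl h3).congr fun k => ?_⟩
  rw [Int.cast_sub, Int.cast_mul, hi]
  have : ∀ j k : ZMod (2 * 8), ((2 : ℤ) : ZMod (2 * 8)) * j - ((8 : ℤ) : ZMod (2 * 8)) - k = 2 * j + 8 - k := by decide +kernel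
  exact this i k

theorem X_le_U {i : ZMod (2 * 8)} (h1 : 1 ≤ i.val) (h2 : i.val ≤ 8) : S.R.X i ≤ J S.XZ 1 8 := by
  have hi : (((i.val : ℕ) : ℤ) : ZMod (2 * 8)) = i := by rw [Int.cast_natCast]; exact ZMod.natCast_zmod_val _
  have e1 : S.XZ (i.val : ℤ) = S.R.X i := by show S.R.X _ = _; rw [hi]
  rw [← e1]
  exact X_le_J (by omega) (by omega)

theorem X_le_J' {a b : ℤ} {i : ZMod (2 * 8)} (k : ℤ) (hk : (k : ZMod (2 * 8)) = i) (h1 : a ≤ k) (h2 : k ≤ b) :
    S.R.X i ≤ J S.XZ a b := by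
  have e1 : S.XZ k = S.R.X i := by show S.R.X _ = _; rw [hk]
  rw [← e1]
  exact X_le_J h1 h2

theorem J_le' {a b : ℤ} {K : Subgroup G} (h : ∀ k : ℤ, a ≤ k → k ≤ b → S.R.X (k : ZMod (2 * 8)) ≤ K) :
    J S.XZ a b ≤ K := J_le h

/-- elements of an overgroup of `U` -/
theorem types' [Finite G] {M : Subgroup G} (hU : J S.XZ 1 8 ≤ M) (hM : M ≠ ⊤) {b b' n : G} (hb : b ∈ J S.XZ 1 8)
    (hb' : b' ∈ J S.XZ 1 8) (hn : ∃ c : ZMod (2 * 8), Maps S.R.X n (fun k => c + k) ∨ Maps S.R.X n (fun k => c - k))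
    (hg : b * n * b' ∈ M) : Maps S.R.X n (fun k => k) ∨
      (Maps S.R.X n (fun k => 10 - k) ∧ S.R.X 9 ≤ M) ∨ (Maps S.R.X n (fun k => 8 - k) ∧ S.R.X 0 ≤ M) := by
  rcases types (cond_top S) (M := M) (by rwa [inf_top_eq]) hb hb' hn hg with h | h | ⟨h, h'⟩ | ⟨h, h'⟩
  · exact absurd (top_le_iff.1 h) hM
  · exact Or.inl h
  · refine Or.inr (Or.inl ⟨h, ?_⟩)
    have : S.R.X 9 ⊓ ⊤ ≤ M := h'
    rwa [inf_top_eq] at this
  · refine Or.inr (Or.inr ⟨h, ?_⟩)
    have : S.R.X 0 ⊓ ⊤ ≤ M := h'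
    rwa [inf_top_eq] at this

theorem not_both [Finite G] {M : Subgroup G} (hU : J S.XZ 1 8 ≤ M) (hM : M ≠ ⊤) (h9 : S.R.X 9 ≤ M) (h0 : S.R.X 0 ≤ M) :
    False := by
  apply hM
  rw [← top_le_iff]
  refine le_of_both (cond_top S) (by rwa [inf_top_eq]) ?_ ?_
  · show S.R.X 9 ⊓ ⊤ ≤ M
    rwa [inf_top_eq]
  · show S.R.X 0 ⊓ ⊤ ≤ M
    rwa [inf_top_eq]

/-- **the root groups of a proper overgroup of `U`** -/
theorem arc_of_le [Finite G] {M : Subgroup G} (hU : J S.XZ 1 8 ≤ M) (hM : M ≠ ⊤) {i : ZMod (2 * 8)}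
    (hi : S.R.X i ≤ M) : i.val ≤ 9 := by
  by_contra hcon
  have hc1 : ∀ i : ZMod (2 * 8), ¬ i.val ≤ 9 → 1 ≤ (i + 8).val ∧ (i + 8).val ≤ 8 ∧ i = (i + 8) + 8 ∧
      ¬ (∀ k : ZMod (2 * 8), 2 * (i + 8) + 8 - k = k) ∧ ¬ (∀ k : ZMod (2 * 8), 2 * (i + 8) + 8 - k = 10 - k) ∧
      ¬ (∀ k : ZMod (2 * 8), 2 * (i + 8) + 8 - k = 8 - k) := by decide
  obtain ⟨h1, h2, h3, h4, h5, h6⟩ := hc1 i hcon
  have h7 : S.R.X (i + 8) ≤ M := (X_le_U S h1 h2).trans hU
  obtain ⟨m, hm, hmf⟩ := refl_mem S h7 (by rw [← h3]; exact hi)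
  rcases types' S hU hM (b := 1) (b' := 1) (n := m) (one_mem _) (one_mem _) ⟨_, Or.inr hmf⟩ (by simpa using hm) with
    h | ⟨h, -⟩ | ⟨h, -⟩
  · exact h4 fun k => maps_unique S hmf h k
  · exact h5 fun k => maps_unique S hmf h k
  · exact h6 fun k => maps_unique S hmf h k

end Cfsg.Agent.H424.EPX
end

-- part: H424/EPX/Par
section
/-!
# The parabolic subgroups of `²F₄(q)` (helper424, for S5745, own characteristic)

`Pp none = U T`, `Pp true = N(J 2 8)`, `Pp false = N(J 1 7)`; `Vv none = U`, `Vv true = J 2 8`, `Vv false = J 1 7`.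
-/

set_option autoImplicit false
set_option linter.unusedSectionVars false

namespace Cfsg.Agent.H424.EPX

open Cfsg.Agent.KFacts.TwF4 Cfsg.Agent.KFacts.TwF4.Full Cfsg.Agent.KFacts.TwF4.Arc
open Cfsg.Agent.KFacts.TwF4.Inv Cfsg.Agent.KFacts.TwF4.SylU
open Cfsg.Agent.SplitTwo Cfsg.Agent.SplitTwo.ZS Cfsg.Agent.TitsThree.RankTwoZ
open Cfsg.Agent.SplitTwo.RootSysZ Subgroup Cfsg Cfsg.Agent.H248.TwF4Over
open Cfsg.Agent.H284

universe u

variable {F : Type*} [Field F] {σ : F →+* F} {G : Type u} [Group G] (S : Full σ G)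

/-- the parabolic subgroups of proper type -/
def Pp : Option Bool → Subgroup G
  | none => J S.XZ 1 8 ⊔ S.T
  | some true => normalizer (J S.XZ 2 8 : Set G)
  | some false => normalizer (J S.XZ 1 7 : Set G)

/-- their unipotent radicals -/
def Vv : Option Bool → Subgroup G
  | none => J S.XZ 1 8
  | some true => J S.XZ 2 8
  | some false => J S.XZ 1 7

/-- the root groups in `Pp` -/
def arcP : Option Bool → Finset (ZMod (2 * 8))
  | none => {1, 2, 3, 4, 5, 6, 7, 8}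
  | some true => {1, 2, 3, 4, 5, 6, 7, 8, 9}
  | some false => {0, 1, 2, 3, 4, 5, 6, 7, 8}

/-- the root groups in `Vv` -/
def arcV : Option Bool → Finset (ZMod (2 * 8))
  | none => {1, 2, 3, 4, 5, 6, 7, 8}
  | some true => {2, 3, 4, 5, 6, 7, 8}
  | some false => {1, 2, 3, 4, 5, 6, 7}

theorem Vv_le_U (o : Option Bool) : Vv S o ≤ J S.XZ 1 8 := by
  rcases o with _ | _ | _
  · exact le_rfl
  · exact J_mono le_rfl (by norm_num)
  · exact J_mono (by norm_num) le_rfl

theorem conj_Vv (o : Option Bool) {b : G} (hb : b ∈ J S.XZ 1 8) {x : G} (hx : x ∈ Vv S o) : b * x * b⁻¹ ∈ Vv S o := by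
  have Z := S.zsys8
  rcases o with _ | _ | _
  · exact mul_mem (mul_mem hb hx) (inv_mem hb)
  · exact Z.conj_J (a := 1) (b := 7) (c := 1) (d := 8) (by norm_num) (by norm_num) (by norm_num) hb hx
  · exact Z.conj_J (a := 2) (b := 8) (c := 1) (d := 8) (by norm_num) (by norm_num) (by norm_num) hb hx

theorem T_conj_Vv (o : Option Bool) {t : G} (ht : t ∈ S.T) {x : G} (hx : x ∈ Vv S o) : t * x * t⁻¹ ∈ Vv S o := by
  rcases o with _ | _ | _
  · exact S.T_conj_J ht hx
  · exact S.T_conj_J ht hx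
  · exact S.T_conj_J ht hx

section fin

variable [Finite G]

theorem mem_norm_of {A : Subgroup G} {g : G} (h : ∀ x ∈ A, g * x * g⁻¹ ∈ A) : g ∈ normalizer (A : Set G) := by
  rw [Subgroup.mem_normalizer_iff_map_conj_eq]
  apply Subgroup.eq_of_le_of_card_ge
  · rintro _ ⟨x, hx, rfl⟩
    exact h x hx
  · exact (card_cj g A).ge

theorem U_le_Pp (o : Option Bool) : J S.XZ 1 8 ≤ Pp S o := by
  rcases o with _ | _ | _
  · exact le_sup_left
  · exact fun b hb => mem_norm_of fun x hx => conj_Vv S (some false) hb hx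
  · exact fun b hb => mem_norm_of fun x hx => conj_Vv S (some true) hb hx

theorem T_le_Pp (o : Option Bool) : S.T ≤ Pp S o := by
  rcases o with _ | _ | _
  · exact le_sup_right
  · exact fun b hb => mem_norm_of fun x hx => T_conj_Vv S (some false) hb hx
  · exact fun b hb => mem_norm_of fun x hx => T_conj_Vv S (some true) hb hx

theorem B_le_Pp (o : Option Bool) : Pp S none ≤ Pp S o := sup_le (U_le_Pp S o) (T_le_Pp S o)

theorem Vv_le_Pp (o : Option Bool) : Vv S o ≤ Pp S o := (Vv_le_U S o).trans (U_le_Pp S o)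

theorem n1_mem_P : S.n1 ∈ Pp S (some true) := mem_norm_of fun x hx => S.n1_refl.mem_J hx (by norm_num) (by norm_num)

theorem n2_mem_P : S.n2 ∈ Pp S (some false) := mem_norm_of fun x hx => S.n2_refl.mem_J hx (by norm_num) (by norm_num)

theorem Pp_le_norm (o : Option Bool) : Pp S o ≤ normalizer (Vv S o : Set G) := by
  rcases o with _ | _ | _
  · exact sup_le (fun b hb => mem_norm_of fun x hx => conj_Vv S none hb hx)
      (fun b hb => mem_norm_of fun x hx => T_conj_Vv S none hb hx)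
  · exact le_rfl
  · exact le_rfl

theorem Pp_ne_top (o : Option Bool) : Pp S o ≠ ⊤ := by
  have h1 : Pp S (some true) ≠ ⊤ := by
    intro h
    have h2 : S.n2 ∈ normalizer (J S.XZ 2 8 : Set G) := by
      have : S.n2 ∈ Pp S (some true) := by rw [h]; exact mem_top _
      exact this
    refine J_ne_bot S (a := 2) (b := 8) (by norm_num) (H371.PU.bot_of_inv S (J_mono (by norm_num) le_rfl) ?_ ?_)
    · exact fun x hx => (mem_normalizer_iff.1 (n1_mem_P S) x).1 hx
    · exact fun x hx => (mem_normalizer_iff.1 h2 x).1 hx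
  have h2 : Pp S (some false) ≠ ⊤ := by
    intro h
    have h2 : S.n1 ∈ normalizer (J S.XZ 1 7 : Set G) := by
      have : S.n1 ∈ Pp S (some false) := by rw [h]; exact mem_top _
      exact this
    refine J_ne_bot S (a := 1) (b := 7) (by norm_num) (H371.PU.bot_of_inv S (J_mono le_rfl (by norm_num)) ?_ ?_)
    · exact fun x hx => (mem_normalizer_iff.1 h2 x).1 hx
    · exact fun x hx => (mem_normalizer_iff.1 (n2_mem_P S) x).1 hx
  rcases o with _ | _ | _
  · exact fun h => h1 (top_le_iff.1 (h ▸ B_le_Pp S (some true)))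
  · exact h2
  · exact h1

theorem X9_le : S.R.X 9 ≤ Pp S (some true) := by
  have h1 : S.R.X 1 ≤ Pp S (some true) := (X_le_U S (i := 1) (by decide) (by decide)).trans (U_le_Pp S _)
  exact (conj_le S (n1_mem_P S) S.n1_maps h1 :)

theorem X0_le : S.R.X 0 ≤ Pp S (some false) := by
  have h1 : S.R.X 8 ≤ Pp S (some false) := (X_le_U S (i := 8) (by decide) (by decide)).trans (U_le_Pp S _)
  have := conj_le S (n2_mem_P S) S.n2_maps h1
  rwa [sub_self] at this

theorem not_X0 : ¬ S.R.X 0 ≤ Pp S (some true) := fun h =>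
  not_both S (U_le_Pp S _) (Pp_ne_top S _) (X9_le S) h

theorem not_X9 : ¬ S.R.X 9 ≤ Pp S (some false) := fun h =>
  not_both S (U_le_Pp S _) (Pp_ne_top S _) h (X0_le S)

theorem mem_arcP {o : Option Bool} {i : ZMod (2 * 8)} (hi : S.R.X i ≤ Pp S o) : i ∈ arcP o := by
  have h1 := arc_of_le S (U_le_Pp S o) (Pp_ne_top S o) hi
  have hc : ∀ i : ZMod (2 * 8), i.val ≤ 9 → i = 0 ∨ i = 9 ∨ (i ∈ arcP none ∧ i ∈ arcP (some true) ∧ i ∈ arcP (some false)) := by
    decide +kernel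
  rcases hc i h1 with rfl | rfl | ⟨h2, h3, h4⟩
  · rcases o with _ | _ | _
    · exact absurd (hi.trans (B_le_Pp S (some true))) (not_X0 S)
    · decide
    · exact absurd hi (not_X0 S)
  · rcases o with _ | _ | _
    · exact absurd (hi.trans (B_le_Pp S (some false))) (not_X9 S)
    · exact absurd hi (not_X9 S)
    · decide
  · rcases o with _ | _ | _
    · exact h2
    · exact h4
    · exact h3

theorem X_le_Vv {o : Option Bool} {i : ZMod (2 * 8)} (hi : i ∈ arcV o) : S.R.X i ≤ Vv S o := by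
  have h1 : ∀ i : ZMod (2 * 8), i ∈ arcV none → 1 ≤ i.val ∧ i.val ≤ 8 := by decide +kernel
  have h2 : ∀ i : ZMod (2 * 8), i ∈ arcV (some false) → 1 ≤ i.val ∧ i.val ≤ 7 := by decide
  have h3 : ∀ i : ZMod (2 * 8), i ∈ arcV (some true) → 2 ≤ i.val ∧ i.val ≤ 8 := by decide
  have hv : (((i.val : ℕ) : ℤ) : ZMod (2 * 8)) = i := by rw [Int.cast_natCast]; exact ZMod.natCast_zmod_val _
  rcases o with _ | _ | _
  · obtain ⟨a, b⟩ := h1 i hi
    exact X_le_J' S (i.val : ℤ) hv (by omega) (by omega)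
  · obtain ⟨a, b⟩ := h2 i hi
    exact X_le_J' S (i.val : ℤ) hv (by omega) (by omega)
  · obtain ⟨a, b⟩ := h3 i hi
    exact X_le_J' S (i.val : ℤ) hv (by omega) (by omega)

end fin

/-! ### elements of the normaliser of the torus -/

theorem n1_inv' : S.n1⁻¹ = S.n1 := inv_eq_of_mul_eq_one_left S.n1_sq
theorem n2_inv' : S.n2⁻¹ = S.n2 := inv_eq_of_mul_eq_one_left S.n2_sq

theorem mem_T_of_maps {n : G} (h : Maps S.R.X n (fun k => k)) : n ∈ S.T := S.T_iff.2 (h.congr fun _ => rfl)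

theorem eq_n1 {n : G} (h : Maps S.R.X n (fun k => 10 - k)) : ∃ t ∈ S.T, n = t * S.n1 := by
  refine ⟨n * S.n1, mem_T_of_maps S ((h.mul S.n1_maps).congr fun k => ?_), ?_⟩
  · show 10 - (10 - k) = k
    ring
  · rw [mul_assoc, S.n1_sq, mul_one]

theorem eq_n2 {n : G} (h : Maps S.R.X n (fun k => 8 - k)) : ∃ t ∈ S.T, n = t * S.n2 := by
  refine ⟨n * S.n2, mem_T_of_maps S ((h.mul S.n2_maps).congr fun k => ?_), ?_⟩
  · show 8 - (8 - k) = k
    ring
  · rw [mul_assoc, S.n2_sq, mul_one]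

theorem eq_n1' {n : G} (h : Maps S.R.X n (fun k => 10 - k)) : ∃ t ∈ S.T, n = S.n1 * t := by
  refine ⟨S.n1 * n, mem_T_of_maps S ((S.n1_maps.mul h).congr fun k => ?_), ?_⟩
  · show 10 - (10 - k) = k
    ring
  · rw [← mul_assoc, S.n1_sq, one_mul]

theorem eq_n2' {n : G} (h : Maps S.R.X n (fun k => 8 - k)) : ∃ t ∈ S.T, n = S.n2 * t := by
  refine ⟨S.n2 * n, mem_T_of_maps S ((S.n2_maps.mul h).congr fun k => ?_), ?_⟩
  · show 8 - (8 - k) = k
    ring
  · rw [← mul_assoc, S.n2_sq, one_mul]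

theorem eq_n12 {n : G} (h : Maps S.R.X n (fun k => 2 + k)) : ∃ t ∈ S.T, n = t * S.n1 * S.n2 := by
  have h1 : Maps S.R.X (n * S.n2) (fun k => 10 - k) := (h.mul S.n2_maps).congr fun k => by
    show 2 + (8 - k) = 10 - k
    have : ∀ k : ZMod (2 * 8), 2 + (8 - k) = 10 - k := by decide
    exact this k
  obtain ⟨t, ht, h2⟩ := eq_n1 S h1
  refine ⟨t, ht, ?_⟩
  rw [← h2, mul_assoc, S.n2_sq, mul_one]

theorem eq_n21 {n : G} (h : Maps S.R.X n (fun k => 14 + k)) : ∃ t ∈ S.T, n = t * S.n2 * S.n1 := by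
  have h1 : Maps S.R.X (n * S.n1) (fun k => 8 - k) := (h.mul S.n1_maps).congr fun k => by
    show 14 + (10 - k) = 8 - k
    have : ∀ k : ZMod (2 * 8), 14 + (10 - k) = 8 - k := by decide
    exact this k
  obtain ⟨t, ht, h2⟩ := eq_n2 S h1
  refine ⟨t, ht, ?_⟩
  rw [← h2, mul_assoc, S.n1_sq, mul_one]

section fin2

variable [Finite G]

/-- the elements of `N(J 2 8)` -/
theorem form_true {g : G} (hg : g ∈ Pp S (some true)) (hgB : g ∉ Pp S none) :
    ∃ u ∈ J S.XZ 1 8, ∃ b ∈ Pp S none, g = u * S.n1 * b := by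
  obtain ⟨b, hb, n, ⟨c, -, hc⟩, b', hb', rfl⟩ := bru S g
  rcases types' S (U_le_Pp S (some true)) (Pp_ne_top S _) hb hb' ⟨c, hc⟩ hg with h | ⟨h, -⟩ | ⟨-, h⟩
  · exact absurd (mul_mem (mul_mem (U_le_Pp S none hb) (T_le_Pp S none (mem_T_of_maps S h))) (U_le_Pp S none hb')) hgB
  · obtain ⟨t, ht, rfl⟩ := eq_n1' S h
    exact ⟨b, hb, t * b', mul_mem (T_le_Pp S none ht) (U_le_Pp S none hb'), by group⟩
  · exact absurd h (not_X0 S)

/-- the elements of `N(J 1 7)` -/
theorem form_false {g : G} (hg : g ∈ Pp S (some false)) (hgB : g ∉ Pp S none) :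
    ∃ u ∈ J S.XZ 1 8, ∃ b ∈ Pp S none, g = u * S.n2 * b := by
  obtain ⟨b, hb, n, ⟨c, -, hc⟩, b', hb', rfl⟩ := bru S g
  rcases types' S (U_le_Pp S (some false)) (Pp_ne_top S _) hb hb' ⟨c, hc⟩ hg with h | ⟨-, h⟩ | ⟨h, -⟩
  · exact absurd (mul_mem (mul_mem (U_le_Pp S none hb) (T_le_Pp S none (mem_T_of_maps S h))) (U_le_Pp S none hb')) hgB
  · exact absurd h (not_X9 S)
  · obtain ⟨t, ht, rfl⟩ := eq_n2' S h
    exact ⟨b, hb, t * b', mul_mem (T_le_Pp S none ht) (U_le_Pp S none hb'), by group⟩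

/-- **overgroups of `B`** -/
theorem overB {L : Subgroup G} (hL : Pp S none ≤ L) : L = ⊤ ∨ ∃ o, L = Pp S o := by
  have hU : J S.XZ 1 8 ≤ L := (U_le_Pp S none).trans hL
  rcases overgroup (cond_top S) (M := L) (by rwa [inf_top_eq]) with h | h | h
  · exact Or.inl (top_le_iff.1 h)
  · right
    by_cases h1 : L ≤ Pp S none
    · exact ⟨none, le_antisymm h1 hL⟩
    obtain ⟨g, hg, hgB⟩ := SetLike.not_le_iff_exists.1 h1
    obtain ⟨u, hu, b, hb, rfl⟩ := form_true S (h hg) hgB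
    have hn : S.n1 ∈ L := by
      have e : S.n1 = u⁻¹ * (u * S.n1 * b) * b⁻¹ := by group
      rw [e]
      exact mul_mem (mul_mem (inv_mem (hU hu)) hg) (inv_mem (hL hb))
    refine ⟨some true, le_antisymm h fun x hx => ?_⟩
    by_cases hxB : x ∈ Pp S none
    · exact hL hxB
    · obtain ⟨v, hv, c, hc, rfl⟩ := form_true S hx hxB
      exact mul_mem (mul_mem (hU hv) hn) (hL hc)
  · right
    by_cases h1 : L ≤ Pp S none
    · exact ⟨none, le_antisymm h1 hL⟩
    obtain ⟨g, hg, hgB⟩ := SetLike.not_le_iff_exists.1 h1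
    obtain ⟨u, hu, b, hb, rfl⟩ := form_false S (h hg) hgB
    have hn : S.n2 ∈ L := by
      have e : S.n2 = u⁻¹ * (u * S.n2 * b) * b⁻¹ := by group
      rw [e]
      exact mul_mem (mul_mem (inv_mem (hU hu)) hg) (inv_mem (hL hb))
    refine ⟨some false, le_antisymm h fun x hx => ?_⟩
    by_cases hxB : x ∈ Pp S none
    · exact hL hxB
    · obtain ⟨v, hv, c, hc, rfl⟩ := form_false S hx hxB
      exact mul_mem (mul_mem (hU hv) hn) (hL hc)

theorem tab_rot : ∀ (a b : Option Bool) (c : ZMod (2 * 8)), Ev c → (∀ k ∈ arcV a, k - c ∈ arcP b) →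
    c = 0 ∨ (c = 2 ∧ a = some true ∧ b = some false) ∨ (c = 14 ∧ a = some false ∧ b = some true) := by decide +kernel

theorem tab_refl : ∀ (a b : Option Bool) (c : ZMod (2 * 8)), Ev c → (∀ k ∈ arcV a, c - k ∈ arcP b) →
    (c = 10 ∧ (a = some true ∨ b = some true)) ∨ (c = 8 ∧ (a = some false ∨ b = some false)) := by decide +kernel

/-- **`V_a ≤ g P_b g⁻¹` gives `g ∈ P_a P_b`** -/
theorem dec_pp {a b : Option Bool} {g : G} (h : Vv S a ≤ cj g (Pp S b)) : ∃ x ∈ Pp S a, ∃ y ∈ Pp S b, g = x * y := by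
  obtain ⟨u, hu, n, ⟨c, hce, hc⟩, u', hu', rfl⟩ := bru S g
  have huP := U_le_Pp S a hu
  have hu'P := U_le_Pp S b hu'
  have hX : ∀ (k j : ZMod (2 * 8)) (f : ZMod (2 * 8) → ZMod (2 * 8)), k ∈ arcV a → Maps S.R.X n f → f j = k → j ∈ arcP b := by
    intro k j f hk hf hj
    apply mem_arcP S
    intro x hx
    have h1 : n * x * n⁻¹ ∈ S.R.X k := by rw [← hj]; exact (hf j x).2 hx
    have h2 : u * (n * x * n⁻¹) * u⁻¹ ∈ Vv S a := conj_Vv S a hu (X_le_Vv S hk h1)
    have h3 := mem_cj.1 (h h2)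
    have e : (u * n * u')⁻¹ * (u * (n * x * n⁻¹) * u⁻¹) * (u * n * u') = u'⁻¹ * x * u' := by group
    rw [e] at h3
    have h4 := mul_mem (mul_mem hu'P h3) (inv_mem hu'P)
    have e2 : u' * (u'⁻¹ * x * u') * u'⁻¹ = x := by group
    rwa [e2] at h4
  suffices hn : ∃ x ∈ Pp S a, ∃ y ∈ Pp S b, n = x * y by
    obtain ⟨x, hx, y, hy, rfl⟩ := hn
    exact ⟨u * x, mul_mem huP hx, y * u', mul_mem hy hu'P, by group⟩
  rcases hc with hc | hc
  · have h1 := tab_rot a b c hce fun k hk => hX k (k - c) _ hk hc (by ring)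
    rcases h1 with rfl | ⟨rfl, rfl, rfl⟩ | ⟨rfl, rfl, rfl⟩
    · refine ⟨n, T_le_Pp S a (mem_T_of_maps S (hc.congr fun k => zero_add k)), 1, one_mem _, (mul_one n).symm⟩
    · obtain ⟨t, ht, rfl⟩ := eq_n12 S hc
      exact ⟨t * S.n1, mul_mem (T_le_Pp S _ ht) (n1_mem_P S), S.n2, n2_mem_P S, rfl⟩
    · obtain ⟨t, ht, rfl⟩ := eq_n21 S hc
      exact ⟨t * S.n2, mul_mem (T_le_Pp S _ ht) (n2_mem_P S), S.n1, n1_mem_P S, rfl⟩
  · have h1 := tab_refl a b c hce fun k hk => hX k (c - k) _ hk hc (by ring)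
    rcases h1 with ⟨rfl, rfl | rfl⟩ | ⟨rfl, rfl | rfl⟩
    · obtain ⟨t, ht, rfl⟩ := eq_n1 S hc
      exact ⟨t * S.n1, mul_mem (T_le_Pp S _ ht) (n1_mem_P S), 1, one_mem _, (mul_one _).symm⟩
    · obtain ⟨t, ht, rfl⟩ := eq_n1 S hc
      exact ⟨t, T_le_Pp S _ ht, S.n1, n1_mem_P S, rfl⟩
    · obtain ⟨t, ht, rfl⟩ := eq_n2 S hc
      exact ⟨t * S.n2, mul_mem (T_le_Pp S _ ht) (n2_mem_P S), 1, one_mem _, (mul_one _).symm⟩
    · obtain ⟨t, ht, rfl⟩ := eq_n2 S hc
      exact ⟨t, T_le_Pp S _ ht, S.n2, n2_mem_P S, rfl⟩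

/-- the radical is unique: `V_a ≤ g B g⁻¹` gives `g P_a g⁻¹ = P_a` -/
theorem cj_of_le {a : Option Bool} {x g : G} (h : cj x (Vv S a) ≤ cj g (Pp S none)) : cj x (Pp S a) = cj g (Pp S a) := by
  have h1 : Vv S a ≤ cj (x⁻¹ * g) (Pp S none) := by
    rw [cj_mul]
    have := cj_mono (x := x⁻¹) h
    rwa [cj_inv_cj] at this
  obtain ⟨y, hy, z, hz, e⟩ := dec_pp S h1
  have h2 : x⁻¹ * g ∈ Pp S a := by rw [e]; exact mul_mem hy (B_le_Pp S a hz)
  have e2 : g = x * (x⁻¹ * g) := by group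
  rw [e2, cj_mul, cj_eq_self h2]

end fin2

end Cfsg.Agent.H424.EPX
end

-- part: H424/EPX/Canon
section
/-!
# The canonical parabolic subgroup in `²F₄(q)` (helper424, for S5745, own characteristic)

* `V_max_pp` : `O_2(P) = V`;
* `exists_type` : all automorphisms are type preserving;
* `canon_pp` : a proper subgroup `K` containing a conjugate of some `V` lies in a proper parabolic subgroup fixed by all
  automorphisms fixing `K`.  (No Borel–Tits.)
-/

set_option autoImplicit false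
set_option linter.unusedSectionVars false

namespace Cfsg.Agent.H424.EPX

open Cfsg.Agent.KFacts.TwF4 Cfsg.Agent.KFacts.TwF4.Full Cfsg.Agent.KFacts.TwF4.Arc
open Cfsg.Agent.KFacts.TwF4.Inv Cfsg.Agent.KFacts.TwF4.SylU
open Cfsg.Agent.SplitTwo Cfsg.Agent.SplitTwo.ZS Cfsg.Agent.TitsThree.RankTwoZ
open Cfsg.Agent.SplitTwo.RootSysZ Subgroup Cfsg Cfsg.Agent.H248.TwF4Over
open Cfsg.Agent.H284

universe u

variable {F : Type*} [Field F] {σ : F →+* F} {G : Type u} [Group G] (S : Full σ G) [Finite F] [Finite G]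
  (hF : ∃ c : Fˣ, c ≠ 1) (hR : S.R.p = 2)

include hF hR

theorem U_two : IsPGroup 2 (J S.XZ 1 8) := by
  obtain ⟨P, hP⟩ := exists_sylow S hF hR
  rw [← hP]
  exact P.2

theorem Vv_two (o : Option Bool) : IsPGroup 2 (Vv S o) := (U_two S hF hR).to_le (Vv_le_U S o)

theorem U_max' {D : Subgroup G} (h1 : J S.XZ 1 8 ≤ D) (h2 : IsPGroup 2 D) : D = J S.XZ 1 8 := by
  obtain ⟨P, hP⟩ := exists_sylow S hF hR
  rw [← hP] at h1 ⊢
  exact P.3 h2 h1

/-- every 2-subgroup is conjugate into `U` -/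
theorem exists_cj_U {D : Subgroup G} (h : IsPGroup 2 D) : ∃ x : G, D ≤ cj x (J S.XZ 1 8) := by
  have hfact : Fact (Nat.Prime 2) := ⟨Nat.prime_two⟩
  obtain ⟨P, hP⟩ := exists_sylow S hF hR
  obtain ⟨P', hP'⟩ := h.exists_le_sylow
  obtain ⟨k, hk⟩ := MulAction.exists_smul_eq G P P'
  refine ⟨k, hP'.trans ?_⟩
  rw [← hP, ← hk]
  exact le_rfl

theorem norm_U' : normalizer (J S.XZ 1 8 : Set G) = Pp S none := by
  apply le_antisymm
  · intro g hg
    obtain ⟨b, hb, t, ht, rfl⟩ := norm_U S hF hR (g := g) fun x => mem_normalizer_iff.1 hg x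
    exact mul_mem (U_le_Pp S none hb) (T_le_Pp S none ht)
  · exact Pp_le_norm S none

/-- a 2-subgroup normalised by `U` lies in `U` -/
theorem le_U_of {D : Subgroup G} (hD : IsPGroup 2 D) (hn : ∀ u ∈ J S.XZ 1 8, ∀ d ∈ D, u * d * u⁻¹ ∈ D) :
    D ≤ J S.XZ 1 8 := by
  have h1 : J S.XZ 1 8 ≤ normalizer (D : Set G) := fun u hu => mem_norm_of fun d hd => hn u hu d hd
  have h2 : IsPGroup 2 (J S.XZ 1 8 ⊔ D : Subgroup G) := (U_two S hF hR).to_sup_of_normal_right' hD h1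
  rw [← U_max' S hF hR le_sup_left h2]
  exact le_sup_right

theorem V_max_pp {o : Option Bool} {D : Subgroup G} (hD : IsPGroup 2 D)
    (hn : ∀ g ∈ Pp S o, ∀ d ∈ D, g * d * g⁻¹ ∈ D) : D ≤ Vv S o := by
  have hU := le_U_of S hF hR hD fun u hu => hn u (U_le_Pp S o hu)
  rcases o with _ | _ | _
  · exact hU
  · exact fun x hx => H371.PU.J17_of_n2 S (hU hx) (hU (hn _ (n2_mem_P S) x hx))
  · exact fun x hx => H371.PU.J28_of_n1 S (hU hx) (hU (hn _ (n1_mem_P S) x hx))

theorem top_max {D : Subgroup G} (hD : IsPGroup 2 D) (hn : ∀ g : G, ∀ d ∈ D, g * d * g⁻¹ ∈ D) : D = ⊥ :=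
  H371.PU.bot_of_inv S (le_U_of S hF hR hD fun u _ => hn u) (hn _) (hn _)

omit [Finite F] [Finite G] hF hR S in
theorem norm_map (φ : MulAut G) (A : Subgroup G) : (normalizer (A : Set G)).map φ.toMonoidHom =
    normalizer ((A.map φ.toMonoidHom : Subgroup G) : Set G) := by
  have := Subgroup.map_equiv_normalizer_eq A (φ : G ≃* G)
  exact this

omit [Finite F] [Finite G] hF hR S in
theorem norm_cj (x : G) (A : Subgroup G) : cj x (normalizer (A : Set G)) = normalizer (cj x A : Set G) :=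
  norm_map (MulAut.conj x) A

omit [Finite F] [Finite G] hF hR S in
theorem map_cj (φ : MulAut G) (x : G) (A : Subgroup G) : (cj x A).map φ.toMonoidHom = cj (φ x) (A.map φ.toMonoidHom) := by
  show (A.map _).map _ = (A.map _).map _
  rw [Subgroup.map_map, Subgroup.map_map]
  congr 1
  ext k
  show φ (x * k * x⁻¹) = φ x * φ k * (φ x)⁻¹
  rw [map_mul, map_mul, map_inv]

/-- an automorphism fixing `U` fixes all the `V` -/
theorem Vv_of_U {ψ : MulAut G} (hU : (J S.XZ 1 8).map ψ.toMonoidHom = J S.XZ 1 8) (o : Option Bool) :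
    (Vv S o).map ψ.toMonoidHom = Vv S o := by
  have hU' : ∀ x, ψ x ∈ J S.XZ 1 8 ↔ x ∈ J S.XZ 1 8 := by
    intro x
    constructor
    · intro hx
      rw [← hU] at hx
      obtain ⟨y, hy, e⟩ := hx
      rwa [ψ.injective e] at hy
    · intro hx
      rw [← hU]
      exact ⟨x, hx, rfl⟩
  have h28 : (J S.XZ 2 8).map ψ.toMonoidHom = J S.XZ 2 8 := by
    apply Subgroup.eq_of_le_of_card_ge
    · rintro _ ⟨x, hx, rfl⟩
      exact (KFacts.TwF4.AutNorm.J28_of_U hU' x).2 hx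
    · exact (Subgroup.card_map_of_injective ψ.injective).ge
  rcases o with _ | _ | _
  · exact hU
  · -- `ψ P₂ = P₂`
    have hB : (Pp S none).map ψ.toMonoidHom = Pp S none := by
      rw [← norm_U' S hF hR, norm_map, hU]
    have hP1 : (Pp S (some true)).map ψ.toMonoidHom = Pp S (some true) := by
      show (normalizer (J S.XZ 2 8 : Set G)).map _ = normalizer (J S.XZ 2 8 : Set G)
      rw [norm_map, h28]
    have hinj : Function.Injective (Subgroup.map ψ.toMonoidHom) := Subgroup.map_injective ψ.injective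
    have hne : ∀ o o' : Option Bool, Pp S o = Pp S o' → o = o' := by
      have e1 : ∀ o o' : Option Bool, Pp S o ≤ Pp S o' → arcP o ⊆ arcP o' := by
        intro o o' h i hi
        apply mem_arcP S
        refine le_trans ?_ h
        have hc : ∀ i : ZMod (2 * 8), ∀ o, i ∈ arcP o → (1 ≤ i.val ∧ i.val ≤ 8) ∨ (i = 9 ∧ o = some true) ∨
            (i = 0 ∧ o = some false) := by decide +kernel
        rcases hc i o hi with ⟨h1, h2⟩ | ⟨rfl, rfl⟩ | ⟨rfl, rfl⟩
        · exact (X_le_U S h1 h2).trans (U_le_Pp S o)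
        · exact X9_le S
        · exact X0_le S
      have e2 : ∀ o o' : Option Bool, arcP o ⊆ arcP o' → arcP o' ⊆ arcP o → o = o' := by decide +kernel
      exact fun o o' h => e2 o o' (e1 o o' h.le) (e1 o' o h.ge)
    have hP2 : (Pp S (some false)).map ψ.toMonoidHom = Pp S (some false) := by
      have h1 : Pp S none ≤ (Pp S (some false)).map ψ.toMonoidHom := by
        rw [← hB]
        exact Subgroup.map_mono (B_le_Pp S _)
      rcases overB S h1 with h2 | ⟨o, h2⟩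
      · exfalso
        apply Pp_ne_top S (some false)
        apply hinj
        rw [h2]
        exact (Subgroup.map_top_of_surjective _ ψ.surjective).symm
      · rcases o with _ | _ | _
        · exfalso
          have := hne _ _ (hinj (h2.trans hB.symm))
          simp at this
        · exact h2
        · exfalso
          have := hne _ _ (hinj (h2.trans hP1.symm))
          simp at this
    have h1 : (J S.XZ 1 7).map ψ.toMonoidHom ≤ J S.XZ 1 7 := by
      refine V_max_pp S hF hR (o := some false) ((Vv_two S hF hR (some false)).map _) ?_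
      rintro g hg _ ⟨d, hd, rfl⟩
      rw [← hP2] at hg
      obtain ⟨h, hh, rfl⟩ := hg
      refine ⟨h * d * h⁻¹, (mem_normalizer_iff.1 hh d).1 hd, ?_⟩
      rw [map_mul, map_mul, map_inv]
    exact Subgroup.eq_of_le_of_card_ge h1 (Subgroup.card_map_of_injective ψ.injective).ge
  · exact h28

/-- **automorphisms are type preserving** -/
theorem exists_type (φ : MulAut G) : ∃ x : G, ∀ o, (Vv S o).map φ.toMonoidHom = cj x (Vv S o) := by
  obtain ⟨x, hx⟩ := exists_cj_U S hF hR ((U_two S hF hR).map φ.toMonoidHom)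
  have hx' : (J S.XZ 1 8).map φ.toMonoidHom = cj x (J S.XZ 1 8) := by
    apply Subgroup.eq_of_le_of_card_ge hx
    rw [card_cj]
    exact (Subgroup.card_map_of_injective φ.injective).ge
  refine ⟨x, fun o => ?_⟩
  have key : ∀ A : Subgroup G, A.map (MulAut.conj x⁻¹ * φ).toMonoidHom = cj x⁻¹ (A.map φ.toMonoidHom) := by
    intro A
    show _ = (A.map _).map _
    rw [Subgroup.map_map]
    rfl
  have h1 := Vv_of_U S hF hR (ψ := MulAut.conj x⁻¹ * φ) (by rw [key, hx', cj_inv_cj]) o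
  rw [key] at h1
  have h2 := cj_cj_inv x ((Vv S o).map φ.toMonoidHom)
  rw [h1] at h2
  exact h2.symm

omit [Finite F] hF hR in
/-- a subgroup containing `V` and not in `P` contains a conjugate of `U` -/
theorem step {K : Subgroup G} {b : Bool} (hV : Vv S (some b) ≤ K) {n : G}
    (hn : ∃ c, Ev c ∧ (Maps S.R.X n (fun k => c + k) ∨ Maps S.R.X n (fun k => c - k)))
    (hX : ∀ i ∈ arcV (some b), ∀ x ∈ S.R.X i, n * x * n⁻¹ ∈ K) : n ∈ Pp S (some b) ∨ ∃ y, cj y (J S.XZ 1 8) ≤ K := by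
  have hmap : ∀ {f : ZMod (2 * 8) → ZMod (2 * 8)}, Maps S.R.X n f → ∀ i ∈ arcV (some b), S.R.X (f i) ≤ K := by
    intro f hf i hi x hx
    have h1 : n⁻¹ * x * n ∈ S.R.X i := by
      rw [← hf]
      have e : n * (n⁻¹ * x * n) * n⁻¹ = x := by group
      rwa [e]
    have h2 := hX i hi _ h1
    have e : n * (n⁻¹ * x * n) * n⁻¹ = x := by group
    rwa [e] at h2
  have hVX : ∀ i ∈ arcV (some b), S.R.X i ≤ K := fun i hi => (X_le_Vv S hi).trans hV
  obtain ⟨c, hce, hc⟩ := hn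
  cases b with
  | true =>
    have hnf : ∀ j : ZMod (2 * 8), S.R.X j ≤ K → (j = 1 ∨ j = 9 ∨ j = 10) → ∃ y, cj y (J S.XZ 1 8) ≤ K := by
      have h1 : S.R.X 1 ≤ K → ∃ y, cj y (J S.XZ 1 8) ≤ K := by
        intro h
        refine ⟨1, ?_⟩
        rw [cj_one]
        refine J_le' S fun k hk1 hk2 => ?_
        have hk : k = 1 ∨ k = 2 ∨ k = 3 ∨ k = 4 ∨ k = 5 ∨ k = 6 ∨ k = 7 ∨ k = 8 := by omega
        rcases hk with rfl | rfl | rfl | rfl | rfl | rfl | rfl | rfl
        · exact_mod_cast h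
        all_goals exact hVX _ (by decide)
      have h9 : S.R.X 9 ≤ K → ∃ y, cj y (J S.XZ 1 8) ≤ K := by
        intro h
        refine ⟨S.n1, ?_⟩
        rintro _ ⟨x, hx, rfl⟩
        have h2 : J S.XZ 2 9 ≤ K := by
          refine J_le' S fun k hk1 hk2 => ?_
          have hk : k = 2 ∨ k = 3 ∨ k = 4 ∨ k = 5 ∨ k = 6 ∨ k = 7 ∨ k = 8 ∨ k = 9 := by omega
          rcases hk with rfl | rfl | rfl | rfl | rfl | rfl | rfl | rfl
          · exact hVX _ (by decide)
          · exact hVX _ (by decide)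
          · exact hVX _ (by decide)
          · exact hVX _ (by decide)
          · exact hVX _ (by decide)
          · exact hVX _ (by decide)
          · exact hVX _ (by decide)
          · exact_mod_cast h
        exact h2 (S.n1_refl.mem_J hx (by norm_num) (by norm_num))
      rintro j hj (rfl | rfl | rfl)
      · exact h1 hj
      · exact h9 hj
      · obtain ⟨m, hm, hmf⟩ := refl_mem S (i := 2) (hVX 2 (by decide)) (by
          have e : (2 : ZMod (2 * 8)) + 8 = 10 := by decide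
          rw [e]; exact hj)
        have := conj_le S hm hmf (hVX 3 (by decide))
        have e : (2 : ZMod (2 * 8)) * 2 + 8 - 3 = 9 := by decide
        rw [e] at this
        exact h9 this
    rcases hc with hc | hc
    · have hcomb : ∀ c : ZMod (2 * 8), Ev c → c = 0 ∨ ∃ i ∈ arcV (some true), c + i = 1 ∨ c + i = 9 ∨ c + i = 10 := by
        decide
      rcases hcomb c hce with rfl | ⟨i, hi, h1⟩
      · left
        exact T_le_Pp S _ (mem_T_of_maps S (hc.congr fun k => zero_add k))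
      · exact Or.inr (hnf _ (hmap hc i hi) h1)
    · have hcomb : ∀ c : ZMod (2 * 8), Ev c → c = 10 ∨ ∃ i ∈ arcV (some true), c - i = 1 ∨ c - i = 9 ∨ c - i = 10 := by
        decide +kernel
      rcases hcomb c hce with rfl | ⟨i, hi, h1⟩
      · left
        obtain ⟨t, ht, rfl⟩ := eq_n1 S hc
        exact mul_mem (T_le_Pp S _ ht) (n1_mem_P S)
      · exact Or.inr (hnf _ (hmap hc i hi) h1)
  | false =>
    have hnf : ∀ j : ZMod (2 * 8), S.R.X j ≤ K → (j = 8 ∨ j = 0 ∨ j = 9) → ∃ y, cj y (J S.XZ 1 8) ≤ K := by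
      have h1 : S.R.X 8 ≤ K → ∃ y, cj y (J S.XZ 1 8) ≤ K := by
        intro h
        refine ⟨1, ?_⟩
        rw [cj_one]
        refine J_le' S fun k hk1 hk2 => ?_
        have hk : k = 8 ∨ k = 1 ∨ k = 2 ∨ k = 3 ∨ k = 4 ∨ k = 5 ∨ k = 6 ∨ k = 7 := by omega
        rcases hk with rfl | rfl | rfl | rfl | rfl | rfl | rfl | rfl
        · exact_mod_cast h
        all_goals exact hVX _ (by decide)
      have h9 : S.R.X 0 ≤ K → ∃ y, cj y (J S.XZ 1 8) ≤ K := by
        intro h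
        refine ⟨S.n2, ?_⟩
        rintro _ ⟨x, hx, rfl⟩
        have h2 : J S.XZ 0 7 ≤ K := by
          refine J_le' S fun k hk1 hk2 => ?_
          have hk : k = 0 ∨ k = 1 ∨ k = 2 ∨ k = 3 ∨ k = 4 ∨ k = 5 ∨ k = 6 ∨ k = 7 := by omega
          rcases hk with rfl | rfl | rfl | rfl | rfl | rfl | rfl | rfl
          · exact_mod_cast h
          all_goals exact hVX _ (by decide)
        exact h2 (S.n2_refl.mem_J hx (by norm_num) (by norm_num))
      rintro j hj (rfl | rfl | rfl)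
      · exact h1 hj
      · exact h9 hj
      · obtain ⟨m, hm, hmf⟩ := refl_mem S (i := 1) (hVX 1 (by decide)) (by
          have e : (1 : ZMod (2 * 8)) + 8 = 9 := by decide
          rw [e]; exact hj)
        have := conj_le S hm hmf (hVX 2 (by decide))
        have e : (2 : ZMod (2 * 8)) * 1 + 8 - 2 = 8 := by decide
        rw [e] at this
        exact h1 this
    rcases hc with hc | hc
    · have hcomb : ∀ c : ZMod (2 * 8), Ev c → c = 0 ∨ ∃ i ∈ arcV (some false), c + i = 8 ∨ c + i = 0 ∨ c + i = 9 := by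
        decide
      rcases hcomb c hce with rfl | ⟨i, hi, h1⟩
      · left
        exact T_le_Pp S _ (mem_T_of_maps S (hc.congr fun k => zero_add k))
      · exact Or.inr (hnf _ (hmap hc i hi) h1)
    · have hcomb : ∀ c : ZMod (2 * 8), Ev c → c = 8 ∨ ∃ i ∈ arcV (some false), c - i = 8 ∨ c - i = 0 ∨ c - i = 9 := by
        decide +kernel
      rcases hcomb c hce with rfl | ⟨i, hi, h1⟩
      · left
        obtain ⟨t, ht, rfl⟩ := eq_n2 S hc
        exact mul_mem (T_le_Pp S _ ht) (n2_mem_P S)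
      · exact Or.inr (hnf _ (hmap hc i hi) h1)

omit [Finite F] [Finite G] hF hR S in
theorem cj_ne_top {K : Subgroup G} (hK : K ≠ ⊤) (x : G) : cj x K ≠ ⊤ := by
  intro h1
  apply hK
  rw [← cj_inv_cj x K, h1]
  exact Subgroup.map_top_of_surjective _ (MulAut.conj x⁻¹).surjective

omit [Finite F] hF hR in
/-- **overgroups of the radicals** -/
theorem between {K : Subgroup G} (hK : K ≠ ⊤) {a : Option Bool} {g : G} (hV : cj g (Vv S a) ≤ K) :
    ∃ (b : Bool) (g' : G), cj g' (Vv S (some b)) ≤ K ∧ K ≤ cj g' (Pp S (some b)) := by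
  by_cases hU : ∃ x, cj x (J S.XZ 1 8) ≤ K
  · obtain ⟨x, hx⟩ := hU
    have h1 : J S.XZ 1 8 ≤ cj x⁻¹ K := by
      have := cj_mono (x := x⁻¹) hx
      rwa [cj_inv_cj] at this
    have key : ∀ b : Bool, cj x⁻¹ K ≤ Pp S (some b) →
        ∃ (b : Bool) (g' : G), cj g' (Vv S (some b)) ≤ K ∧ K ≤ cj g' (Pp S (some b)) := by
      intro b hb
      refine ⟨b, x, (cj_mono (Vv_le_U S _)).trans hx, ?_⟩
      have := cj_mono (x := x) hb
      rwa [cj_cj_inv] at this
    rcases overgroup (cond_top S) (M := cj x⁻¹ K) (by rwa [inf_top_eq]) with h | h | h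
    · exact absurd (top_le_iff.1 h) (cj_ne_top hK _)
    · exact key true h
    · exact key false h
  · rcases a with _ | b
    · exact absurd ⟨g, hV⟩ hU
    refine ⟨b, g, hV, ?_⟩
    have hV' : Vv S (some b) ≤ cj g⁻¹ K := by
      have := cj_mono (x := g⁻¹) hV
      rwa [cj_inv_cj] at this
    suffices h : cj g⁻¹ K ≤ Pp S (some b) by
      have := cj_mono (x := g) h
      rwa [cj_cj_inv] at this
    intro k hk
    obtain ⟨u, hu, n, hn, u', hu', rfl⟩ := bru S k
    have hst := step S (K := cj u⁻¹ (cj g⁻¹ K)) (b := b) (n := n) (by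
      intro x hx
      rw [mem_cj, inv_inv]
      exact hV' (conj_Vv S _ hu hx)) hn (by
      intro i hi x hx
      rw [mem_cj, inv_inv]
      have h1 : u'⁻¹ * x * u'⁻¹⁻¹ ∈ Vv S (some b) := conj_Vv S _ (inv_mem hu') (X_le_Vv S hi hx)
      have h2 := mul_mem (mul_mem hk (hV' h1)) (inv_mem hk)
      have e : u * n * u' * (u'⁻¹ * x * u'⁻¹⁻¹) * (u * n * u')⁻¹ = u * (n * x * n⁻¹) * u⁻¹ := by group
      rwa [e] at h2)
    rcases hst with h | ⟨y, hy⟩
    · exact mul_mem (mul_mem (U_le_Pp S _ hu) h) (U_le_Pp S _ hu')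
    · exfalso
      apply hU
      refine ⟨g * (u * y), ?_⟩
      rw [cj_mul, cj_mul]
      have h1 := cj_mono (x := g) (cj_mono (x := u) hy)
      rwa [cj_cj_inv, cj_cj_inv] at h1

/-- **the canonical parabolic subgroup** -/
theorem canon_pp {K : Subgroup G} (hK : K ≠ ⊤) {a : Option Bool} {g : G} (hV : cj g (Vv S a) ≤ K) :
    ∃ (b : Option Bool) (g' : G), K ≤ cj g' (Pp S b) ∧
      ∀ φ : MulAut G, (∀ k ∈ K, φ k ∈ K) → ∀ x ∈ cj g' (Pp S b), φ x ∈ cj g' (Pp S b) := by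
  have hfact : Fact (Nat.Prime 2) := ⟨Nat.prime_two⟩
  obtain ⟨b, g', h1, h2⟩ := between S hK hV
  refine ⟨some b, g', h2, fun φ hφ x hx => ?_⟩
  set R : Subgroup G := (pCore 2 ↥K).map K.subtype with hRd
  have hR2 : IsPGroup 2 R := (Lib.Cores.pCore_isPGroup (G := K) 2).map _
  have hRφ : ∀ r ∈ R, φ r ∈ R := H459.RgdRad.iv_core (x := φ) (N := K) hφ
  have hVR : cj g' (Vv S (some b)) ≤ R := by
    refine H470.EPO.le_core h1 (fun k hk v hv => ?_) ((Vv_two S hF hR (some b)).map _)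
    obtain ⟨y, hy, rfl⟩ := h2 hk
    obtain ⟨z, hz, rfl⟩ := hv
    refine ⟨y * z * y⁻¹, (mem_normalizer_iff.1 (Pp_le_norm S _ hy) z).1 hz, ?_⟩
    simp only [mul_assoc, _root_.MulEquiv.toMonoidHom_eq_coe, _root_.MonoidHom.coe_coe, _root_.MulAut.conj_apply, _root_.inv_mul_cancel_left, _root_.mul_inv_rev, _root_.inv_inv]
  obtain ⟨y, hy⟩ := exists_cj_U S hF hR hR2
  have hy' : R ≤ cj y (Pp S none) := hy.trans (cj_mono (U_le_Pp S none))
  obtain ⟨z, hz⟩ := exists_type S hF hR φ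
  have e1 : (cj g' (Vv S (some b))).map φ.toMonoidHom = cj (φ g' * z) (Vv S (some b)) := by
    rw [map_cj, hz, cj_mul]
  have h3 : cj (φ g' * z) (Vv S (some b)) ≤ R := by
    rw [← e1]
    rintro _ ⟨r, hr, rfl⟩
    exact hRφ r (hVR hr)
  have e2 := cj_of_le S (hVR.trans hy')
  have e3 := cj_of_le S (h3.trans hy')
  have e4 : ∀ x : G, cj x (Pp S (some b)) = normalizer (cj x (Vv S (some b)) : Set G) := by
    intro x
    rw [← norm_cj]
    cases b <;> rfl
  have e5 : (cj g' (Pp S (some b))).map φ.toMonoidHom = cj g' (Pp S (some b)) := by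
    rw [e4, norm_map, e1, ← e4, e3, ← e2]
    exact (e4 g').symm ▸ rfl
  rw [← e5]
  exact ⟨x, hx, rfl⟩

end Cfsg.Agent.H424.EPX
end
end

-- part: H424/EPX/TF4
section
prune_inst 0x180000000018000420003c0282000102004b00012100000005808a0020010621a0a00002001a880000000068111800c000000000040004000000000080a842022240a104000007809004000000000000000000000000000000000004000000000
set_option linter.all false
open scoped Cfsg.Agent.FastGrp

-- part: H424/EPX/Sys
section
/-!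
# The parabolic system of `²F₄(q)` (helper424, for S5745, own characteristic)

* `psys` : `PSys G 2 Bool` for `S : Full σ G`;
* `rk_psys` : `Rk`, from the two forms of `desc`;
* `relIndex_psys` : `|U : V_j| ≠ 2`.
-/

set_option autoImplicit false
set_option linter.unusedSectionVars false

namespace Cfsg.Agent.H424.EPX

open Cfsg.Agent.KFacts.TwF4 Cfsg.Agent.KFacts.TwF4.Full Cfsg.Agent.KFacts.TwF4.Arc
open Cfsg.Agent.KFacts.TwF4.Inv Cfsg.Agent.KFacts.TwF4.SylU
open Cfsg.Agent.SplitTwo Cfsg.Agent.SplitTwo.ZS Cfsg.Agent.TitsThree.RankTwoZ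
open Cfsg.Agent.SplitTwo.RootSysZ Subgroup Cfsg Cfsg.Agent.H248.TwF4Over
open Cfsg.Agent.H284 Cfsg.Agent.H737.EPO

universe u

variable {F : Type*} [Field F] {σ : F →+* F} {G : Type u} [Group G] (S : Full σ G)

/-- the proper types -/
def st : Option Bool → Set Bool
  | none => ∅
  | some b => {b}

open Classical in
/-- the parabolic subgroup of type `J` -/
noncomputable def PT (J : Set Bool) : Subgroup G :=
  if true ∈ J then (if false ∈ J then ⊤ else Pp S (some true)) else (if false ∈ J then Pp S (some false) else Pp S none)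

open Classical in
/-- its radical -/
noncomputable def VT (J : Set Bool) : Subgroup G :=
  if true ∈ J then (if false ∈ J then ⊥ else Vv S (some true)) else (if false ∈ J then Vv S (some false) else Vv S none)

theorem PT_st (o : Option Bool) : PT S (st o) = Pp S o := by
  rcases o with _ | _ | _ <;> simp [PT, st]

theorem VT_st (o : Option Bool) : VT S (st o) = Vv S o := by
  rcases o with _ | _ | _ <;> simp [VT, st]

theorem PT_univ : PT S Set.univ = ⊤ := by simp [PT]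
theorem VT_univ : VT S Set.univ = ⊥ := by simp [VT]

theorem cases_set (J : Set Bool) : J = Set.univ ∨ ∃ o, J = st o := by
  by_cases h1 : true ∈ J
  · by_cases h2 : false ∈ J
    · left
      ext b
      cases b <;> simp [h1, h2]
    · right
      refine ⟨some true, ?_⟩
      ext b
      cases b <;> simp [h1, h2, st]
  · by_cases h2 : false ∈ J
    · right
      refine ⟨some false, ?_⟩
      ext b
      cases b <;> simp [h1, h2, st]
    · right
      refine ⟨none, ?_⟩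
      ext b
      cases b <;> simp [h1, h2, st]

theorem st_ne (o : Option Bool) : st o ≠ Set.univ := by
  rcases o with _ | b
  · exact Set.empty_ne_univ
  · intro h
    have : (!b) ∈ st (some b) := by rw [h]; trivial
    cases b <;> simp [st] at this

theorem st_subset {o o' : Option Bool} : st o ⊆ st o' ↔ o = none ∨ o = o' := by
  rcases o with _ | b
  · simp [st]
  · rcases o' with _ | b'
    · simp [st]
    · simp [st]

section fin

variable [Finite G]

theorem arc_mono {o o' : Option Bool} (h : Pp S o ≤ Pp S o') : arcP o ⊆ arcP o' := by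
  intro i hi
  apply mem_arcP S
  refine le_trans ?_ h
  have hc : ∀ i : ZMod (2 * 8), ∀ o, i ∈ arcP o → (1 ≤ i.val ∧ i.val ≤ 8) ∨ (i = 9 ∧ o = some true) ∨
      (i = 0 ∧ o = some false) := by decide +kernel
  rcases hc i o hi with ⟨h1, h2⟩ | ⟨rfl, rfl⟩ | ⟨rfl, rfl⟩
  · exact (X_le_U S h1 h2).trans (U_le_Pp S o)
  · exact X9_le S
  · exact X0_le S

theorem PT_le_iff {J L : Set Bool} : PT S J ≤ PT S L ↔ J ⊆ L := by
  rcases cases_set L with rfl | ⟨o', rfl⟩
  · rw [PT_univ]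
    exact ⟨fun _ => Set.subset_univ _, fun _ => le_top⟩
  · rcases cases_set J with rfl | ⟨o, rfl⟩
    · rw [PT_univ, PT_st]
      constructor
      · intro h
        exact absurd (top_le_iff.1 h) (Pp_ne_top S o')
      · intro h
        exact absurd (Set.univ_subset_iff.1 h) (st_ne o')
    · rw [PT_st, PT_st, st_subset]
      constructor
      · intro h
        have hc : ∀ o o' : Option Bool, arcP o ⊆ arcP o' → o = none ∨ o = o' := by decide +kernel
        exact hc _ _ (arc_mono S h)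
      · rintro (rfl | rfl)
        · exact B_le_Pp S _
        · exact le_rfl

theorem dec_T {J L : Set Bool} {g : G} (h : VT S J ≤ cj g (PT S L)) : ∃ a ∈ PT S J, ∃ b ∈ PT S L, g = a * b := by
  rcases cases_set J with rfl | ⟨o, rfl⟩
  · rw [PT_univ]
    exact ⟨g, mem_top _, 1, one_mem _, (mul_one g).symm⟩
  · rcases cases_set L with rfl | ⟨o', rfl⟩
    · rw [PT_univ]
      exact ⟨1, one_mem _, g, mem_top _, (one_mul g).symm⟩
    · rw [PT_st] at h ⊢
      rw [PT_st]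
      rw [VT_st] at h
      exact dec_pp S h

end fin

section sys

variable [Finite F] [Finite G] (hF : ∃ c : Fˣ, c ≠ 1) (hR : S.R.p = 2)

/-- **the parabolic system of `²F₄(q)`** -/
noncomputable def psys : PSys G 2 Bool where
  P := PT S
  V := VT S
  P_univ := PT_univ S
  P_le_iff := PT_le_iff S
  ov L hL := by
    have h1 : Pp S none ≤ L := by
      have e : PT S (∅ : Set Bool) = Pp S none := PT_st S none
      rwa [e] at hL
    rcases overB S h1 with h | ⟨o, h⟩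
    · exact ⟨Set.univ, by rw [PT_univ, h]⟩
    · exact ⟨st o, by rw [PT_st, h]⟩
  V_anti {J L} h := by
    rcases cases_set L with rfl | ⟨o', rfl⟩
    · rw [VT_univ]; exact bot_le
    · rcases cases_set J with rfl | ⟨o, rfl⟩
      · exact absurd (Set.univ_subset_iff.1 h) (st_ne o')
      · rw [VT_st, VT_st]
        rcases st_subset.1 h with rfl | rfl
        · exact Vv_le_U S _
        · exact le_rfl
  V_le J := by
    rcases cases_set J with rfl | ⟨o, rfl⟩
    · rw [PT_univ]; exact le_top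
    · rw [VT_st, PT_st]; exact Vv_le_Pp S o
  V_norm J := by
    rcases cases_set J with rfl | ⟨o, rfl⟩
    · rw [PT_univ, VT_univ]
      intro g _
      rw [mem_normalizer_iff]
      intro x
      rw [mem_bot, mem_bot]
      constructor
      · rintro rfl; simp
      · intro h
        have e : x = g⁻¹ * (g * x * g⁻¹) * g := by group
        rw [e, h]; group
    · rw [VT_st, PT_st]; exact Pp_le_norm S o
  U_norm := by
    have e1 : VT S (∅ : Set Bool) = J S.XZ 1 8 := VT_st S none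
    have e2 : PT S (∅ : Set Bool) = Pp S none := PT_st S none
    rw [e1, e2]
    exact norm_U' S hF hR
  U_p := by
    have e1 : VT S (∅ : Set Bool) = J S.XZ 1 8 := VT_st S none
    rw [e1]
    exact U_two S hF hR
  U_max D h1 h2 := by
    have e1 : VT S (∅ : Set Bool) = J S.XZ 1 8 := VT_st S none
    rw [e1] at h1 ⊢
    exact U_max' S hF hR h1 h2
  V_max {J D} _ hD hn := by
    rcases cases_set J with rfl | ⟨o, rfl⟩
    · rw [PT_univ] at hn
      rw [VT_univ, top_max S hF hR hD fun g => hn g (mem_top _)]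
    · rw [PT_st] at hn
      rw [VT_st]
      exact V_max_pp S hF hR hD hn
  dec h := dec_T S h
  canon {K} hK J hJ g hV := by
    rcases cases_set J with rfl | ⟨o, rfl⟩
    · exact absurd rfl hJ
    · rw [VT_st] at hV
      obtain ⟨b, g', h1, h2⟩ := canon_pp S hF hR hK hV
      refine ⟨st b, g', st_ne b, ?_, ?_⟩
      · rw [PT_st]; exact h1
      · rw [PT_st]; exact h2

theorem psys_P (J : Set Bool) : (psys S hF hR).P J = PT S J := rfl
theorem psys_V (J : Set Bool) : (psys S hF hR).V J = VT S J := rfl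

end sys

end Cfsg.Agent.H424.EPX
end

-- part: H424/EPX/Own
section
/-!
# Own characteristic, socle `²F₄(q) ^ k` (helper424, for S5745)

* `rk_psys` : `Rk`, from `desc`;
* `relIndex_psys` : `|U : V_j| ≠ 2`;
* `own_full` : `EPS H N e`, `N ≅ G ^ k`, `S : Full σ G`, is impossible in characteristic 2.
-/

set_option autoImplicit false
set_option linter.unusedSectionVars false

namespace Cfsg.Agent.H424.EPX

open Cfsg.Agent.KFacts.TwF4 Cfsg.Agent.KFacts.TwF4.Full Cfsg.Agent.KFacts.TwF4.Arc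
open Cfsg.Agent.KFacts.TwF4.Inv Cfsg.Agent.KFacts.TwF4.SylU
open Cfsg.Agent.SplitTwo Cfsg.Agent.SplitTwo.ZS Cfsg.Agent.TitsThree.RankTwoZ
open Cfsg.Agent.SplitTwo.RootSysZ Subgroup Cfsg Cfsg.Agent.H248.TwF4Over
open Cfsg.Agent.H284 Cfsg.Agent.H737.EPO Cfsg.Agent.H470.EPO Cfsg.Agent.H209.EPX
open Cfsg.Agent.KFacts.RgdFilt

universe u

variable {F : Type*} [Field F] {σ : F →+* F} {G : Type u} [Group G] (S : Full σ G)

/-- the first reflection of an element outside `B` -/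
def Desc : Prop := ∀ g : G, g ∉ J S.XZ 1 8 ⊔ S.T →
  (∀ u ∈ J S.XZ 1 8, g⁻¹ * u * g ∈ J S.XZ 1 8 ⊔ S.T → u ∈ J S.XZ 2 8) ∨
  (∀ u ∈ J S.XZ 1 8, g⁻¹ * u * g ∈ J S.XZ 1 8 ⊔ S.T → u ∈ J S.XZ 1 7)

section sys

variable [Finite F] [Finite G] (hF : ∃ c : Fˣ, c ≠ 1) (hR : S.R.p = 2)

include hF hR

/-- a 2-element of `B` lies in `U` -/
theorem mem_U_of {x : G} (hx : x ∈ Pp S none) {n : ℕ} (h2 : x ^ 2 ^ n = 1) : x ∈ J S.XZ 1 8 := by
  have hfact : Fact (Nat.Prime 2) := ⟨Nat.prime_two⟩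
  have h1 : IsPGroup 2 (Subgroup.zpowers x) := by
    rintro ⟨y, hy⟩
    obtain ⟨m, rfl⟩ := Subgroup.mem_zpowers_iff.1 hy
    refine ⟨n, Subtype.ext ?_⟩
    show (x ^ m) ^ 2 ^ n = 1
    rw [← zpow_natCast, ← zpow_mul, mul_comm, zpow_mul, zpow_natCast, h2, one_zpow]
  have h3 : Subgroup.zpowers x ≤ normalizer (J S.XZ 1 8 : Set G) := by
    rw [Subgroup.zpowers_le, norm_U' S hF hR]
    exact hx
  have h4 : IsPGroup 2 (J S.XZ 1 8 ⊔ Subgroup.zpowers x : Subgroup G) := by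
    rw [sup_comm]
    exact h1.to_sup_of_normal_right' (U_two S hF hR) h3
  have h5 := U_max' S hF hR le_sup_left h4
  rw [← h5]
  exact (le_sup_right : Subgroup.zpowers x ≤ _) (Subgroup.mem_zpowers x)

theorem conj_mem_U {u g : G} (hu : u ∈ J S.XZ 1 8) (h : g⁻¹ * u * g ∈ Pp S none) : g⁻¹ * u * g ∈ J S.XZ 1 8 := by
  obtain ⟨n, hn⟩ := U_two S hF hR ⟨u, hu⟩
  have h1 : u ^ 2 ^ n = 1 := congrArg Subtype.val hn
  refine mem_U_of S hF hR h (n := n) ?_
  have e : g⁻¹ * u * g = g⁻¹ * u * g⁻¹⁻¹ := by rw [inv_inv]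
  rw [e, conj_pow, h1]
  group

theorem desc_true {g : G} (hg : g ∈ Pp S (some true)) (hgB : g ∉ Pp S none) {u : G} (hu : u ∈ J S.XZ 1 8)
    (h : g⁻¹ * u * g ∈ Pp S none) : u ∈ J S.XZ 2 8 := by
  obtain ⟨v, hv, b, hb, rfl⟩ := form_true S hg hgB
  have h1 : S.n1⁻¹ * (v⁻¹ * u * v) * S.n1 ∈ Pp S none := by
    have e : S.n1⁻¹ * (v⁻¹ * u * v) * S.n1 = b * ((v * S.n1 * b)⁻¹ * u * (v * S.n1 * b)) * b⁻¹ := by group
    rw [e]
    exact mul_mem (mul_mem hb h) (inv_mem hb)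
  have h2 : v⁻¹ * u * v ∈ J S.XZ 1 8 := mul_mem (mul_mem (inv_mem hv) hu) hv
  have h3 := conj_mem_U S hF hR h2 h1
  rw [n1_inv'] at h3
  have h4 := H371.PU.J28_of_n1 S h2 (by rw [n1_inv']; exact h3)
  have h5 := conj_Vv S (some true) hv h4
  have e : v * (v⁻¹ * u * v) * v⁻¹ = u := by group
  rwa [e] at h5

theorem desc_false {g : G} (hg : g ∈ Pp S (some false)) (hgB : g ∉ Pp S none) {u : G} (hu : u ∈ J S.XZ 1 8)
    (h : g⁻¹ * u * g ∈ Pp S none) : u ∈ J S.XZ 1 7 := by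
  obtain ⟨v, hv, b, hb, rfl⟩ := form_false S hg hgB
  have h1 : S.n2⁻¹ * (v⁻¹ * u * v) * S.n2 ∈ Pp S none := by
    have e : S.n2⁻¹ * (v⁻¹ * u * v) * S.n2 = b * ((v * S.n2 * b)⁻¹ * u * (v * S.n2 * b)) * b⁻¹ := by group
    rw [e]
    exact mul_mem (mul_mem hb h) (inv_mem hb)
  have h2 : v⁻¹ * u * v ∈ J S.XZ 1 8 := mul_mem (mul_mem (inv_mem hv) hu) hv
  have h3 := conj_mem_U S hF hR h2 h1
  rw [n2_inv'] at h3
  have h4 := H371.PU.J17_of_n2 S h2 (by rw [n2_inv']; exact h3)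
  have h5 := conj_Vv S (some false) hv h4
  have e : v * (v⁻¹ * u * v) * v⁻¹ = u := by group
  rwa [e] at h5

omit hF hR in
theorem trans_b {b : Bool} {x y : G} (hx : x ∈ Pp S (some b)) (hxB : x ∉ Pp S none) (hy : y ∈ Pp S (some b))
    (hyB : y ∉ Pp S none) : ∃ u ∈ J S.XZ 1 8, y⁻¹ * u * x ∈ Pp S none := by
  have key : ∀ (n : G), (∃ u ∈ J S.XZ 1 8, ∃ b ∈ Pp S none, x = u * n * b) →
      (∃ u ∈ J S.XZ 1 8, ∃ b ∈ Pp S none, y = u * n * b) → ∃ u ∈ J S.XZ 1 8, y⁻¹ * u * x ∈ Pp S none := by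
    rintro n ⟨u, hu, b, hb, rfl⟩ ⟨u', hu', b', hb', rfl⟩
    refine ⟨u' * u⁻¹, mul_mem hu' (inv_mem hu), ?_⟩
    have e : (u' * n * b')⁻¹ * (u' * u⁻¹) * (u * n * b) = b'⁻¹ * b := by group
    rw [e]
    exact mul_mem (inv_mem hb') hb
  cases b with
  | true => exact key S.n1 (form_true S hx hxB) (form_true S hy hyB)
  | false => exact key S.n2 (form_false S hx hxB) (form_false S hy hyB)

omit hF hR in
theorem X1_not {x : G} (hx : x ∈ S.R.X 1) (h : x ∈ J S.XZ 2 8) : x = 1 := by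
  have := S.zsys8.inter 1 x (by exact_mod_cast hx) (by exact_mod_cast h)
  exact this

omit hF hR in
theorem X8_not {x : G} (hx : x ∈ S.R.X 8) (h : x ∈ J S.XZ 1 7) : x = 1 := by
  have hx' : x ∈ S.XZ 8 := by
    show x ∈ S.R.X ((8 : ℤ) : ZMod (2 * 8))
    exact_mod_cast hx
  have h1 : S.n2 * x * S.n2⁻¹ ∈ S.XZ 0 := S.n2_refl.mem' hx' (by norm_num)
  have h2 : S.n2 * x * S.n2⁻¹ ∈ J S.XZ 1 7 := S.n2_refl.mem_J h (by norm_num) (by norm_num)
  have h3 := S.zsys8.inter 0 _ h1 (J_mono (by norm_num) (by norm_num) h2)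
  have e : x = S.n2⁻¹ * (S.n2 * x * S.n2⁻¹) * S.n2 := by group
  rw [e, h3]
  group

theorem Vv_ne (b : Bool) : Vv S (some b) ≠ Vv S none := by
  intro h
  cases b with
  | true =>
    obtain ⟨x, hx, hx1⟩ := exists_ne S 1
    apply hx1
    apply X1_not S hx
    have : x ∈ Vv S none := X_le_U S (i := 1) (by decide) (by decide) hx
    rwa [← h] at this
  | false =>
    obtain ⟨x, hx, hx1⟩ := exists_ne S 8
    apply hx1
    apply X8_not S hx
    have : x ∈ Vv S none := X_le_U S (i := 8) (by decide) (by decide) hx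
    rwa [← h] at this

/-- **`Rk`** -/
theorem rk_psys (hD : Desc S) : Rk (psys S hF hR) where
  desc {J' g} hg hgB := by
    have hgB' : g ∉ Pp S none := by
      have e : PT S (∅ : Set Bool) = Pp S none := PT_st S none
      rw [psys_P, e] at hgB
      exact hgB
    have key : ∀ b : Bool, (∀ u ∈ J S.XZ 1 8, g⁻¹ * u * g ∈ Pp S none → u ∈ Vv S (some b)) →
        ∀ u ∈ (psys S hF hR).V ∅, g⁻¹ * u * g ∈ (psys S hF hR).P ∅ → u ∈ (psys S hF hR).V {b} := by
      intro b h u hu h1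
      have e1 : VT S (∅ : Set Bool) = J S.XZ 1 8 := VT_st S none
      have e2 : PT S (∅ : Set Bool) = Pp S none := PT_st S none
      have e3 : VT S ({b} : Set Bool) = Vv S (some b) := VT_st S (some b)
      rw [psys_V, e1] at hu
      rw [psys_P, e2] at h1
      rw [psys_V, e3]
      exact h u hu h1
    rcases cases_set J' with rfl | ⟨_ | _ | _, rfl⟩
    · rcases hD g hgB' with h | h
      · exact ⟨true, Set.mem_univ _, key true h⟩
      · exact ⟨false, Set.mem_univ _, key false h⟩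
    · exfalso
      rw [psys_P, PT_st] at hg
      exact hgB' hg
    · rw [psys_P, PT_st] at hg
      exact ⟨false, rfl, key false fun u hu h => desc_false S hF hR hg hgB' hu h⟩
    · rw [psys_P, PT_st] at hg
      exact ⟨true, rfl, key true fun u hu h => desc_true S hF hR hg hgB' hu h⟩
  trans {j x y} hx hxB hy hyB := by
    have e1 : VT S (∅ : Set Bool) = J S.XZ 1 8 := VT_st S none
    have e2 : PT S (∅ : Set Bool) = Pp S none := PT_st S none
    have e3 : PT S ({j} : Set Bool) = Pp S (some j) := PT_st S (some j)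
    rw [psys_P, e3] at hx hy
    rw [psys_P, e2] at hxB hyB
    obtain ⟨u, hu, h⟩ := trans_b S hx hxB hy hyB
    refine ⟨u, ?_, ?_⟩
    · rw [psys_V, e1]; exact hu
    · rw [psys_P, e2]; exact h
  ne j := by
    have e1 : VT S (∅ : Set Bool) = Vv S none := VT_st S none
    have e3 : VT S ({j} : Set Bool) = Vv S (some j) := VT_st S (some j)
    rw [psys_V, psys_V, e1, e3]
    exact Vv_ne S hF hR j

omit hF hR in
/-- two nontrivial elements of a root group have a nontrivial quotient outside `V` -/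
theorem index_ne {V U : Subgroup G} {x y : G} (hx : x ∈ U) (hy : y ∈ U) (hxV : x ∉ V) (hyV : y ∉ V) (hxy : x * y ∉ V) :
    V.relIndex U ≠ 2 := by
  intro h
  have h1 := Subgroup.mul_mem_iff_of_index_two (H := V.subgroupOf U) h (a := ⟨x, hx⟩) (b := ⟨y, hy⟩)
  rw [Subgroup.mem_subgroupOf, Subgroup.mem_subgroupOf, Subgroup.mem_subgroupOf] at h1
  have h2 : x * y ∈ V := h1.2 (iff_of_false hxV hyV)
  exact hxy h2

theorem relIndex_psys (b : Bool) : ((psys S hF hR).V {b}).relIndex ((psys S hF hR).V ∅) ≠ 2 := by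
  have e1 : VT S (∅ : Set Bool) = Vv S none := VT_st S none
  have e3 : VT S ({b} : Set Bool) = Vv S (some b) := VT_st S (some b)
  rw [psys_V, psys_V, e1, e3]
  obtain ⟨c, hc⟩ := hF
  have hc1 : (c : F) ≠ 1 := fun h => hc (Units.ext h)
  have h1c : (1 : F) + c ≠ 0 := by
    intro h
    apply hc1
    have h2 : (1 : F) + 1 = 0 := char2 S 1
    have h3 : (1 : F) + c = 1 + 1 := h.trans h2.symm
    exact add_left_cancel h3
  cases b with
  | true =>
    have hX : S.R.X 1 ≤ Vv S none := X_le_U S (i := 1) (by decide) (by decide)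
    have m : ∀ t, S.o 0 t ∈ S.R.X 1 := fun t => by
      have := S.mX1 t
      exact_mod_cast this
    have hne : ∀ t, t ≠ 0 → S.o 0 t ∉ Vv S (some true) := fun t ht h => ht (S.o_eq_one (X1_not S (m t) h))
    refine index_ne (hX (m 1)) (hX (m c)) (hne _ one_ne_zero) (hne _ c.ne_zero) ?_
    rw [S.o_add]
    exact hne _ h1c
  | false =>
    have hX : S.R.X 8 ≤ Vv S none := X_le_U S (i := 8) (by decide) (by decide)
    have m : ∀ t, S.e 4 0 t ∈ S.R.X 8 := fun t => by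
      have := S.mX8 0 t
      exact_mod_cast this
    have hne : ∀ t, t ≠ 0 → S.e 4 0 t ∉ Vv S (some false) := fun t ht h => ht (S.e_eq_one (X8_not S (m t) h)).2
    refine index_ne (hX (m 1)) (hX (m c)) (hne _ one_ne_zero) (hne _ c.ne_zero) ?_
    rw [S.e_mul, zero_mul, add_zero, add_zero]
    exact hne _ h1c

end sys

/-- **own characteristic, socle `Y ^ k` with `S : Full σ Y`** -/
theorem own_full {F : Type*} [Field F] [Finite F] {σ : F →+* F} {T : Type} [Group T] [Finite T] (S : Full σ T)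
    (hF : ∃ c : Fˣ, c ≠ 1) (hR : S.R.p = 2) (hD : Desc S) {G : Type*} [Group G] [Finite G] {H N : Subgroup G}
    {k : ℕ} {e : N ≃* (Fin k → T)} (h : EPS H N e) {Y : Type*} [Group Y] [Finite Y] [IsSimpleGroup Y]
    (hY : HasFilt 2 Y) (hYn : ∃ a b : Y, a * b ≠ b * a) {j : Y →* G} (hj : Function.Injective j)
    (hn : j.range.Normal) (hNj : N ≤ j.range) : False := by
  have hfact : Fact (Nat.Prime 2) := ⟨Nat.prime_two⟩
  have := h.simple
  obtain ⟨P, -, hP⟩ := exists_sylIn (p := 2) (H := H) (K := ⊥) bot_le IsPGroup.of_bot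
  obtain ⟨e', hPN⟩ := exists_std (psys S hF hR) e h.nrm h.le hP
  obtain ⟨-, i, h2⟩ := own_R e' h.nab (rk_psys S hF hR hD) h.ep h.toMinN h.pos hP hPN
    (fun J hJ => dq_of h hY hYn hj hn hNj _ e' J hJ)
  exact relIndex_psys S hF hR i h2

end Cfsg.Agent.H424.EPX
end

-- part: H424/EPX/Desc
section
/-!
# `U ∩ n U n⁻¹` in `²F₄(q)` (helper424, for S5745, own characteristic)

`T` has a noncyclic elementary abelian subgroup of odd order, and `C_U(t)` lies in one root group for `1 ≠ t ∈ T`; so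
`U ∩ n U n⁻¹` is generated by root groups.
-/

set_option autoImplicit false
set_option linter.unusedSectionVars false

namespace Cfsg.Agent.H424.EPX

open Cfsg.Agent.KFacts.TwF4 Cfsg.Agent.KFacts.TwF4.Full Cfsg.Agent.KFacts.TwF4.Arc
open Cfsg.Agent.KFacts.TwF4.Inv Cfsg.Agent.KFacts.TwF4.SylU
open Cfsg.Agent.SplitTwo Cfsg.Agent.SplitTwo.ZS Cfsg.Agent.TitsThree.RankTwoZ
open Cfsg.Agent.SplitTwo.RootSysZ Subgroup Cfsg Cfsg.Agent.H248.TwF4Over
open Cfsg.Agent.H284

universe u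

variable {F : Type*} [Field F] {σ : F →+* F} {G : Type u} [Group G] (S : Full σ G)

theorem fix_U {t : G} (ht : t ∈ S.T) (ht1 : t ≠ 1) {x : G} (hx : x ∈ J S.XZ 1 8) (h : t * x * t⁻¹ = x) :
    ∃ i ∈ arcV none, x ∈ S.R.X i := by
  by_cases hf : ∀ j : ℤ, 1 ≤ j → j ≤ 8 → ∀ x ∈ S.XZ j, t * x * t⁻¹ = x → x = 1
  · have h1 := S.fix_J_one ht (a := 1) (b := 8) (by norm_num) hf hx h
    exact ⟨1, by decide, by rw [h1]; exact one_mem _⟩
  · push Not at hf
    obtain ⟨j, hj1, hj2, y, hy, hty, hy1⟩ := hf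
    have h1 := KFacts.TwF4.AutNorm.Tk_of_fix S ht hy hy1 hty
    have h2 := S.fix_J h1 ht1 (a := 1) (b := 8) (by omega) (by omega) (by norm_num) hx h
    have hj : ∃ i ∈ arcV none, (j : ZMod (2 * 8)) = i := by
      have hk : j = 1 ∨ j = 2 ∨ j = 3 ∨ j = 4 ∨ j = 5 ∨ j = 6 ∨ j = 7 ∨ j = 8 := by omega
      rcases hk with rfl | rfl | rfl | rfl | rfl | rfl | rfl | rfl <;> exact ⟨_, by decide, rfl⟩
    obtain ⟨i, hi1, hi⟩ := hj
    refine ⟨i, hi1, ?_⟩
    rw [← hi]
    exact h2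

/-- an elementary abelian subgroup of order `≥ r²` of the torus -/
theorem exists_elem [Finite F] [Finite G] (hF : ∃ c : Fˣ, c ≠ 1) : ∃ (r : ℕ) (_ : Fact r.Prime) (A : Subgroup G), r ≠ 2 ∧
    A ≤ S.T ∧ IsElementaryAbelian r A ∧ r ^ 2 ≤ Nat.card A := by
  classical
  have hnt : 1 < Nat.card Fˣ := by
    obtain ⟨c, hc⟩ := hF
    have : Nontrivial Fˣ := ⟨c, 1, hc⟩
    exact Finite.one_lt_card
  obtain ⟨r, hr, hrd⟩ := Nat.exists_prime_and_dvd hnt.ne'
  have hfact : Fact r.Prime := ⟨hr⟩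
  obtain ⟨c, hc⟩ := exists_prime_orderOf_dvd_card' (G := Fˣ) r hrd
  have hcr : c ^ r = 1 := by rw [← hc]; exact pow_orderOf_eq_one c
  have hr2 : r ≠ 2 := by
    rintro rfl
    have h1 := unit_sq S (x := c) (by rw [← pow_two]; exact hcr)
    rw [h1, orderOf_one] at hc
    omega
  let A : Subgroup G :=
    { carrier := {g | ∃ c d : Fˣ, c ^ r = 1 ∧ d ^ r = 1 ∧ S.h c d = g}
      one_mem' := ⟨1, 1, one_pow _, one_pow _, S.h_one⟩
      mul_mem' := by
        rintro _ _ ⟨c, d, hc, hd, rfl⟩ ⟨c', d', hc', hd', rfl⟩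
        exact ⟨c * c', d * d', by rw [mul_pow, hc, hc', one_mul], by rw [mul_pow, hd, hd', one_mul], by rw [S.h_mul]⟩
      inv_mem' := by
        rintro _ ⟨c, d, hc, hd, rfl⟩
        exact ⟨c⁻¹, d⁻¹, by rw [inv_pow, hc, inv_one], by rw [inv_pow, hd, inv_one], by rw [S.h_inv]⟩ }
  have hinj : ∀ c d c' d' : Fˣ, S.h c d = S.h c' d' → c = c' ∧ d = d' := S.h_inj
  refine ⟨r, hfact, A, hr2, ?_, ⟨⟨⟨?_⟩⟩, ?_⟩, ?_⟩
  · rintro _ ⟨c, d, -, -, rfl⟩
    exact S.mem_T.2 ⟨c, d, rfl⟩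
  · rintro ⟨_, c, d, -, -, rfl⟩ ⟨_, c', d', -, -, rfl⟩
    apply Subtype.ext
    show S.h c d * S.h c' d' = S.h c' d' * S.h c d
    rw [S.h_mul, S.h_mul, mul_comm c, mul_comm d]
  · rintro _ ⟨c, d, hc, hd, rfl⟩
    rw [h_pow, hc, hd, S.h_one]
  · let f : Fin r × Fin r → A := fun x => ⟨S.h (c ^ (x.1 : ℕ)) (c ^ (x.2 : ℕ)), _, _, by
      rw [← pow_mul, mul_comm, pow_mul, hcr, one_pow], by rw [← pow_mul, mul_comm, pow_mul, hcr, one_pow], rfl⟩
    have hf : Function.Injective f := by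
      rintro ⟨a, b⟩ ⟨a', b'⟩ hab
      have h1 := hinj _ _ _ _ (congrArg Subtype.val hab)
      have h2 : (a : ℕ) = a' := pow_injOn_Iio_orderOf (by rw [Set.mem_Iio, hc]; exact a.2) (by rw [Set.mem_Iio, hc]; exact a'.2) h1.1
      have h3 : (b : ℕ) = b' := pow_injOn_Iio_orderOf (by rw [Set.mem_Iio, hc]; exact b.2) (by rw [Set.mem_Iio, hc]; exact b'.2) h1.2
      exact Prod.ext (Fin.ext h2) (Fin.ext h3)
    have h1 := Nat.card_le_card_of_injective f hf
    rw [Nat.card_prod, Nat.card_eq_fintype_card, Fintype.card_fin] at h1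
    rw [pow_two]
    exact h1

section fin

variable [Finite F] [Finite G] (hF : ∃ c : Fˣ, c ≠ 1) (hR : S.R.p = 2)

include hF hR

/-- **`U ∩ n U n⁻¹`** -/
theorem inf_le {n : G} {f f' : ZMod (2 * 8) → ZMod (2 * 8)} (hf : Maps S.R.X n f) (hf' : ∀ k, f (f' k) = k)
    {o : Option Bool} (ho : ∀ i ∈ arcV none, f i ∈ arcV none → f i ∈ arcV o) :
    J S.XZ 1 8 ⊓ cj n (J S.XZ 1 8) ≤ Vv S o := by
  obtain ⟨r, hfact, A, hr2, hAT, hAe, hA2⟩ := exists_elem S hF
  have hnT : ∀ t ∈ S.T, n⁻¹ * t * n ∈ S.T := by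
    intro t ht
    have h1 := ((hf.inv hf').mul (S.T_iff.1 ht)).mul hf
    refine S.T_iff.2 (h1.congr fun k => ?_)
    show f' (f k) = k
    have h2 := maps_unique S ((hf.inv hf').mul hf) (f := f' ∘ f) (g := id) (by rw [inv_mul_cancel]; exact Maps.one) k
    exact h2
  have h2 : IsPGroup 2 (J S.XZ 1 8 ⊓ cj n (J S.XZ 1 8) : Subgroup G) := (U_two S hF hR).to_le inf_le_left
  have hdvd : ¬ r ∣ Nat.card (J S.XZ 1 8 ⊓ cj n (J S.XZ 1 8) : Subgroup G) := by
    have : Fact (Nat.Prime 2) := ⟨Nat.prime_two⟩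
    obtain ⟨m, hm⟩ := IsPGroup.iff_card.1 h2
    rw [hm]
    intro h
    exact hr2 ((Nat.prime_dvd_prime_iff_eq hfact.out Nat.prime_two).1 (hfact.out.dvd_of_dvd_pow h))
  have hN : A ≤ normalizer ((J S.XZ 1 8 ⊓ cj n (J S.XZ 1 8) : Subgroup G) : Set G) := by
    intro t ht
    refine mem_norm_of fun x hx => ⟨S.T_conj_J (hAT ht) hx.1, ?_⟩
    have hx2 := mem_cj.1 hx.2
    show t * x * t⁻¹ ∈ cj n (J S.XZ 1 8)
    rw [mem_cj]
    have e : n⁻¹ * (t * x * t⁻¹) * n = (n⁻¹ * t * n) * (n⁻¹ * x * n) * (n⁻¹ * t * n)⁻¹ := by group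
    rw [e]
    exact S.T_conj_J (hnT t (hAT ht)) hx2
  refine (SignalizersComponents.CoprimeGen.le_iSup_centralizer_ne_one hAe hA2 hdvd hN).trans (iSup_le ?_)
  rintro ⟨t, htA, ht1⟩ x ⟨⟨hxU, hxn⟩, hxt⟩
  have ht := hAT htA
  have hxt' : x ∈ centralizer {t} := hxt
  rw [mem_centralizer_singleton_iff] at hxt'
  have h3 : t * x * t⁻¹ = x := by rw [← hxt']; group
  obtain ⟨i, hi1, hi⟩ := fix_U S ht ht1 hxU h3
  obtain ⟨l, hl1, hl⟩ := fix_U S (hnT t ht) (t := n⁻¹ * t * n) (fun h => ht1 (by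
    have e : t = n * (n⁻¹ * t * n) * n⁻¹ := by group
    rw [e, h]; group)) (mem_cj.1 hxn) (by
      have e : n⁻¹ * t * n * (n⁻¹ * x * n) * (n⁻¹ * t * n)⁻¹ = n⁻¹ * (t * x * t⁻¹) * n := by group
      rw [e, h3])
  have hl' : x ∈ S.R.X (f l) := by
    have := (hf l _).2 hl
    have e : n * (n⁻¹ * x * n) * n⁻¹ = x := by group
    rwa [e] at this
  by_cases hil : f l = i
  · rw [← hil] at hi1
    exact X_le_Vv S (ho l hl1 hi1) hl'
  · rw [S.X_inf hil hl' hi]
    exact one_mem _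

/-- **`desc`** -/
theorem desc : Desc S := by
  intro g hg
  obtain ⟨b, hb, n, ⟨c, hce, hc⟩, b', hb', rfl⟩ := bru S g
  have key : ∀ (o : Option Bool), J S.XZ 1 8 ⊓ cj n (J S.XZ 1 8) ≤ Vv S o →
      ∀ u ∈ J S.XZ 1 8, (b * n * b')⁻¹ * u * (b * n * b') ∈ J S.XZ 1 8 ⊔ S.T → u ∈ Vv S o := by
    intro o ho u hu h
    have h1 := conj_mem_U S hF hR hu h
    have h2 : b⁻¹ * u * b ∈ J S.XZ 1 8 := mul_mem (mul_mem (inv_mem hb) hu) hb
    have h3 : b⁻¹ * u * b ∈ Vv S o := by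
      refine ho ⟨h2, mem_cj.2 ?_⟩
      have e : n⁻¹ * (b⁻¹ * u * b) * n = b' * ((b * n * b')⁻¹ * u * (b * n * b')) * b'⁻¹ := by group
      rw [e]
      exact mul_mem (mul_mem hb' h1) (inv_mem hb')
    have h4 := conj_Vv S o hb h3
    have e : b * (b⁻¹ * u * b) * b⁻¹ = u := by group
    rwa [e] at h4
  rcases hc with hc | hc
  · have htab : ∀ c : ZMod (2 * 8), Ev c → c = 0 ∨
        (∀ i ∈ arcV none, c + i ∈ arcV none → c + i ∈ arcV (some true)) ∨
        ∀ i ∈ arcV none, c + i ∈ arcV none → c + i ∈ arcV (some false) := by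
      decide +kernel
    rcases htab c hce with rfl | h | h
    · exfalso
      apply hg
      exact mul_mem (mul_mem (U_le_Pp S none hb) (T_le_Pp S none (mem_T_of_maps S (hc.congr fun k => zero_add k))))
        (U_le_Pp S none hb')
    · exact Or.inl (key (some true) (inf_le S hF hR hc (f' := fun k => k - c) (fun k => by ring) h))
    · exact Or.inr (key (some false) (inf_le S hF hR hc (f' := fun k => k - c) (fun k => by ring) h))
  · have htab : ∀ c : ZMod (2 * 8), Ev c →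
        (∀ i ∈ arcV none, c - i ∈ arcV none → c - i ∈ arcV (some true)) ∨
        ∀ i ∈ arcV none, c - i ∈ arcV none → c - i ∈ arcV (some false) := by
      decide +kernel
    rcases htab c hce with h | h
    · exact Or.inl (key (some true) (inf_le S hF hR hc (f' := fun k => c - k) (fun k => by ring) h))
    · exact Or.inr (key (some false) (inf_le S hF hR hc (f' := fun k => c - k) (fun k => by ring) h))

end fin

end Cfsg.Agent.H424.EPX
end

-- part: H424/EPX/TF4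
section
/-!
# S5745, own characteristic: no socle `²F₄(q) ^ k` (helper424)

`own_TF4` : `G` simple with a filtered root group datum in characteristic 2, `EPS H N e`, `N ≅ T ^ k`, `T ≅ ²F₄(q)`: impossible.
-/

set_option autoImplicit false
set_option linter.unusedSectionVars false

namespace Cfsg.Agent.H424.EPX

open Cfsg.Agent.KFacts.TwF4 Cfsg.Agent.H284 Cfsg.Agent.H209.EPX Cfsg.Agent.KFacts.RgdFilt Subgroup

/-- the same with other coordinates of `N` -/
theorem eps_congr {G : Type*} [Group G] {H N : Subgroup G} {T : Type} [Group T] {k : ℕ} {e : N ≃* (Fin k → T)}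
    (h : EPS H N e) {L : Type} [Group L] (f : T ≃* L) : EPS H N (e.trans (MulEquiv.piCongrRight fun _ : Fin k => f)) where
  toMinN := h.toMinN
  ep := h.ep
  pos := h.pos
  simple := by
    have := h.simple
    exact f.symm.isSimpleGroup
  nab := by
    obtain ⟨a, b, hab⟩ := h.nab
    refine ⟨f a, f b, fun h1 => hab ?_⟩
    rw [← map_mul, ← map_mul] at h1
    exact f.injective h1
  cent := h.cent
  least := h.least

/-- **own characteristic, socle `²F₄(q) ^ k`**, general form -/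
theorem own_TF4' {G : Type*} [Group G] [Finite G] {H N : Subgroup G} {T : Type} [Group T] {k : ℕ}
    {e : N ≃* (Fin k → T)} (h : EPS H N e) (hT : Cfsg.Lie.Iso2F4 T) {Y : Type*} [Group Y] [Finite Y] [IsSimpleGroup Y]
    (hY : HasFilt 2 Y) (hYn : ∃ a b : Y, a * b ≠ b * a) {j : Y →* G} (hj : Function.Injective j)
    (hn : j.range.Normal) (hNj : N ≤ j.range) : False := by
  obtain ⟨F, i1, i2, m, φ, S, -, hcard, ⟨f⟩, hR, hfin, hF⟩ := Cfsg.Agent.H187.exists_full hT
  exact own_full S hF hR (desc S hF hR) (eps_congr h f) hY hYn hj hn hNj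

/-- **own characteristic, socle `²F₄(q) ^ k`** -/
theorem own_TF4 {G : Type} [Group G] [Finite G] [IsSimpleGroup G] (hG : HasFilt 2 G) (H N : Subgroup G) (T : Type)
    [Group T] (k : ℕ) (e : N ≃* (Fin k → T)) (h : EPS H N e) (hT : Cfsg.Lie.Iso2F4 T) : False := by
  obtain ⟨a, b, hab⟩ := h.nab
  have hinj : Function.Injective (fun x : N => (x : G)) := Subtype.val_injective
  refine own_TF4' h hT (Y := G) hG ?_ (j := MonoidHom.id G) (fun x y h => h) ?_ ?_
  · have hk : Nonempty (Fin k) := ⟨⟨0, h.pos⟩⟩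
    refine ⟨e.symm fun _ => a, e.symm fun _ => b, fun h1 => hab ?_⟩
    have h2 : e.symm (fun _ => a) * e.symm (fun _ => b) = e.symm (fun _ => b) * e.symm (fun _ => a) := Subtype.ext h1
    rw [← map_mul, ← map_mul] at h2
    exact congrFun (e.symm.injective h2) ⟨0, h.pos⟩
  · have e1 : (MonoidHom.id G).range = ⊤ := MonoidHom.range_eq_top.2 fun x => ⟨x, rfl⟩
    rw [e1]
    infer_instance
  · intro x _
    exact ⟨x, rfl⟩

end Cfsg.Agent.H424.EPX
end

private theorem dce_cb79577d233f : _root_.True := by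
  try have : _root_.True := by simp only [_root_.Cfsg.Agent.H424.EPX.st.eq_1]
  try have : _root_.True := by simp only [_root_.Cfsg.Agent.H424.EPX.PT.eq_1]
  try have : _root_.True := by simp only [_root_.Cfsg.Agent.H424.EPX.VT.eq_1]
  try have : _root_.True := by simp only [_root_.Cfsg.Agent.H424.EPX.st.eq_2]
  exact _root_.True.intro
end

-- part: H564/EPF/Own
section
prune_inst 0x20000000092200000000001420003c4282000102004b00012160020206c0ce0100060620b8800212010a882400380060004c00c90010000004008600411801a094aa4202b248a000200007009004000000000000000000000000000000000004000000000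
set_option linter.all false
open scoped Cfsg.Agent.FastGrp

-- part: H564/EPF/Par
section
/-!
# The parabolic system of octagonal root groups (helper564, S3499)

* `le_P`, `ov` : overgroups of `U`, of `B`; `dec`; `V_max`;
* `exists_PJ` : proper overgroups of conjugates of `V_J`; `exists_canon`, `canon`;
* `psys : PSys G 2 (Fin 2)`, `rk : Rk psys`.
-/

set_option autoImplicit false
set_option linter.unusedSectionVars false

namespace Cfsg.Agent.H564.EPF

open Cfsg.Agent.H284 Cfsg.Agent.TitsThree.RankTwoZ Cfsg.Agent.H737.EPO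

universe u

namespace OD

variable {G : Type u} [Group G] {D : OD G} [Finite G]

omit [Finite G] in
theorem refl_mem {K : Subgroup G} {k : Rt} (h : D.X k ≤ K) (h' : D.X (k + 8) ≤ K) : ∃ m ∈ K, D.Mp m (rf k) := by
  obtain ⟨u, hu, hu1⟩ := D.ne k
  obtain ⟨v, hv, v', hv', hm⟩ := D.mu k u hu hu1
  exact ⟨_, mul_mem (mul_mem (h' hv) (h hu)) (h' hv'), hm⟩

omit [Finite G] in
theorem neg_le {K : Subgroup G} (hU : D.U ≤ K) {m : G} {w : W} (hm : D.Mp m w) (hmK : m ∈ K) {j : Fin 2}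
    (hd : ps (ac (iw w) (sr j)) = false) : D.X (sr j + 8) ≤ K := by
  have h1 : ps (ac (iw w) (sr j + 8)) = true := by rw [ac_opp, ps_opp, hd]; rfl
  have h2 := hm.le' (k := ac (iw w) (sr j + 8)) (l := sr j + 8) (ac_iw w _) ((D.X_le_U _ h1).trans hU)
  rwa [cj_eq_self hmK] at h2

/-- overgroups of `U` -/
theorem le_P {K : Subgroup G} (hU : D.U ≤ K) : K ≤ D.P {i | D.X (sr i + 8) ≤ K} := by
  intro k hk
  obtain ⟨w, b, hb, m, hm, b', hb', rfl⟩ := D.bru k
  rw [mem_P hb hb' hm]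
  have hmK : m ∈ K := by
    have e : m = b⁻¹ * (b * m * b') * b'⁻¹ := by group
    rw [e]
    exact mul_mem (mul_mem (inv_mem (hU hb)) hk) (inv_mem (hU hb'))
  by_cases hw : w = (0, false)
  · exact Or.inl hw
  obtain ⟨j, hj⟩ := e3 w hw
  have h1 := neg_le hU hm hmK hj
  obtain ⟨n, hn, hnM⟩ := refl_mem ((D.X_le_U _ (sr_ps j)).trans hU) h1
  rw [rf_sr] at hnM
  by_cases hall : ∀ i : Fin 2, i ≠ j → ps (ac (iw (mw (sp j) w)) (sr i)) = true
  · exact Or.inr (Or.inr ⟨j, h1, e4 j w hj hall⟩)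
  · push Not at hall
    obtain ⟨i, hij, hi⟩ := hall
    have h2 := neg_le hU (hnM.mul hm) (mul_mem hn hmK) (j := i) (by simpa using hi)
    right; left
    ext l
    simp only [Set.mem_setOf_eq, Set.mem_univ, iff_true]
    by_cases hl : l = j
    · rw [hl]; exact h1
    · rw [← fin2 i j l hij hl]; exact h2

theorem eq_top_of {K : Subgroup G} (hU : D.U ≤ K) (h : {i | D.X (sr i + 8) ≤ K} = Set.univ) : K = ⊤ := by
  have h1 : ∀ i, D.X (sr i + 8) ≤ K := fun i => by
    have : i ∈ {i | D.X (sr i + 8) ≤ K} := by rw [h]; trivial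
    exact this
  obtain ⟨m0, hm0, hM0⟩ := refl_mem ((D.X_le_U _ (sr_ps 0)).trans hU) (h1 0)
  obtain ⟨m1, hm1, hM1⟩ := refl_mem ((D.X_le_U _ (sr_ps 1)).trans hU) (h1 1)
  rw [rf_sr] at hM0 hM1
  exact eq_top hU hM0 hM1 hm0 hm1

/-- overgroups of `B` -/
theorem ov (L : Subgroup G) (hL : D.P ∅ ≤ L) : ∃ J, L = D.P J := by
  have hU : D.U ≤ L := (U_le_P ∅).trans hL
  refine ⟨{i | D.X (sr i + 8) ≤ L}, le_antisymm (le_P hU) ?_⟩
  intro g hg
  obtain ⟨w, b, hb, m, hm, b', hb', rfl⟩ := D.bru g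
  rcases (mem_P hb hb' hm).1 hg with h1 | h1 | ⟨j, hj, h1⟩
  · exact hL ((mem_P hb hb' hm).2 (Or.inl h1))
  · rw [eq_top_of hU h1]; trivial
  · obtain ⟨n, hn, hnM⟩ := refl_mem ((D.X_le_U _ (sr_ps j)).trans hU) hj
    rw [rf_sr] at hnM
    subst h1
    have h2 : n⁻¹ * m ∈ L := by
      apply hL
      rw [mem_P' (hnM.inv.mul hm)]
      have h3 : ∀ i : Fin 2, mw (iw (sp i)) (sp i) = (0, false) := by decide
      exact Or.inl (h3 j)
    have e : m = n * (n⁻¹ * m) := by group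
    rw [e]
    exact mul_mem (mul_mem (hU hb) (mul_mem hn h2)) (hU hb')

/-- negative roots in `P_J` -/
theorem neg_root {J : Set (Fin 2)} {k : Rt} (hk : D.X k ≤ D.P J) : ps k = true ∨ J = Set.univ ∨ ∃ j ∈ J, k = sr j + 8 := by
  by_cases h0 : ps k = true
  · exact Or.inl h0
  right
  have h1 : ps (k + 8) = true := by
    rw [ps_opp]
    simp at h0
    rw [h0]; rfl
  obtain ⟨m, hm, hM⟩ := refl_mem hk ((D.X_le_U _ h1).trans (U_le_P J))
  rcases (mem_P' hM).1 hm with h2 | h2 | ⟨j, hj, h2⟩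
  · exact absurd h2 (rf_ne_one k)
  · exact Or.inl h2
  · exact Or.inr ⟨j, hj, rf_sp j k h2 (by simpa using h0)⟩

/-- double cosets -/
theorem dec {J L : Set (Fin 2)} {g : G} (hV : D.VV J ≤ cj g (D.P L)) : ∃ a ∈ D.P J, ∃ b ∈ D.P L, g = a * b := by
  obtain ⟨w, b, hb, m, hm, b', hb', rfl⟩ := D.bru g
  have hX : ∀ k, D.X k ≤ D.VV J → D.X (ac (iw w) k) ≤ D.P L := by
    intro k hk
    refine Mp.le (D := D) hm ?_
    have h1 : cj b⁻¹ (D.VV J) ≤ cj m (D.P L) := by
      have h2 := cj_mono (x := b⁻¹) hV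
      have e : b⁻¹ * (b * m * b') = m * b' := by group
      rw [← cj_mul, e, cj_mul, cj_eq_self (U_le_P L hb')] at h2
      exact h2
    rw [cj_nm.1 (show b⁻¹ ∈ Subgroup.normalizer (D.VV J : Set G) from inv_mem (U_le_P J hb))] at h1
    exact hk.trans h1
  suffices h : ∃ w₁ w₂ : W, WJ J w₁ ∧ WJ L w₂ ∧ w = mw w₁ w₂ by
    obtain ⟨w₁, w₂, h1, h2, rfl⟩ := h
    obtain ⟨m₁, hm₁⟩ := D.rep w₁
    have h3 : D.Mp (m₁⁻¹ * m) w₂ := by
      have := (Mp.inv (D := D) hm₁).mul hm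
      rwa [iw_mw_cancel] at this
    refine ⟨b * m₁, mul_mem (U_le_P J hb) ((mem_P' (D := D) hm₁).2 h1), m₁⁻¹ * m * b',
      mul_mem ((mem_P' h3).2 h2) (U_le_P L hb'), by group⟩
  rcases cases4 J with rfl | ⟨j, rfl⟩ | rfl
  · have hX' : ∀ k, ps k = true → D.X (ac (iw w) k) ≤ D.P L := fun k hk => hX k (by rw [VV_empty]; exact D.X_le_U k hk)
    rcases cases4 L with rfl | ⟨l, rfl⟩ | rfl
    · refine ⟨(0, false), w, Or.inl rfl, Or.inl (d1 w fun k hk => ?_), (one_mw w).symm⟩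
      rcases neg_root (hX' k hk) with h1 | h1 | ⟨i, hi, -⟩
      · exact h1
      · exact absurd h1 Set.empty_ne_univ
      · exact absurd hi (Set.notMem_empty i)
    · refine ⟨(0, false), w, Or.inl rfl, ?_, (one_mw w).symm⟩
      have h0 : ∀ k, ps k = true → ps (ac (iw w) k) = true ∨ ac (iw w) k = sr l + 8 := by
        intro k hk
        rcases neg_root (hX' k hk) with h1 | h1 | ⟨i, hi, h1⟩
        · exact Or.inl h1
        · exact absurd h1 (single_ne_univ l)
        · rw [Set.mem_singleton_iff] at hi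
          subst hi
          exact Or.inr h1
      rcases d2 l w h0 with h1 | h1
      · exact Or.inl h1
      · exact Or.inr (Or.inr ⟨l, rfl, h1⟩)
    · exact ⟨(0, false), w, Or.inl rfl, Or.inr (Or.inl rfl), (one_mw w).symm⟩
  · have hX' : ∀ k, nr j k = true → D.X (ac (iw w) k) ≤ D.P L := fun k hk =>
      hX k (by rw [VV_single]; exact D.X_le_V j k hk)
    rcases cases4 L with rfl | ⟨l, rfl⟩ | rfl
    · refine ⟨w, (0, false), ?_, Or.inl rfl, (mw_one w).symm⟩
      have h0 : ∀ k, nr j k = true → ps (ac (iw w) k) = true := by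
        intro k hk
        rcases neg_root (hX' k hk) with h1 | h1 | ⟨i, hi, -⟩
        · exact h1
        · exact absurd h1 Set.empty_ne_univ
        · exact absurd hi (Set.notMem_empty i)
      rcases d3 j w h0 with h1 | h1
      · exact Or.inl h1
      · exact Or.inr (Or.inr ⟨j, rfl, h1⟩)
    · have hs : ∀ i : Fin 2, WJ {i} (sp i) := fun i => Or.inr (Or.inr ⟨i, rfl, rfl⟩)
      have h0 : ∀ k, nr j k = true → ps (ac (iw w) k) = true ∨ ac (iw w) k = sr l + 8 := by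
        intro k hk
        rcases neg_root (hX' k hk) with h1 | h1 | ⟨i, hi, h1⟩
        · exact Or.inl h1
        · exact absurd h1 (single_ne_univ l)
        · rw [Set.mem_singleton_iff] at hi
          subst hi
          exact Or.inr h1
      rcases d4 j l w h0 with h1 | h1 | h1 | h1
      · exact ⟨(0, false), w, Or.inl rfl, Or.inl h1, (one_mw w).symm⟩
      · exact ⟨w, (0, false), h1 ▸ hs j, Or.inl rfl, (mw_one w).symm⟩
      · exact ⟨(0, false), w, Or.inl rfl, h1 ▸ hs l, (one_mw w).symm⟩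
      · exact ⟨sp j, sp l, hs j, hs l, h1⟩
    · exact ⟨(0, false), w, Or.inl rfl, Or.inr (Or.inl rfl), (one_mw w).symm⟩
  · exact ⟨w, (0, false), Or.inr (Or.inl rfl), Or.inl rfl, (mw_one w).symm⟩

/-! ### `2`-subgroups -/

section two

variable (h2 : IsPGroup 2 D.U) (hs : ∀ S : Subgroup G, D.U ≤ S → IsPGroup 2 S → S = D.U)

include h2 hs

theorem exists_le_cj {Q : Subgroup G} (hQ : IsPGroup 2 Q) : ∃ g, Q ≤ cj g D.U := by
  have : Fact (Nat.Prime 2) := ⟨Nat.prime_two⟩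
  obtain ⟨S, hS⟩ := h2.exists_le_sylow
  obtain ⟨R, hR⟩ := hQ.exists_le_sylow
  obtain ⟨g, hg⟩ := MulAction.exists_smul_eq G S R
  refine ⟨g, ?_⟩
  rw [← hs _ hS S.isPGroup']
  have h1 : cj g (S : Subgroup G) = (R : Subgroup G) := by rw [← hg]; rfl
  rw [h1]
  exact hR

theorem le_U_of {K : Subgroup G} (hK : D.U ≤ Subgroup.normalizer (K : Set G)) (hK2 : IsPGroup 2 K) : K ≤ D.U := by
  have h1 : IsPGroup 2 (D.U ⊔ K : Subgroup G) := IsPGroup.to_sup_of_normal_right' h2 hK2 hK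
  rw [← hs _ le_sup_left h1]
  exact le_sup_right

theorem le_U_of' {K : Subgroup G} (hK : K ≤ Subgroup.normalizer (D.U : Set G)) (hK2 : IsPGroup 2 K) : K ≤ D.U := by
  have h1 : IsPGroup 2 (K ⊔ D.U : Subgroup G) := IsPGroup.to_sup_of_normal_right' hK2 h2 hK
  rw [← hs _ le_sup_right h1]
  exact le_sup_left

theorem mem_U_of {x c : G} (hx : x ∈ Subgroup.normalizer (D.U : Set G)) (hc : x ∈ cj c D.U) : x ∈ D.U := by
  have h1 : IsPGroup 2 (Subgroup.zpowers x) := (h2.map _ : IsPGroup 2 (cj c D.U)).to_le ((Subgroup.zpowers_le).2 hc)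
  exact le_U_of' h2 hs ((Subgroup.zpowers_le).2 hx) h1 (Subgroup.mem_zpowers x)

theorem V_max {J : Set (Fin 2)} {E : Subgroup G} (hE2 : IsPGroup 2 E)
    (hn : ∀ g ∈ D.P J, ∀ d ∈ E, g * d * g⁻¹ ∈ E) : E ≤ D.VV J := by
  have hEU : E ≤ D.U := le_U_of h2 hs (fun u hu => mem_nm (hn u (U_le_P J hu))) hE2
  rcases cases4 J with rfl | ⟨j, rfl⟩ | rfl
  · rw [VV_empty]; exact hEU
  · rw [VV_single]
    obtain ⟨n, hn'⟩ := D.rep (sp j)
    intro d hd
    have h3 : ∀ i : Fin 2, ps (ac (iw (sp i)) (sr i)) = false := by decide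
    refine D.cut j (sp j) n hn' (h3 j) d (hEU hd) (hEU ?_)
    have h4 := hn n⁻¹ (inv_mem ((mem_P' (D := D) hn').2 (Or.inr (Or.inr ⟨j, rfl, rfl⟩)))) d hd
    rwa [inv_inv] at h4
  · rw [VV_univ]
    obtain ⟨n, hn'⟩ := D.rep (4, false)
    intro d hd
    have h3 : ∀ k : Rt, ps k = true → ps (ac (4, false) k) = false := by decide
    rw [Subgroup.mem_bot]
    exact D.opp _ n hn' h3 d (hEU hd) (hEU (hn n (by rw [P_univ]; trivial) d hd))

end two

/-! ### overgroups of unipotent radicals -/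

theorem exists_PJ {K : Subgroup G} (hK : K ≠ ⊤) {J : Set (Fin 2)} (hJ : J ≠ Set.univ) {g : G}
    (hV : cj g (D.VV J) ≤ K) : ∃ (L : Set (Fin 2)) (g' : G), L ≠ Set.univ ∧ K ≤ cj g' (D.P L) ∧ cj g' (D.VV L) ≤ K := by
  by_cases ha : ∃ g', cj g' D.U ≤ K
  · obtain ⟨g', hg'⟩ := ha
    have hU : D.U ≤ cj g'⁻¹ K := by
      have := cj_mono (x := g'⁻¹) hg'
      rwa [cj_inv_cj] at this
    refine ⟨{i | D.X (sr i + 8) ≤ cj g'⁻¹ K}, g', ?_, ?_, ?_⟩
    · intro h1
      apply hK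
      have h2 := eq_top_of hU h1
      have h3 : cj g' (cj g'⁻¹ K) = cj g' ⊤ := by rw [h2]
      rw [cj_cj_inv] at h3
      rw [h3]
      exact Subgroup.map_top_of_surjective _ (MulAut.conj g').surjective
    · have := cj_mono (x := g') (le_P hU)
      rwa [cj_cj_inv] at this
    · exact (cj_mono (VV_le_U _)).trans hg'
  · push Not at ha
    have hJ0 : ∃ j, J = {j} := by
      rcases cases4 J with rfl | h1 | rfl
      · rw [VV_empty] at hV
        exact absurd hV (ha g)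
      · exact h1
      · exact absurd rfl hJ
    obtain ⟨j, rfl⟩ := hJ0
    rw [VV_single] at hV
    refine ⟨{j}, g, hJ, ?_, by rw [VV_single]; exact hV⟩
    set K' := cj g⁻¹ K with hK'
    have hV' : D.V j ≤ K' := by
      have := cj_mono (x := g⁻¹) hV
      rwa [cj_inv_cj] at this
    have ha' : ∀ g', ¬ cj g' D.U ≤ K' := by
      intro g' h1
      apply ha (g * g')
      rw [cj_mul]
      have := cj_mono (x := g) h1
      rwa [hK', cj_cj_inv] at this
    suffices h : K' ≤ D.P {j} by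
      have := cj_mono (x := g) h
      rwa [hK', cj_cj_inv] at this
    intro k hk
    obtain ⟨w, b, hb, m, hm, b', hb', rfl⟩ := D.bru k
    rw [mem_P hb hb' hm]
    by_contra hcon
    have hw1 : w ≠ (0, false) := fun h => hcon (Or.inl h)
    have hw2 : w ≠ sp j := fun h => hcon (Or.inr (Or.inr ⟨j, rfl, h⟩))
    set K'' := cj b⁻¹ K' with hK''
    have hbV : ∀ c ∈ D.U, cj c (D.V j) = D.V j := fun c hc => cj_nm.1 (U_le_NV j hc)
    have hV1 : D.V j ≤ K'' := by
      have := cj_mono (x := b⁻¹) hV'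
      rwa [hbV _ (inv_mem hb)] at this
    have hmem : m * (b' * b) ∈ K'' := by
      rw [hK'', mem_cj, inv_inv]
      have e : b * (m * (b' * b)) * b⁻¹ = b * m * b' := by group
      rwa [e]
    have hV2 : cj m (D.V j) ≤ K'' := by
      have h1 := cj_mono (x := m * (b' * b)) hV1
      rwa [cj_eq_self hmem, cj_mul, hbV _ (mul_mem hb' hb)] at h1
    have hno : ∀ v : W, ¬ ∀ k, ps k = true → D.X (ac v k) ≤ K'' := by
      intro v hv
      obtain ⟨n, hn⟩ := D.rep v
      apply ha' (b * n)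
      have h1 : D.U ≤ cj n⁻¹ K'' := by
        refine D.U_le _ fun k hk x hx => ?_
        rw [mem_cj, inv_inv]
        exact hv k hk ((Mp.conj (D := D) hn) hx)
      have h2 := cj_mono (x := b * n) h1
      rwa [cj_mul b n (cj n⁻¹ K''), cj_cj_inv, hK'', cj_cj_inv] at h2
    -- roots of `K''`
    have hr1 : ∀ k, nr j k = true → D.X k ≤ K'' := fun k hk => (D.X_le_V j k hk).trans hV1
    have hr2 : ∀ {n : G} {v : W}, D.Mp n v → cj n (D.V j) ≤ K'' → ∀ k, nr j (ac (iw v) k) = true → D.X k ≤ K'' := by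
      intro n v hn h1 k hk
      exact (hn.le' (ac_iw v k) (D.X_le_V j _ hk)).trans h1
    rcases e1 j w hw1 hw2 with ⟨v, hv⟩ | h1
    · apply hno v
      intro k hk
      rcases hv k hk with h1 | h1
      · exact hr1 _ h1
      · exact hr2 hm hV2 _ h1
    · obtain ⟨n, hn, hnM⟩ := refl_mem (hr1 _ (k0_nr j)) (hr2 hm hV2 _ h1)
      have hV3 : cj n (D.V j) ≤ K'' := by
        have := cj_mono (x := n) hV1
        rwa [cj_eq_self hn] at this
      obtain ⟨v, hv⟩ := e2 j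
      apply hno v
      intro k hk
      rcases hv k hk with h1 | h1
      · exact hr1 _ h1
      · exact hr2 hnM hV3 _ h1

/-! ### the canonical parabolic subgroup -/

section canon

variable (h2 : IsPGroup 2 D.U) (hs : ∀ S : Subgroup G, D.U ≤ S → IsPGroup 2 S → S = D.U)

include h2 hs

/-- a subgroup with a nontrivial normal `2`-subgroup lies in a canonical proper parabolic subgroup -/
theorem exists_canon {K N₀ : Subgroup G} (hN : N₀ ≤ K) (hn : ∀ k ∈ K, ∀ v ∈ N₀, k * v * k⁻¹ ∈ N₀)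
    (hp : IsPGroup 2 N₀) (h1 : N₀ ≠ ⊥) :
    ∃ (J' : Set (Fin 2)) (g' : G), J' ≠ Set.univ ∧ K ≤ cj g' (D.P J') ∧
      ∀ φ : MulAut G, (∀ k ∈ K, φ k ∈ K) → ∀ x ∈ cj g' (D.P J'), φ x ∈ cj g' (D.P J') := by
  classical
  have : Fact (Nat.Prime 2) := ⟨Nat.prime_two⟩
  -- `O_p(K)`
  have hO : ∀ {N A : Subgroup G}, A ≤ N → (∀ g ∈ N, ∀ a ∈ A, g * a * g⁻¹ ∈ A) → IsPGroup 2 A →
      A ≤ (pCore 2 ↥N).map N.subtype := by
    intro N A hAN hn hA
    have hAn : (A.subgroupOf N).Normal := by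
      refine ⟨fun a ha g => ?_⟩
      rw [Subgroup.mem_subgroupOf] at ha ⊢
      exact hn g g.2 a ha
    have h1 := Lib.Cores.le_pCore hAn (hA.comap_subtype (K := N))
    have h2 := Subgroup.map_mono (f := N.subtype) h1
    rwa [Subgroup.subgroupOf_map_subtype, inf_eq_left.2 hAN] at h2
  obtain ⟨Q, ⟨hQ1, hQ2, hQ3⟩, hmax⟩ := Set.exists_max_image {Q : Subgroup G | Q ≠ ⊥ ∧ IsPGroup 2 Q ∧
      ∀ φ : MulAut G, H459.Gallery.Iv φ K → H459.Gallery.Iv φ Q}
    (fun Q => Nat.card Q) (Set.toFinite _) ⟨(pCore 2 ↥K).map K.subtype, fun h2 => h1 (le_bot_iff.1 (h2 ▸ hO hN hn hp)),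
      (Lib.Cores.pCore_isPGroup (G := K) 2).map _, fun φ hφ => H459.RgdRad.iv_core hφ⟩
  set N := Subgroup.normalizer (Q : Set G) with hNd
  have hNφ : ∀ φ : MulAut G, H459.Gallery.Iv φ K → H459.Gallery.Iv φ N := fun φ hφ => H470.EPK.iv_normalizer (hQ3 φ hφ)
  have hQN : Q ≤ N := Subgroup.le_normalizer
  have hQO : Q ≤ (pCore 2 ↥N).map N.subtype :=
    hO hQN (fun g hg a ha => (Subgroup.mem_normalizer_iff.1 hg a).1 ha) hQ2
  have hOQ : (pCore 2 ↥N).map N.subtype = Q := by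
    refine (Subgroup.eq_of_le_of_card_ge hQO (hmax _ ⟨fun h2 => hQ1 (le_bot_iff.1 (h2 ▸ hQO)),
      (Lib.Cores.pCore_isPGroup (G := N) 2).map _, fun φ hφ => H459.RgdRad.iv_core (hNφ φ hφ)⟩)).symm
  obtain ⟨g₀, hg₀⟩ := exists_le_cj h2 hs hQ2
  obtain ⟨g, J, hJ, h3, h4⟩ := bt hQ1 hg₀
  set V := cj g (D.VV J) with hV
  have hVp : IsPGroup 2 V := (h2.to_le (VV_le_U J)).map _
  have hPV : cj g (D.P J) ≤ Subgroup.normalizer (V : Set G) := by
    rintro _ ⟨a, ha, rfl⟩
    have h5 : cj a (D.VV J) = D.VV J := cj_nm.1 ha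
    rw [cj_nm, hV]
    show cj (g * a * g⁻¹) (cj g (D.VV J)) = _
    rw [← cj_mul, inv_mul_cancel_right, cj_mul, h5]
  have hVQ : V = Q := by
    by_contra hne
    have h5 := SmallSimple.SylowMaxInter.lt_inf_normalizer hVp (lt_of_le_of_ne h3 (Ne.symm hne))
    have h6 : V ⊓ N ≤ Q := by
      rw [← hOQ]
      refine hO inf_le_right (fun k hk v hv => ⟨?_, N.mul_mem (N.mul_mem hk hv.2) (N.inv_mem hk)⟩)
        (hVp.to_le inf_le_left)
      exact (Subgroup.mem_normalizer_iff.1 (hPV (h4 hk)) v).1 hv.1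
    exact lt_irrefl _ (lt_of_lt_of_le h5 h6)
  have hNP : N = cj g (D.P J) := le_antisymm h4 (by rw [hNd, ← hVQ]; exact hPV)
  refine ⟨J, g, hJ, ?_, ?_⟩
  · rw [← hNP]
    intro k hk
    have h5 : H459.Gallery.Iv (MulAut.conj k) Q := hQ3 _ fun a ha => mul_mem (mul_mem hk ha) (inv_mem hk)
    exact cj_nm.2 h5.map_eq
  · intro φ hφ
    rw [← hNP]
    exact hNφ φ hφ

theorem canon {K : Subgroup G} (hK : K ≠ ⊤) {J : Set (Fin 2)} (hJ : J ≠ Set.univ) {g : G}
    (hV : cj g (D.VV J) ≤ K) : ∃ (J' : Set (Fin 2)) (g' : G), J' ≠ Set.univ ∧ K ≤ cj g' (D.P J') ∧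
      ∀ φ : MulAut G, (∀ k ∈ K, φ k ∈ K) → ∀ x ∈ cj g' (D.P J'), φ x ∈ cj g' (D.P J') := by
  obtain ⟨L, g', hL, h3, h4⟩ := exists_PJ hK hJ hV
  refine exists_canon h2 hs h4 (fun k hk v hv => ?_) ((h2.to_le (VV_le_U L)).map _) ?_
  · obtain ⟨a, ha, rfl⟩ := h3 hk
    obtain ⟨b, hb, rfl⟩ := hv
    refine ⟨a * b * a⁻¹, (Subgroup.mem_normalizer_iff.1 ha b).1 hb, ?_⟩
    simp [mul_assoc]
  · intro h5
    exact VV_ne_bot hL (cj_eq_bot_iff.1 h5)

/-! ### the parabolic system -/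

variable (D) in
/-- **the parabolic system** -/
noncomputable def psys : PSys G 2 (Fin 2) where
  P := D.P
  V := D.VV
  P_univ := P_univ
  P_le_iff := P_le_iff
  ov := ov
  V_anti := V_anti
  V_le _ := Subgroup.le_normalizer
  V_norm _ := le_refl _
  U_norm := rfl
  U_p := by rw [VV_empty]; exact h2
  U_max S hS hS2 := by rw [VV_empty] at hS ⊢; exact hs S hS hS2
  V_max _ hp hn := V_max h2 hs hp hn
  dec hV := dec hV
  canon hK _ hJ _ hV := canon h2 hs hK hJ hV

theorem rk : Rk (D.psys h2 hs) where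
  desc := by
    intro J g hg hg0
    change g ∈ D.P J at hg
    change g ∉ D.P ∅ at hg0
    obtain ⟨w, b, hb, m, hm, b', hb', rfl⟩ := D.bru g
    have key : ∀ i : Fin 2, ps (ac (iw w) (sr i)) = false → ∀ u ∈ (D.psys h2 hs).V ∅,
        (b * m * b')⁻¹ * u * (b * m * b') ∈ (D.psys h2 hs).P ∅ → u ∈ (D.psys h2 hs).V {i} := by
      intro i hi u hu hu'
      change u ∈ D.VV ∅ at hu
      change _ ∈ D.P ∅ at hu'
      change u ∈ D.VV {i}
      rw [VV_empty] at hu
      rw [P_empty] at hu'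
      rw [VV_single]
      have h1 : (b * m * b')⁻¹ * u * (b * m * b') ∈ D.U := by
        refine mem_U_of h2 hs (c := (b * m * b')⁻¹) hu' ?_
        rw [mem_cj]
        have e : ((b * m * b')⁻¹)⁻¹ * ((b * m * b')⁻¹ * u * (b * m * b')) * (b * m * b')⁻¹ = u := by group
        rwa [e]
      have h3 : m⁻¹ * (b⁻¹ * u * b) * m ∈ D.U := by
        have e : m⁻¹ * (b⁻¹ * u * b) * m = b' * ((b * m * b')⁻¹ * u * (b * m * b')) * b'⁻¹ := by group
        rw [e]
        exact mul_mem (mul_mem hb' h1) (inv_mem hb')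
      have h4 := D.cut i w m hm hi _ (mul_mem (mul_mem (inv_mem hb) hu) hb) h3
      have h5 := D.V_norm i b hb _ h4
      have e : b * (b⁻¹ * u * b) * b⁻¹ = u := by group
      rwa [e] at h5
    have hw1 : w ≠ (0, false) := fun h => hg0 ((mem_P hb hb' hm).2 (Or.inl h))
    rcases (mem_P hb hb' hm).1 hg with h3 | h3 | ⟨j, hj, h3⟩
    · exact absurd h3 hw1
    · obtain ⟨i, hi⟩ := e3 w hw1
      exact ⟨i, by rw [h3]; trivial, key i hi⟩
    · refine ⟨j, hj, key j ?_⟩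
      have h4 : ∀ i : Fin 2, ps (ac (iw (sp i)) (sr i)) = false := by decide
      rw [h3]; exact h4 j
  trans := by
    intro j x y hx hx0 hy hy0
    change x ∈ D.P {j} at hx
    change y ∈ D.P {j} at hy
    change x ∉ D.P ∅ at hx0
    change y ∉ D.P ∅ at hy0
    have key : ∀ z, z ∈ D.P {j} → z ∉ D.P ∅ → ∃ b ∈ D.U, ∃ m, D.Mp m (sp j) ∧ ∃ b' ∈ D.U, z = b * m * b' := by
      intro z hz hz0
      obtain ⟨w, b, hb, m, hm, b', hb', rfl⟩ := D.bru z
      have hw1 : w ≠ (0, false) := fun h => hz0 ((mem_P hb hb' hm).2 (Or.inl h))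
      rcases (mem_P hb hb' hm).1 hz with h3 | h3 | ⟨i, hi, h3⟩
      · exact absurd h3 hw1
      · exact absurd h3 (single_ne_univ j)
      · rw [Set.mem_singleton_iff] at hi
        subst hi
        subst h3
        exact ⟨b, hb, m, hm, b', hb', rfl⟩
    obtain ⟨b, hb, m, hm, b', hb', rfl⟩ := key x hx hx0
    obtain ⟨c, hc, n, hn, c', hc', rfl⟩ := key y hy hy0
    refine ⟨c * b⁻¹, ?_, ?_⟩
    · show c * b⁻¹ ∈ D.VV ∅
      rw [VV_empty]
      exact mul_mem hc (inv_mem hb)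
    · show (c * n * c')⁻¹ * (c * b⁻¹) * (b * m * b') ∈ D.P ∅
      have e : (c * n * c')⁻¹ * (c * b⁻¹) * (b * m * b') = c'⁻¹ * (n⁻¹ * m) * b' := by group
      rw [e, mem_P (inv_mem hc') hb' (hn.inv.mul hm)]
      have h3 : ∀ i : Fin 2, mw (iw (sp i)) (sp i) = (0, false) := by decide
      exact Or.inl (h3 j)
  ne := by
    intro j h
    change D.VV {j} = D.VV ∅ at h
    rw [VV_single, VV_empty] at h
    exact X_not_le j (D.X_le_U _ (sr_ps j)) h.ge

theorem relIndex_ne_two (j : Fin 2) {a b : G} (ha : a ∈ D.X (sr j)) (hb : b ∈ D.X (sr j)) (ha1 : a ≠ 1) (hb1 : b ≠ 1)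
    (hab : a ≠ b) : ((D.psys h2 hs).V {j}).relIndex ((D.psys h2 hs).V ∅) ≠ 2 := by
  intro h
  change (D.VV {j}).relIndex (D.VV ∅) = 2 at h
  rw [VV_single, VV_empty] at h
  have haU := D.X_le_U _ (sr_ps j) ha
  have hbU := D.X_le_U _ (sr_ps j) hb
  have h3 : ∀ x ∈ D.X (sr j), x ∈ D.V j → x = 1 := D.not_V j (sr j) (sr_not_nr j)
  have h4 := Subgroup.index_eq_two_iff.1 (show ((D.V j).subgroupOf D.U).index = 2 from h)
  obtain ⟨c, hc⟩ := h4
  have h5 : ∀ x : D.U, ((x : G) ∈ D.V j) → ((x * c : D.U) : G) ∉ D.V j := by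
    intro x hx
    rcases hc x with ⟨k1, k2⟩ | ⟨k1, k2⟩
    · exact absurd hx k2
    · exact k2
  have h6 : ∀ x : D.U, ((x : G) ∉ D.V j) → ((x * c : D.U) : G) ∈ D.V j := by
    intro x hx
    rcases hc x with ⟨k1, k2⟩ | ⟨k1, k2⟩
    · exact k1
    · exact absurd k1 hx
  have ka := h6 ⟨a, haU⟩ (fun k => ha1 (h3 a ha k))
  have kb := h6 ⟨b, hbU⟩ (fun k => hb1 (h3 b hb k))
  have kc := mul_mem ka (inv_mem kb)
  have e : ((⟨a, haU⟩ * c : D.U) : G) * ((⟨b, hbU⟩ * c : D.U) : G)⁻¹ = a * b⁻¹ := by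
    show a * (c : G) * (b * (c : G))⁻¹ = a * b⁻¹
    group
  rw [e] at kc
  exact hab (mul_inv_eq_one.1 (h3 _ (mul_mem ha (inv_mem hb)) kc))

end canon

end OD

end Cfsg.Agent.H564.EPF
end

-- part: H564/EPF/Own
section
/-!
# S3499 (and S5745), own characteristic, socle `²F₄(q)` (helper564)

* `own_S_psys`, `own_T_psys` : `own_R` (helper737) with the `G`-side of helper470 for any parabolic system with `Rk`;
* `own_S_twf`, `own_T_twf` : socle `²F₄(q)`, `q ≥ 8`;
* `own_big_twf` : in the situation `Big`.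
-/

set_option autoImplicit false
set_option linter.unusedSectionVars false

namespace Cfsg.Agent.H564.EPF

open Cfsg.Agent.H284 (EPT)
open Cfsg.Agent.KFacts.RgdFilt Cfsg.Agent.H284.EPT Cfsg.Agent.H419.EP Cfsg.Agent.H737.EPO Cfsg.Agent.H209.EPX
open Cfsg.Agent.H470.EPO

section model

open Cfsg.Agent.KFacts.TwF4 Cfsg.Agent.KFacts.TwF4.SylU Cfsg.Agent.ChevalleyStructure.TwF4.TwistedFix

variable {K : Type} [Field K] [Fintype K]

/-- **the parabolic system of `²F₄(q)`** -/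
theorem exists_psys {m : ℕ} (hm : 1 ≤ m) (hK : Fintype.card K = 2 ^ (2 * m + 1)) :
    ∃ S : PSys ↥(Lie.twistedF4 K (2 ^ m)) 2 (Fin 2), Rk S ∧ ∀ j, (S.V {j}).relIndex (S.V ∅) ≠ 2 := by
  have : CharP K 2 := Cfsg.Agent.ChevalleyStructure.TwF4.Twisted.charP_two hK
  obtain ⟨φ, hφ⟩ := exists_rln hK
  have hfin : Finite (GL Lie.chevF4.Idx K) := inferInstance
  have : Finite ↥(Lie.twistedF4 K (2 ^ m)) := inferInstance
  have h8 : 8 ≤ Fintype.card K := by
    rw [hK]
    calc 8 = 2 ^ 3 := by norm_num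
      _ ≤ 2 ^ (2 * m + 1) := Nat.pow_le_pow_right (by norm_num) (by omega)
  obtain ⟨c, hc0, hc1⟩ : ∃ c : K, c ≠ 0 ∧ c ≠ 1 := by
    classical
    by_contra hcon
    push Not at hcon
    have h3 : (Finset.univ : Finset K) ⊆ {0, 1} := by
      intro x _
      by_cases hx : x = 0
      · simp [hx]
      · simp [hcon x hx]
    have h4 := (Finset.card_le_card h3).trans (Finset.card_le_two)
    rw [Finset.card_univ] at h4
    omega
  have hF : ∃ c : Kˣ, c ≠ 1 := ⟨Units.mk0 c hc0, fun h => hc1 (by simpa using congrArg Units.val h)⟩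
  let S := Cfsg.Agent.KFacts.TwF4.Inst.full hK hφ
  obtain ⟨P, hP⟩ := exists_sylow S hF rfl
  let D : OD ↥(Lie.twistedF4 K (2 ^ m)) := ofFull S (opp hK hφ)
  have hU : D.U = (P : Subgroup ↥(Lie.twistedF4 K (2 ^ m))) := hP.symm
  have h2 : IsPGroup 2 D.U := by rw [hU]; exact P.isPGroup'
  have hs : ∀ R : Subgroup ↥(Lie.twistedF4 K (2 ^ m)), D.U ≤ R → IsPGroup 2 R → R = D.U := by
    intro R hR hR2
    rw [hU] at hR ⊢
    exact P.is_maximal' hR2 hR
  refine ⟨D.psys h2 hs, OD.rk h2 hs, fun j => ?_⟩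
  fin_cases j
  · have k1 : ∀ t, S.o 0 t ∈ D.X (sr 0) := fun t => by
      have h3 : sr 0 = od 0 := by decide
      rw [h3]
      exact (S.mem_odd 0 _).2 ⟨t, rfl⟩
    have k0 : ∀ {t}, t ≠ 0 → S.o 0 t ≠ 1 := fun {t} ht h => ht (S.o_eq_one h)
    exact OD.relIndex_ne_two h2 hs 0 (k1 1) (k1 c) (k0 one_ne_zero) (k0 hc0) (fun h => hc1 (S.injO 0 h).symm)
  · have k1 : ∀ t, S.e 4 0 t ∈ D.X (sr 1) := fun t => by
      have h3 : sr 1 = ev 4 := by decide
      rw [h3]
      exact (S.mem_even 4 _).2 ⟨0, t, rfl⟩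
    have k0 : ∀ {t}, t ≠ 0 → S.e 4 0 t ≠ 1 := fun {t} ht h => ht (S.e_eq_one h).2
    exact OD.relIndex_ne_two h2 hs 1 (k1 1) (k1 c) (k0 one_ne_zero) (k0 hc0) (fun h => hc1 (S.injE 4 _ _ _ _ h).2.symm)

end model

section big

open Cfsg.Agent.H419.EP
open scoped MatrixGroups

variable {Q : Type} [Group Q] [Finite Q] {A : Subgroup Q} {Γ : Subgroup (MulAut Q)} {ι : Type} [Fintype ι]
  [DecidableEq ι] {F : Type} [Field F] [Fintype F] {S P : Subgroup (GL ι F)}

end big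

end Cfsg.Agent.H564.EPF
end
end

-- part: H542/EPX/OwnGlue
section
prune_inst 0x2010440031000000000000102000002000000002004000002160030203014000000200000a000010004600000000002811440000420000000a0004000000010000820002b0080104000006800000000000000000000000000000000000000000000000000
set_option linter.all false
open scoped Cfsg.Agent.FastGrp

-- part: H218/OWN/Pack
section
/-!
# Root group data of the groups of Lie type with lower bounds for the orders of the simple root groups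

`HasFiltQ p M q G` : `G` has a filtered root group datum of characteristic `p` and type `M`, generating `G`, with
`q i ≤ |X_i|` for the simple root groups. Instances:

* `fq_PSL`, `fq_PSp`, `fq_PSU_even`, `fq_PSU_odd`, `fq_PO_odd`, `fq_PO_minus`, `fq_PO_plus`;
* `fq_group` (all Chevalley groups `D.group K`), `fq_twD4`, `fq_twE6`.

`HasFiltQ.pack` : the datum of a simple group, with `GG = ⊤`, Borel–Tits (`BT`), connected diagram, no central elements.
-/

set_option autoImplicit false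
set_option linter.unusedSectionVars false

namespace Cfsg.Agent.H218.OWN

open Cfsg CoxeterSystem Cfsg.Agent.ChevalleyStructure.CoxeterGeom Cfsg.Agent.Tits.Roots Cfsg.Agent.Tits.Core
  Cfsg.Agent.Tits.RootComb Cfsg.Agent.Nodes.Comb Cfsg.Agent.Nodes.Reps Cfsg.Agent.Nodes.BNOf
  Cfsg.Agent.Nodes.Bruhat Cfsg.Agent.Nodes.LeviDec Cfsg.Agent.Nodes.NormX
open Cfsg.Agent.Nodes Cfsg.Agent.Nodes.RGDLib Cfsg.Agent.KFacts.RgdBorelTits Cfsg.Agent.KFacts.RgdFilt
  Cfsg.Agent.KFacts.RgdCharP Cfsg.Agent.KFacts.RgdPar Cfsg.Agent.KFacts.RgdVJ Cfsg.Agent.KFacts.RgdCent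

/-- `G` has a filtered root group datum of characteristic `p` and type `M` with `q i ≤ |X_i|` -/
def HasFiltQ (p : ℕ) {l : ℕ} (M : CoxeterMatrix (Fin l)) (q : Fin l → ℕ) (G : Type*) [Group G] : Prop :=
  ∃ (A : Fin l → Fin l → ℤ) (h : IsCartan M A) (T : Subgroup G) (n : Fin l → G)
    (X : (Fin l → ℤ) → Subgroup G) (R : RGD M.toCoxeterSystem h p T n X) (F : (Fin l → ℤ) → ℝ → Subgroup G),
    Finite M.Group ∧ Nodes.RGDLib.G1 M.toCoxeterSystem h X = ⊤ ∧ Filt R F ∧ ∀ i, q i ≤ Nat.card ↥(X (sr i))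

namespace HasFiltQ

variable {p l : ℕ} {M : CoxeterMatrix (Fin l)} {q : Fin l → ℕ} {G H : Type*} [Group G] [Group H]

theorem hasFilt (hG : HasFiltQ p M q G) : HasFilt p G := by
  obtain ⟨A, h, T, n, X, R, F, h1, h2, h3, -⟩ := hG
  exact ⟨l, M, A, h, T, n, X, R, F, h1, h2, h3⟩

theorem mono (hG : HasFiltQ p M q G) {q' : Fin l → ℕ} (hq : ∀ i, q' i ≤ q i) : HasFiltQ p M q' G := by
  obtain ⟨A, h, T, n, X, R, F, h1, h2, h3, h4⟩ := hG
  exact ⟨A, h, T, n, X, R, F, h1, h2, h3, fun i => (hq i).trans (h4 i)⟩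

theorem of_equiv [Finite G] (e : G ≃* H) (hG : HasFiltQ p M q G) : HasFiltQ p M q H := by
  obtain ⟨A, h, T, n, X, R, F, hW, hX, hF, hc⟩ := hG
  refine ⟨A, h, T.map e.toMonoidHom, fun i => e (n i), fun x => (X x).map e.toMonoidHom,
    Nodes.RGDLib.rgd_map_of_injective R e.toMonoidHom e.injective, fun x s => (F x s).map e.toMonoidHom, hW, ?_,
    filt_map hF e.toMonoidHom _, fun i => (hc i).trans (Nat.card_congr
      ((X (sr i)).equivMapOfInjective e.toMonoidHom e.injective).toEquiv).le⟩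
  have h1 : (Nodes.RGDLib.G1 M.toCoxeterSystem h X).map e.toMonoidHom =
      Nodes.RGDLib.G1 M.toCoxeterSystem h (fun x => (X x).map e.toMonoidHom) := by
    unfold Nodes.RGDLib.G1 RGD.Sup
    rw [Subgroup.map_iSup]
  rw [← h1, hX, Subgroup.map_top_of_surjective _ e.surjective]

/-- **the package** -/
theorem pack [Finite G] [Fact p.Prime] (hs : IsSimpleGroup G) (hc : Subgroup.center G = ⊥) (hG : HasFiltQ p M q G) :
    ∃ (A : Fin l → Fin l → ℤ) (h : IsCartan M A) (T : Subgroup G) (n : Fin l → G)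
      (X : (Fin l → ℤ) → Subgroup G), Finite M.Group ∧ RGD M.toCoxeterSystem h p T n X ∧
      GG M.toCoxeterSystem h T X = ⊤ ∧ RGD.Sup X {x | IsRoot M.toCoxeterSystem h x} = ⊤ ∧ Conn M ∧
      BT M.toCoxeterSystem h p T X ∧ NoCent M.toCoxeterSystem h T X ∧ ∀ i, q i ≤ Nat.card ↥(X (sr i)) := by
  obtain ⟨A, h, T, n, X, R, F, hW, hX, hF, hq⟩ := hG
  refine ⟨A, h, T, n, X, hW, R, GG_eq_top hX, hX, KFacts.RgdLieCharP.conn_of_simple R hX hc, ?_,
    KFacts.RgdLieCharP.noCent_of_center hX hc, hq⟩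
  intro K hK hK1
  exact borel_tits_of_filt hF hX hK hK1

end HasFiltQ

end Cfsg.Agent.H218.OWN

/-! ### classical groups -/

namespace Cfsg.Agent.H218.OWN

open Cfsg Cfsg.Agent.ChevalleyStructure.CoxeterGeom Cfsg.Agent.Tits.Roots
open Cfsg.Agent.Nodes.Comb Cfsg.Agent.Nodes.Reps Cfsg.Agent.Nodes.WittRoot Cfsg.Agent.Nodes.BNOf
open Cfsg.Agent.Nodes Cfsg.Agent.Nodes.RGDLib Cfsg.Agent.Nodes.WittAll
open Cfsg.Agent.TitsThree Cfsg.Agent.TitsThree.Siegel Cfsg.Agent.TitsThree.WittFrame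
  Cfsg.Agent.TitsThree.WittWeyl Cfsg.Agent.TitsThree.FrameCN
open Cfsg.Agent.KFacts.RgdBorelTits Cfsg.Agent.KFacts.RgdFilt Cfsg.Agent.KFacts.RgdFiltWitt

theorem hasFiltQ_of_sl {p : ℕ} {G : Type*} [Group G] {l : ℕ} {M : CoxeterMatrix (Fin l)} {A : Fin l → Fin l → ℤ}
    {h : IsCartan M A} {T : Subgroup G} {n : Fin l → G} {X : (Fin l → ℤ) → Subgroup G} {q : Fin l → ℕ}
    (hW : Finite M.Group) (R : RGD M.toCoxeterSystem h p T n X) (hX : G1 M.toCoxeterSystem h X = ⊤)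
    (h4 : ∀ i j, M i j ≠ 4) (h6 : ∀ i j, M i j ≠ 6) (hq : ∀ i, q i ≤ Nat.card ↥(X (sr i))) : HasFiltQ p M q G :=
  ⟨A, h, T, n, X, R, F2 X X, hW, hX, (intComm_of_sl R (sl_of_ne h4 h6)).filt, hq⟩

section TypeC

open Cfsg.Agent.Nodes.TypeC

variable {F : Type*} [Field F] {V : Type*} [AddCommGroup V] [Module F V] {H : HForm F V} {n : ℕ}
  {Fr : Frame H (Fin n)} {K : Type*} [Group K] (M : Model Fr K) {p : ℕ}

theorem fq_C (hA : AmbT Fr p M.I) [Finite V] [Fact p.Prime] [CharP F p] {p0 : Fr.Adm} (hp0 : p0.c ≠ 0)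
    (hn : 0 < n) {q : Fin n → ℕ} (h1 : ∀ i : Fin n, (i : ℕ) + 1 < n → q i ≤ Nat.card F)
    (h2 : ∀ i : Fin n, ¬ (i : ℕ) + 1 < n → q i ≤ Nat.card Fr.Adm) : HasFiltQ p (CoxeterMatrix.B n) q K := by
  have : Finite (V ≃ₗ[F] V) := Finite.of_injective (fun g : V ≃ₗ[F] V => (g : V → V)) DFunLike.coe_injective
  have hF : Filt (rgdC hA hp0 (CoxeterMatrix.B n).toCoxeterSystem) (F2 (zr Fr) (rg Fr)) :=
    (two hA (T := Nodes.WittRGD.Tor Fr M.I) (fun i => ⟨nn_mem hA p0 i, Nodes.WittRGD.mono_nn hp0 i⟩)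
      (fun _ ht => ⟨ht.1, ht.2⟩) _).filt
  have hF1 := filt_restrict hF M.I (fun x _ => hA.rg_le x)
    (n' := fun i => (⟨Nodes.WittRGD.nn Fr p0 i, nn_mem hA p0 i⟩ : M.I)) (fun _ => rfl)
    (rgd_restrict (rgdC hA hp0 _) M.I (fun x _ => hA.rg_le x) (fun i => nn_mem hA p0 i))
  have hF2 := filt_map hF1 M.φ (rgdC_model M hA hp0 (CoxeterMatrix.B n).toCoxeterSystem)
  refine ⟨A n, isCartan n, _, _, WittModel.X M, rgdC_model M hA hp0 _, _,
    finite_W (CoxeterMatrix.B n).toCoxeterSystem, Nodes.WittModel.G1_eq_top _ hn _, hF2, fun i => ?_⟩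
  by_cases hi : (i : ℕ) + 1 < n
  · exact (h1 i hi).trans (H742.card_X_of_lt M hi).ge
  · exact (h2 i hi).trans (H742.card_X_last M hi).ge

end TypeC

/-- **`PSL_{n+1}(F)`** -/
theorem fq_PSL {F : Type*} [Field F] [Finite F] (n : ℕ) {p : ℕ} [Fact p.Prime] [CharP F p] :
    HasFiltQ p (Cfsg.Agent.LieRecognition.BNCox.cA n) (fun _ => Nat.card F)
      (Matrix.ProjectiveSpecialLinearGroup (Fin (n + 1)) F) := by
  have hc : ∀ i j : Fin n, Cfsg.Agent.LieRecognition.BNCox.cA n i j ≤ 3 := by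
    intro i j
    rw [Cfsg.Agent.LieRecognition.BNCox.cA_apply]
    show (if (i : ℕ) = j then 1 else if (i : ℕ) + 1 = j ∨ (j : ℕ) + 1 = i then 3 else 2) ≤ 3
    split_ifs <;> norm_num
  have hW : Finite (Cfsg.Agent.LieRecognition.BNCox.cA n).Group :=
    Nodes.RootsA.finite_W (Cfsg.Agent.LieRecognition.BNCox.cA n).toCoxeterSystem (Nodes.RootsA.isCartan n)
  refine hasFiltQ_of_sl (h := Nodes.RootsA.isCartan n) hW (Nodes.RGDTypeA.rgd_psl _ _)
    (Nodes.RGDTypeA.G1_psl_eq_top _ _)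
    (fun i j h => by have := hc i j; omega) (fun i j h => by have := hc i j; omega) fun i => le_of_eq ?_
  symm
  rw [Nodes.RGDTypeA.X_sr]
  exact H804.PanPSL.card_map_XX (Fin.castSucc_lt_succ).ne

/-! ### Unitary and symplectic groups -/

section US

open Cfsg.Agent.Nodes.WittU Cfsg.Agent.Nodes.WittInst Cfsg.Agent.TitsThree.WBridge
open Cfsg.Agent.LieClassical.HermBasic Cfsg.Agent.TitsThree.KSideU

/-- **`PSp_{2m}(F)`** -/
theorem fq_PSp {F : Type*} [Field F] [Finite F] {m : ℕ} (hm : 1 ≤ m) {p : ℕ}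
    [Fact p.Prime] [CharP F p] : HasFiltQ p (CoxeterMatrix.B m) (fun _ => Nat.card F) (PSp m F) := by
  have := Omega.ML.Ex.Typ.finite_adm (SpIdent.frame m F)
  refine fq_C (KInstSp.model m F) (AmbT.of_amb amb_Sp p) (p0 := SpIdent.adm 1) one_ne_zero hm (fun _ _ => le_rfl)
    fun _ _ => ?_
  exact Nat.card_le_card_of_injective (fun c : F => (SpIdent.adm c : (SpIdent.frame m F).Adm)) fun a b e =>
    congrArg Frame.Adm.c e

variable {F : Type*} [Field F] [Fintype F] {q m : ℕ}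

/-- **`PSU_{2m}(q)`** -/
theorem fq_PSU_even (hF : Fintype.card F = q ^ 2) (hm : 2 ≤ m) {p : ℕ} [Fact p.Prime] [CharP F p] :
    HasFiltQ p (CoxeterMatrix.B m) (fun i => if (i : ℕ) + 1 < m then q ^ 2 else q) (PSU (2 * m) F q) := by
  obtain ⟨W, hW⟩ := exists_wframe_even hF (N := 2 * m) rfl
  obtain ⟨p0, hp0, -⟩ := exists_adm hF W
  have := Omega.ML.Ex.Typ.finite_adm (toFrame W)
  refine fq_C (KInstU.model hF (by omega) W) (AmbT.of_amb (amb_U hF W) p) hp0 (by omega)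
    (fun i hi => ?_) fun i hi => ?_
  · rw [if_pos hi, ← hF, Nat.card_eq_fintype_card]
  · rw [if_neg hi]
    have h0 : (0 : F) ^ q = 0 := zero_pow_q hF
    refine (ClassicalGeometry.HermLines.card_trace_eq hF h0).ge.trans ?_
    refine Nat.card_le_card_of_injective (fun c : {s : F // s + s ^ q = 0} =>
      (⟨0, c.1, W.V0.zero_mem, ?_⟩ : (toFrame W).Adm)) fun a b e => Subtype.ext (congrArg Frame.Adm.c e)
    rw [ok_iff, herm_zero_left, neg_zero]
    exact c.2

/-- **`PSU_{2m+1}(q)`** -/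
theorem fq_PSU_odd (hF : Fintype.card F = q ^ 2) (hm : 1 ≤ m) {p : ℕ} [Fact p.Prime] [CharP F p] :
    HasFiltQ p (CoxeterMatrix.B m) (fun i => if (i : ℕ) + 1 < m then q ^ 2 else q ^ 3) (PSU (2 * m + 1) F q) := by
  obtain ⟨W, d, hd, hW⟩ := exists_wframe_odd hF (N := 2 * m + 1) rfl
  obtain ⟨p0, hp0, -⟩ := exists_adm hF W
  have := Omega.ML.Ex.Typ.finite_adm (toFrame W)
  have hd0 : d ≠ 0 := by
    rintro rfl
    rw [herm_zero_left] at hd
    exact zero_ne_one hd
  refine fq_C (KInstU.model hF (by omega) W) (AmbT.of_amb (amb_U hF W) p) hp0 (by omega)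
    (fun i hi => ?_) fun i hi => ?_
  · rw [if_pos hi, ← hF, Nat.card_eq_fintype_card]
  · rw [if_neg hi]
    have h1 : Nat.card (Σ a : F, {s : F // s + s ^ q = -hermForm (2 * m + 1) F q (a • d) (a • d)}) = q ^ 3 := by
      rw [Nat.card_sigma, Finset.sum_congr rfl (g := fun _ => q), Finset.sum_const, Finset.card_univ, hF,
        smul_eq_mul, ← pow_succ]
      intro a _
      exact ClassicalGeometry.HermLines.card_trace_eq hF (by rw [neg_pow_q hF, herm_self_pow hF])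
    refine h1.ge.trans ?_
    refine Nat.card_le_card_of_injective
      (fun x : Σ a : F, {s : F // s + s ^ q = -hermForm (2 * m + 1) F q (a • d) (a • d)} =>
        (⟨x.1 • d, x.2.1, ?_, x.2.2⟩ : (toFrame W).Adm)) ?_
    · rw [hW]
      exact Submodule.smul_mem _ _ (Submodule.mem_span_singleton_self d)
    · rintro ⟨a, s, hs⟩ ⟨b, t, ht⟩ e
      have e1 : a • d = b • d := congrArg Frame.Adm.w e
      have e2 : s = t := congrArg Frame.Adm.c e
      obtain rfl : a = b := smul_left_injective F hd0 e1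
      subst e2
      rfl

end US

/-! ### Orthogonal groups -/

section Orthogonal

open QuadraticMap
open Cfsg.Agent.LieClassical Cfsg.Agent.LieClassical.OrthCore Cfsg.Agent.LieClassical.OrthTrans
open Cfsg.Agent.LieClassical.OrthSimple Cfsg.Agent.LieClassical.OrthFinite
open Cfsg.Agent.LieClassical.OrthForms
open Cfsg.Agent.TitsThree.WBridge Cfsg.Agent.TitsThree.KSideO Cfsg.Agent.TitsThree.StdData
open Cfsg.Agent.Nodes.WittInst

variable {F : Type*} [Field F] [Finite F] {m : ℕ}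

/-- **`PΩ_{2m+1}(F)`, `F` of odd characteristic** -/
theorem fq_PO_odd (h2 : (2 : F) ≠ 0) (hm : 2 ≤ m) {p : ℕ} [Fact p.Prime] [CharP F p] :
    HasFiltQ p (CoxeterMatrix.B m) (fun _ => Nat.card F) (Cfsg.POmega F (Cfsg.quadFormOdd m F)) := by
  rw [← coe_oddForm]
  have hG : _root_.Cfsg.Agent.LieClassical.OrthTrans.Good (oddForm m F) := by
    apply good_of_finite (nondeg_oddForm m F h2)
    rw [Module.finrank_fintype_fun_eq_card, Fintype.card_sum, Fintype.card_sum, Fintype.card_fin,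
      Fintype.card_unit]
    omega
  have hp : ((embOdd m F).ngt ⟨1, -1 ^ 2, rfl⟩).c ≠ 0 := by
    change (1 : F)⁻¹ * (-1 ^ 2) ≠ 0
    simp
  have := Omega.ML.Ex.Typ.finite_adm (toFrame (wodd m F))
  refine fq_C (model (wodd m F) hG ⟨_, hp⟩) (AmbT.of_amb (amb_O_of_two _ h2) p) hp (by omega)
    (fun _ _ => le_rfl) fun _ _ => ?_
  refine Nat.card_le_card_of_injective (fun w : F => (embOdd m F).ngt ⟨w, -w ^ 2, rfl⟩) fun a b e => ?_
  have e1 : (embOdd m F).j a = (embOdd m F).j b := congrArg Frame.Adm.w e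
  have e2 := congrFun e1 (Sum.inl ())
  simpa [embOdd] using e2

/-- **`PΩ⁻_{2m+2}(F)`** -/
theorem fq_PO_minus (a b : F)
    (hab : ∀ z₁ z₂ : F, z₁ ^ 2 + a * z₁ * z₂ + b * z₂ ^ 2 = 0 → z₁ = 0 ∧ z₂ = 0)
    (hm : 2 ≤ m) {p : ℕ} [Fact p.Prime] [CharP F p] :
    HasFiltQ p (CoxeterMatrix.B m) (fun i => if (i : ℕ) + 1 < m then Nat.card F else Nat.card F ^ 2)
      (Cfsg.POmega F (Cfsg.quadFormMinus m F a b)) := by
  rw [← coe_minusForm]
  have hG : _root_.Cfsg.Agent.LieClassical.OrthTrans.Good (minusForm m F a b) := by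
    apply good_of_finite (nondeg_minusForm m F a b hab)
    rw [Module.finrank_fintype_fun_eq_card, Fintype.card_sum, Fintype.card_sum, Fintype.card_fin,
      Fintype.card_fin]
    omega
  have hp : ((embMinus m F a b hab).ngt ⟨(1, 0), -nf a b (1, 0), rfl⟩).c ≠ 0 := by
    change (1 : F)⁻¹ * (-nf a b (1, 0)) ≠ 0
    simp [nf]
  have hA : AmbT (toFrame (wminus m F a b hab)) p (E (minusForm m F a b)) := by
    by_cases h2 : (2 : F) = 0
    · have hp2 : p = 2 := by
        have h3 : CharP F 2 := CharTwo.of_one_ne_zero_of_two_eq_zero one_ne_zero h2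
        exact CharP.eq F ‹CharP F p› h3
      subst hp2
      exact ambT_O _ fun g hg hg2 hb => fixp_minus a b hab h2 hm hG hg hg2 hb
    · exact AmbT.of_amb (amb_O_of_two _ h2) p
  have := Omega.ML.Ex.Typ.finite_adm (toFrame (wminus m F a b hab))
  refine fq_C (model (wminus m F a b hab) hG ⟨_, hp⟩) hA hp (by omega)
    (fun i hi => by rw [if_pos hi]) fun i hi => ?_
  rw [if_neg hi, _root_.sq, ← Nat.card_prod]
  refine Nat.card_le_card_of_injective (fun w : F × F => (embMinus m F a b hab).ngt ⟨w, -nf a b w, rfl⟩)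
    fun x y e => ?_
  have e1 : (embMinus m F a b hab).j x = (embMinus m F a b hab).j y := congrArg Frame.Adm.w e
  have e2 := congrFun e1 (Sum.inr 0)
  have e3 := congrFun e1 (Sum.inr 1)
  exact Prod.ext (by simpa [embMinus] using e2) (by simpa [embMinus] using e3)

/-- **`PΩ⁺_{2(n+3)}(F)`** -/
theorem fq_PO_plus (n : ℕ) {p : ℕ} [Fact p.Prime] [CharP F p] :
    HasFiltQ p (Nodes.TypeD.M (n + 1)) (fun _ => Nat.card F) (Cfsg.POmega F (Cfsg.quadFormPlus (n + 3) F)) := by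
  rw [← coe_plusForm]
  have hG : _root_.Cfsg.Agent.LieClassical.OrthTrans.Good (plusForm (n + 3) F) := by
    apply good_of_finite (nondeg_plusForm (n + 3) F)
    rw [Module.finrank_fintype_fun_eq_card, Fintype.card_sum, Fintype.card_fin]
    omega
  have hc : ∀ i j : Fin (n + 1 + 2), Nodes.TypeD.M (n + 1) i j ≤ 3 := by
    intro i j
    show (if i = j then 1 else if Nodes.TypeD.Adj i j ∨ Nodes.TypeD.Adj j i then 3 else 2) ≤ 3
    split_ifs <;> norm_num
  refine hasFiltQ_of_sl (Nodes.TypeD.finite_W (Nodes.TypeD.M (n + 1)).toCoxeterSystem)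
    (rgdD_model (wplus (n + 3) F) hG (amb_plus _) (adm_plus _) _)
    (G1D_eq_top (wplus (n + 3) F) (toPOmega hG) (toPOmega_surjective hG) (adm_plus _) _)
    (fun i j h => by have := hc i j; omega) (fun i j h => by have := hc i j; omega) fun i => ?_
  let V := (Fin (n + 3) ⊕ Fin (n + 3)) → F
  have : Finite (V ≃ₗ[F] V) := Finite.of_injective (fun g : V ≃ₗ[F] V => (g : V → V)) DFunLike.coe_injective
  let cs := (Nodes.TypeD.M (n + 1)).toCoxeterSystem
  have : Finite (Nodes.TypeD.M (n + 1)).Group := Nodes.TypeD.finite_W cs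
  have Rd := rgd_restrict (rgdD (amb_plus (n + 3)) (adm_plus (n + 3)) cs) (E (plusForm (n + 3) F))
    (fun x _ => rgD_le (wplus (n + 3) F) (amb_plus _) x) (fun i => WittRGDD.nn_mem (amb_plus _) i) (p := p)
  refine le_of_eq (Eq.symm ?_)
  refine (Nodes.CardSup.card_map_X Rd (toPOmega hG) (ker_toPOmega hG) (isRoot_sr cs _ i)).trans ?_
  refine (Nat.card_congr (Subgroup.subgroupOfEquivOfLe (rgD_le (wplus (n + 3) F) (amb_plus _) (sr i))).toEquiv).trans ?_
  rw [WittRGDD.rg_sr]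
  exact Nodes.CardWitt.card_XG _ (Nodes.TypeD.ok_nx i)

end Orthogonal

end Cfsg.Agent.H218.OWN

/-! ### exceptional groups -/

namespace Cfsg.Agent.H218.OWN

open CoxeterSystem Cfsg.Agent.ChevalleyStructure.CoxeterGeom Cfsg.Agent.Tits.Roots Cfsg.Agent.Tits.Core
  Cfsg.Agent.Tits.RootComb Cfsg.Agent.Nodes.Comb Cfsg.Agent.Nodes.Reps Cfsg.Agent.Nodes.BNOf
open Cfsg.Lie Cfsg.Agent.ChevalleyStructure Cfsg.Agent.ChevalleyStructure.Elts
  Cfsg.Agent.ChevalleyStructure.RootVec Cfsg.Agent.ChevalleyStructure.RootVecTab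
  Cfsg.Agent.ChevalleyStructure.NPerm Cfsg.Agent.ChevalleyStructure.CoxeterGeomTypes
open Cfsg.Agent.Nodes Cfsg.Agent.Nodes.RGDChev Cfsg.Agent.KFacts.RgdBorelTits Cfsg.Agent.KFacts.RgdFilt
open Cfsg.Agent.KFacts.RgdFiltChev

universe u

/-- **the Chevalley groups** -/
theorem fq_group {D : ChevalleyDatum} {l : ℕ} {M : CoxeterMatrix (Fin l)} (hp : IsType D l M) (K : Type u)
    [Field K] [Finite K] (p : ℕ) [CharP K p] : HasFiltQ p M (fun _ => Nat.card K) ↥(D.group K) := by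
  have : Fact p.Prime := ⟨CharP.char_is_prime K p⟩
  exact ⟨cartanOf D l, hp.isCartan, _, _, _, rgd (K := K) hp M.toCoxeterSystem p, _,
    finite_W hp M.toCoxeterSystem, G1_eq_top hp _, filt hp M.toCoxeterSystem p,
    fun i => (Cfsg.Agent.H35.ExcIdx.card_XX hp K M.toCoxeterSystem (isRoot_sr _ hp.isCartan i)).ge⟩

end Cfsg.Agent.H218.OWN

namespace Cfsg.Agent.H218.OWN

open CoxeterSystem Cfsg.Agent.ChevalleyStructure.CoxeterGeom Cfsg.Agent.Tits.Roots Cfsg.Agent.Tits.Core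
  Cfsg.Agent.Nodes.BNOf Cfsg.Agent.Nodes.RGDTwGen Cfsg.Agent.Nodes.RGDChev Cfsg.Agent.Nodes.RGDFold
open Cfsg.Lie Cfsg.Agent.ChevalleyStructure Cfsg.Agent.ChevalleyStructure.Elts
  Cfsg.Agent.ChevalleyStructure.RootVec Cfsg.Agent.ChevalleyStructure.RootVecTab
open Cfsg.Agent.Nodes Cfsg.Agent.KFacts.RgdBorelTits Cfsg.Agent.KFacts.RgdFilt Cfsg.Agent.KFacts.RgdFiltTwAll

universe u

/-- **`³D₄(q)`** -/
theorem fq_twD4 {K : Type} [Field K] [Fintype K] {q : ℕ} (hq : IsPrimePow q) (hK : Fintype.card K = q ^ 3)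
    (p : ℕ) [CharP K p] : HasFiltQ p CoxeterMatrix.G₂ (fun i => if i = 0 then q else q ^ 3) ↥(twistedD4 K q) := by
  obtain ⟨φ, hφ⟩ := D4Fixed.exists_frob hq hK
  have : Fact p.Prime := ⟨CharP.char_is_prime K p⟩
  have hle := D4Fixed.twisted_le_fix hK hφ
  refine ⟨_, RGDTwD4.isCartan, _, _, _, Cfsg.Agent.Nodes.RGDTwD4.rgd CoxeterMatrix.G₂.toCoxeterSystem hK hφ p, _,
    RGDFold.finite_W (hp := RGDTwD4.hp) CoxeterMatrix.G₂.toCoxeterSystem RGDTwD4.isCartan RGDTwD4.foldData,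
    Cfsg.Agent.Nodes.RGDTwD4.G1_eq_top _ hK hφ,
    filt_fold CoxeterMatrix.G₂.toCoxeterSystem RGDTwD4.isCartan RGDTwD4.foldData
      (RGDTwD4.foldGrp hφ (D4Fixed.twisted_le_fix hK hφ)) p, fun i => ?_⟩
  fin_cases i
  · exact (Cfsg.Agent.ClosedExc.TwD4.card_X0 hφ hle hq.two_le hK).ge
  · exact ((Cfsg.Agent.ClosedExc.TwD4.card_X1 hφ hle).trans hK).ge

/-- **`²E₆(q)`** -/
theorem fq_twE6 {K : Type u} [Field K] [Fintype K] {q : ℕ} (hq : IsPrimePow q) (hK : Fintype.card K = q ^ 2)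
    (p : ℕ) [CharP K p] : HasFiltQ p CoxeterMatrix.F₄ (fun i => if (i : ℕ) < 2 then q else q ^ 2)
      ↥(twistedE6 K q) := by
  obtain ⟨φ, hφ, hqq⟩ := TwE6Basic.exists_frob hq hK
  have : Fact p.Prime := ⟨CharP.char_is_prime K p⟩
  exact ⟨_, RGDTwE6.isCartan, _, _, _, Cfsg.Agent.Nodes.RGDTwE6.rgd CoxeterMatrix.F₄.toCoxeterSystem hφ hqq p, _,
    RGDFold.finite_W (hp := RGDTwE6.hp) CoxeterMatrix.F₄.toCoxeterSystem RGDTwE6.isCartan RGDTwE6.foldData,
    Cfsg.Agent.Nodes.RGDTwE6.G1_eq_top _ hφ hqq,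
    filt_fold CoxeterMatrix.F₄.toCoxeterSystem RGDTwE6.isCartan RGDTwE6.foldData
      (RGDTwE6.foldGrp hφ hqq) p,
    fun i => (Cfsg.Agent.H35.ExcIdx.card_X_tw hφ hqq hq.two_le hK i).ge⟩

end Cfsg.Agent.H218.OWN
end

-- part: H542/EPX/OwnGlue
section
/-!
# S5745: the socles of own characteristic (helper542)

`T` simple of Lie type in characteristic `p`. Then

* `T` has a filtered root group datum of rank at least two, all simple root groups of order at least three; or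
* `p = 2` and `OverTwo T` : `T` is a group over the field with two elements; or
* `RankOne p T` : `PSL₂`, `PSU₃`, `Sz`, `²G₂`; or
* `p = 2` and `T ≅ ²F₄(q)`.

`own_reduce` : by `own_S_filtC` (helper470) the first case does not occur for a stabiliser `H` with socle `T ^ k`.
-/

set_option autoImplicit false

namespace Cfsg.Agent.H542.EPX

open Cfsg.Agent.H284 Cfsg.Agent.H209.EPX Cfsg.Agent.H284.Pan Cfsg.Agent.H218.OWN
open Cfsg.Agent.ChevalleyStructure.CoxeterGeomTypes Cfsg.Agent.Nodes.RGDChev Cfsg.Agent.KFacts.RgdFilt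
open Cfsg.Agent.KFacts.RgdBorelTits

/-- the groups over the field with two elements which have a simple root group of order two -/
def OverTwo (T : Type) [Group T] : Prop :=
  (∃ (F : Type) (_ : Field F) (_ : Fintype F) (n : ℕ), Fintype.card F = 2 ∧ 3 ≤ n ∧
    Nonempty (T ≃* Matrix.ProjectiveSpecialLinearGroup (Fin n) F)) ∨
  (∃ (F : Type) (_ : Field F) (_ : Fintype F) (m : ℕ), Fintype.card F = 2 ∧ 3 ≤ m ∧ Nonempty (T ≃* PSp m F)) ∨
  (∃ (F : Type) (_ : Field F) (_ : Fintype F) (m : ℕ), Fintype.card F = 4 ∧ 2 ≤ m ∧ Nonempty (T ≃* PSU (2 * m) F 2)) ∨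
  (∃ (F : Type) (_ : Field F) (_ : Fintype F) (m : ℕ), Fintype.card F = 2 ∧ 4 ≤ m ∧
    Nonempty (T ≃* POmega F (quadFormPlus m F))) ∨
  (∃ (F : Type) (_ : Field F) (_ : Fintype F) (m : ℕ) (a b : F), Fintype.card F = 2 ∧ 4 ≤ m ∧
    (∀ z₁ z₂ : F, z₁ ^ 2 + a * z₁ * z₂ + b * z₂ ^ 2 = 0 → z₁ = 0 ∧ z₂ = 0) ∧
    Nonempty (T ≃* POmega F (quadFormMinus (m - 1) F a b))) ∨
  (∃ (F : Type) (_ : Field F) (_ : Fintype F), Fintype.card F = 2 ∧
    (Nonempty (T ≃* Lie.chevF4.group F) ∨ Nonempty (T ≃* Lie.chevE6.group F) ∨ Nonempty (T ≃* Lie.chevE7.group F) ∨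
      Nonempty (T ≃* Lie.chevE8.group F))) ∨
  (∃ (K : Type) (_ : Field K) (_ : Fintype K), Fintype.card K = 4 ∧ Nonempty (T ≃* Lie.twistedE6 K 2)) ∨
  (∃ (K : Type) (_ : Field K) (_ : Fintype K), Fintype.card K = 8 ∧ Nonempty (T ≃* Lie.twistedD4 K 2))

/-- the groups of rank one -/
def RankOne (p : ℕ) (T : Type) [Group T] : Prop :=
  (∃ (F : Type) (_ : Field F) (_ : Fintype F) (_ : CharP F p), 4 ≤ Fintype.card F ∧
    Nonempty (T ≃* Matrix.ProjectiveSpecialLinearGroup (Fin 2) F)) ∨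
  (∃ (F : Type) (_ : Field F) (_ : Fintype F) (_ : CharP F p) (q : ℕ), Fintype.card F = q ^ 2 ∧ 3 ≤ q ∧
    Nonempty (T ≃* PSU 3 F q)) ∨
  (p = 2 ∧ Lie.IsoSuzuki T) ∨ (p = 3 ∧ Lie.IsoRee T)

/-- a filtered root group datum of rank at least two, all simple root groups of order at least three -/
def Big (p : ℕ) (T : Type) [Group T] : Prop :=
  ∃ (l : ℕ) (M : CoxeterMatrix (Fin l)), 2 ≤ l ∧ FiltC p 3 M T

theorem big_of {p l : ℕ} {M : CoxeterMatrix (Fin l)} {q : Fin l → ℕ} {T S : Type} [Group T] [Group S] [Finite T]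
    (hl : 2 ≤ l) (h : HasFiltQ p M q S) (e : T ≃* S) (hq : ∀ i, 3 ≤ q i) : Big p T := by
  have : Finite S := Finite.of_equiv T e.toEquiv
  refine ⟨l, M, hl, FiltC.of_equiv e.symm ?_⟩
  obtain ⟨A, h, T, n, X, R, F, h1, h2, h3, h4⟩ := h
  exact ⟨A, h, T, n, X, R, F, h1, h2, h3, fun i => (hq i).trans (h4 i)⟩

theorem two_of_card {F : Type} [Field F] [Fintype F] {p : ℕ} [CharP F p] [Fact p.Prime] {k : ℕ}
    (h : Fintype.card F = 2 ^ k) : p = 2 := by
  obtain ⟨⟨n, hn⟩, hp, hc⟩ := FiniteField.card F p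
  simp only [PNat.mk_coe] at hc
  rw [hc] at h
  have h1 : p ∣ 2 ^ k := h ▸ dvd_pow_self p hn.ne'
  exact (Nat.prime_dvd_prime_iff_eq hp Nat.prime_two).1 (hp.dvd_of_dvd_pow h1)

/-- **The four cases.** -/
theorem own_cases {T : Type} [Group T] [Finite T] {p : ℕ} [Fact p.Prime] (h : IsLieTypeChar p T) :
    Big p T ∨ (p = 2 ∧ OverTwo T) ∨ RankOne p T ∨ (p = 2 ∧ Lie.Iso2F4 T) := by
  classical
  have chr : ∀ {F : Type} [Field F] [Fintype F] [CharP F p] {k : ℕ}, k ≠ 0 → Fintype.card F = 2 ^ k → p = 2 :=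
    fun _ h => two_of_card h
  have c2 : ∀ {F : Type} [Field F] [Fintype F], 2 ≤ Fintype.card F := fun {F} _ _ => Fintype.one_lt_card
  rcases h with h | h | h | h | h | h | h | h | h | h | h
  · obtain ⟨F, i1, i2, i3, n, hn, hn2, ⟨e⟩⟩ := h
    rcases (by omega : n = 2 ∨ 3 ≤ n) with rfl | h3
    · exact Or.inr (Or.inr (Or.inl (Or.inl ⟨F, i1, i2, i3, hn2 rfl, ⟨e⟩⟩)))
    · by_cases hF : Fintype.card F = 2
      · exact Or.inr (Or.inl ⟨chr one_ne_zero (by rw [hF]; rfl), Or.inl ⟨F, i1, i2, n, hF, h3, ⟨e⟩⟩⟩)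
      · obtain ⟨m, rfl⟩ : ∃ m, n = m + 1 := ⟨n - 1, by omega⟩
        refine Or.inl (big_of (by omega) (fq_PSL (F := F) m (p := p)) e fun i => ?_)
        rw [Nat.card_eq_fintype_card]
        have := c2 (F := F)
        omega
  · obtain ⟨F, i1, i2, i3, m, hm, hm2, ⟨e⟩⟩ := h
    by_cases hF : Fintype.card F = 2
    · refine Or.inr (Or.inl ⟨chr one_ne_zero (by rw [hF]; rfl), Or.inr (Or.inl ⟨F, i1, i2, m, hF, ?_, ⟨e⟩⟩)⟩)
      by_contra hcon
      have := hm2 (by omega)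
      omega
    · refine Or.inl (big_of hm (fq_PSp (F := F) (m := m) (by omega) (p := p)) e fun i => ?_)
      rw [Nat.card_eq_fintype_card]
      have := c2 (F := F)
      omega
  · obtain ⟨F, i1, i2, i3, n, q, hF, hn, hnq, ⟨e⟩⟩ := h
    have hq2 : 2 ≤ q := by
      have := c2 (F := F)
      rw [hF] at this
      nlinarith only [this]
    rcases (by omega : n = 3 ∨ 4 ≤ n) with rfl | h4
    · exact Or.inr (Or.inr (Or.inl (Or.inr (Or.inl ⟨F, i1, i2, i3, q, hF, by
        by_contra hcon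
        exact hnq ⟨rfl, by omega⟩, ⟨e⟩⟩))))
    · have hq4 : 4 ≤ q ^ 2 := by nlinarith only [hq2]
      rcases Nat.even_or_odd' n with ⟨m, rfl | rfl⟩
      · by_cases hq : q = 2
        · subst hq
          exact Or.inr (Or.inl ⟨chr two_ne_zero hF, Or.inr (Or.inr (Or.inl ⟨F, i1, i2, m, hF, by omega, ⟨e⟩⟩))⟩)
        · refine Or.inl (big_of (by omega) (fq_PSU_even hF (m := m) (by omega) (p := p)) e fun i => ?_)
          split_ifs
          · omega
          · omega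
      · refine Or.inl (big_of (by omega) (fq_PSU_odd hF (m := m) (by omega) (p := p)) e fun i => ?_)
        split_ifs
        · omega
        · calc 3 ≤ q ^ 2 := by omega
            _ ≤ q ^ 3 := Nat.pow_le_pow_right (by omega) (by omega)
  · obtain ⟨F, i1, i2, i3, m, hm, hF, ⟨e⟩⟩ := h
    have h2 : (2 : F) ≠ 0 := by
      intro h0
      have h1 : CharP F 2 := CharTwo.of_one_ne_zero_of_two_eq_zero one_ne_zero h0
      have h3 : 2 ∣ Fintype.card F := by
        obtain ⟨⟨n, hn⟩, -, hc⟩ := FiniteField.card F 2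
        rw [hc]
        exact dvd_pow_self 2 hn.ne'
      exact (Nat.not_even_iff_odd.2 hF) (even_iff_two_dvd.2 h3)
    refine Or.inl (big_of (by omega) (fq_PO_odd h2 (m := m) (by omega) (p := p)) e fun i => ?_)
    rw [Nat.card_eq_fintype_card]
    have := c2 (F := F)
    obtain ⟨c, hc⟩ := hF
    omega
  · obtain ⟨F, i1, i2, i3, m, hm, ⟨e⟩⟩ := h
    by_cases hF : Fintype.card F = 2
    · exact Or.inr (Or.inl ⟨chr one_ne_zero (by rw [hF]; rfl),
        Or.inr (Or.inr (Or.inr (Or.inl ⟨F, i1, i2, m, hF, hm, ⟨e⟩⟩)))⟩)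
    · obtain ⟨n, rfl⟩ : ∃ n, m = n + 3 := ⟨m - 3, by omega⟩
      refine Or.inl (big_of (by omega) (fq_PO_plus (F := F) n (p := p)) e fun i => ?_)
      rw [Nat.card_eq_fintype_card]
      have := c2 (F := F)
      omega
  · obtain ⟨F, i1, i2, i3, m, a, b, hm, hab, ⟨e⟩⟩ := h
    by_cases hF : Fintype.card F = 2
    · exact Or.inr (Or.inl ⟨chr one_ne_zero (by rw [hF]; rfl),
        Or.inr (Or.inr (Or.inr (Or.inr (Or.inl ⟨F, i1, i2, m, a, b, hF, hm, hab, ⟨e⟩⟩))))⟩)
    · refine Or.inl (big_of (by omega) (fq_PO_minus a b hab (m := m - 1) (by omega) (p := p)) e fun i => ?_)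
      rw [Nat.card_eq_fintype_card]
      have := c2 (F := F)
      split_ifs
      · omega
      · nlinarith only [this]
  · obtain ⟨F, i1, i2, i3, h⟩ := h
    have := c2 (F := F)
    by_cases hF : Fintype.card F = 2
    · rcases h with ⟨h3, -⟩ | h | h | h | h
      · omega
      · exact Or.inr (Or.inl ⟨chr one_ne_zero (by rw [hF]; rfl),
          Or.inr (Or.inr (Or.inr (Or.inr (Or.inr (Or.inl ⟨F, i1, i2, hF, Or.inl h⟩)))))⟩)
      · exact Or.inr (Or.inl ⟨chr one_ne_zero (by rw [hF]; rfl),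
          Or.inr (Or.inr (Or.inr (Or.inr (Or.inr (Or.inl ⟨F, i1, i2, hF, Or.inr (Or.inl h)⟩)))))⟩)
      · exact Or.inr (Or.inl ⟨chr one_ne_zero (by rw [hF]; rfl),
          Or.inr (Or.inr (Or.inr (Or.inr (Or.inr (Or.inl ⟨F, i1, i2, hF, Or.inr (Or.inr (Or.inl h))⟩)))))⟩)
      · exact Or.inr (Or.inl ⟨chr one_ne_zero (by rw [hF]; rfl),
          Or.inr (Or.inr (Or.inr (Or.inr (Or.inr (Or.inl ⟨F, i1, i2, hF, Or.inr (Or.inr (Or.inr h))⟩)))))⟩)
    · have hq : ∀ i : ℕ, 3 ≤ Nat.card F := fun _ => by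
        rw [Nat.card_eq_fintype_card]
        omega
      rcases h with ⟨-, ⟨e⟩⟩ | ⟨⟨e⟩⟩ | ⟨⟨e⟩⟩ | ⟨⟨e⟩⟩ | ⟨⟨e⟩⟩
      · exact Or.inl (big_of (l := 2) (by omega)
          (fq_group (by simp [IsType, typeList] : IsType Lie.chevG2 2 CoxeterMatrix.G₂) F p) e fun _ => hq 0)
      · exact Or.inl (big_of (l := 4) (by omega)
          (fq_group (by simp [IsType, typeList] : IsType Lie.chevF4 4 CoxeterMatrix.F₄) F p) e fun _ => hq 0)
      · exact Or.inl (big_of (l := 6) (by omega)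
          (fq_group (by simp [IsType, typeList] : IsType Lie.chevE6 6 CoxeterMatrix.E₆) F p) e fun _ => hq 0)
      · exact Or.inl (big_of (l := 7) (by omega)
          (fq_group (by simp [IsType, typeList] : IsType Lie.chevE7 7 CoxeterMatrix.E₇) F p) e fun _ => hq 0)
      · exact Or.inl (big_of (l := 8) (by omega)
          (fq_group (by simp [IsType, typeList] : IsType Lie.chevE8 8 CoxeterMatrix.E₈) F p) e fun _ => hq 0)
  · obtain ⟨K, i1, i2, i3, q, hq, h⟩ := h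
    have hq2 := hq.two_le
    rcases h with ⟨hK, ⟨e⟩⟩ | ⟨hK, ⟨e⟩⟩
    · by_cases h2 : q = 2
      · subst h2
        exact Or.inr (Or.inl ⟨chr two_ne_zero hK,
          Or.inr (Or.inr (Or.inr (Or.inr (Or.inr (Or.inr (Or.inl ⟨K, i1, i2, hK, ⟨e⟩⟩))))))⟩)
      · refine Or.inl (big_of (l := 4) (by omega) (fq_twE6 hq hK p) e fun i => ?_)
        split_ifs
        · omega
        · nlinarith only [hq2]
    · by_cases h2 : q = 2
      · subst h2
        exact Or.inr (Or.inl ⟨chr three_ne_zero hK,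
          Or.inr (Or.inr (Or.inr (Or.inr (Or.inr (Or.inr (Or.inr ⟨K, i1, i2, hK, ⟨e⟩⟩))))))⟩)
      · refine Or.inl (big_of (l := 2) (by omega) (fq_twD4 hq hK p) e fun i => ?_)
        split_ifs
        · omega
        · calc 3 ≤ q := by omega
            _ ≤ q ^ 3 := Nat.le_self_pow (by omega) q
  · exact Or.inr (Or.inr (Or.inl (Or.inr (Or.inr (Or.inl h)))))
  · exact Or.inr (Or.inr (Or.inr h))
  · exact Or.inr (Or.inr (Or.inl (Or.inr (Or.inr (Or.inr h)))))

/-- **Own characteristic: what is left.** -/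
theorem own_reduce {G : Type} [Group G] [Finite G] [IsSimpleGroup G] {p : ℕ} [Fact p.Prime] (hG : HasFilt p G)
    {H N : Subgroup G} {T : Type} [Group T] {k : ℕ} {e : N ≃* (Fin k → T)} (h : EPS H N e)
    (hT : IsLieTypeChar p T) : (p = 2 ∧ OverTwo T) ∨ RankOne p T ∨ (p = 2 ∧ Lie.Iso2F4 T) := by
  classical
  have hfin : Finite T := by
    have : Nonempty (Fin k) := ⟨⟨0, h.pos⟩⟩
    have h1 : Finite (Fin k → T) := Finite.of_equiv N e.toEquiv
    exact Finite.of_surjective (fun f : Fin k → T => f ⟨0, h.pos⟩) fun t => ⟨fun _ => t, rfl⟩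
  rcases own_cases hT with ⟨l, M, hl, hF⟩ | h1
  · exfalso
    have hnab : ∃ a b : G, a * b ≠ b * a := by
      obtain ⟨a, b, hab⟩ := h.nab
      refine ⟨(e.symm (fun _ => a) : N), (e.symm (fun _ => b) : N), fun h3 => hab ?_⟩
      have h4 : e.symm (fun _ => a) * e.symm (fun _ => b) = e.symm (fun _ => b) * e.symm (fun _ => a) := Subtype.ext h3
      rw [← map_mul, ← map_mul] at h4
      exact congrFun (e.symm.injective h4) ⟨0, h.pos⟩
    exact Cfsg.Agent.H470.EPO.own_S_filtC hl h hG hnab (j := MonoidHom.id G) Function.injective_id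
      (by rw [MonoidHom.range_eq_top.2 Function.surjective_id]; infer_instance)
      (by rw [MonoidHom.range_eq_top.2 Function.surjective_id]; exact le_top) hF
  · exact h1

/-- no socle over the field with two elements -/
def OwnQ2 (G : Type) [Group G] : Prop :=
  ∀ (H N : Subgroup G) (T : Type) [Group T] (k : ℕ) (e : N ≃* (Fin k → T)), EPS H N e → OverTwo T → False

/-- no socle of rank one -/
def OwnR1 (p : ℕ) (G : Type) [Group G] : Prop :=
  ∀ (H N : Subgroup G) (T : Type) [Group T] (k : ℕ) (e : N ≃* (Fin k → T)), EPS H N e → RankOne p T → False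

/-- no socle `²F₄(q) ^ k` -/
def OwnTF4 (G : Type) [Group G] : Prop :=
  ∀ (H N : Subgroup G) (T : Type) [Group T] (k : ℕ) (e : N ≃* (Fin k → T)), EPS H N e → Lie.Iso2F4 T → False

/-- **`Own p G` from the three remaining cells** -/
theorem own_of {G : Type} [Group G] [Finite G] [IsSimpleGroup G] {p : ℕ} [Fact p.Prime] (hG : HasFilt p G)
    (h2 : p = 2 → OwnQ2 G) (h1 : OwnR1 p G) (h3 : p = 2 → OwnTF4 G) : Own p G := by
  intro H N T _ k e h hT
  rcases own_reduce hG h hT with ⟨hp, h4⟩ | h4 | ⟨hp, h4⟩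
  · exact h2 hp H N T k e h h4
  · exact h1 H N T k e h h4
  · exact h3 hp H N T k e h h4

end Cfsg.Agent.H542.EPX
end

private theorem dce_c78fe06531a9 : _root_.True := by
  try have : _root_.True := by simp only [_root_.Cfsg.Agent.TitsThree.KSideO.embOdd.eq_1]
  try have : _root_.True := by simp only [_root_.Cfsg.Agent.TitsThree.KSideO.embMinus.eq_1]
  try have : _root_.True := by simp only [_root_.Cfsg.Agent.TitsThree.B2Frame.Emb.mk.congr_simp]
  exact _root_.True.intro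
end
end
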